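import Cfsg.Agent.Lib.CharDeep.Glauberman.ModP
import Cfsg.Agent.Lib.Char.ClassSum
import Cfsg.Agent.Lib.Char.Constituent
import Cfsg.Agent.Lib.Char.Quotient

/-!
# The Glauberman correspondence for a `p`-group of operators

A `p`-group `P` acts on a finite group `G` of order prime to `p` through `φ`, and `ι : C →* G`
embeds the group of fixed points.  Reducing the two orthogonality relations modulo `p` shows that
the matrix of multiplicities `[χ ∘ ι, β]` between invariant characters of `G` and characters of `C`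
is monomial with entries `±1` modulo `p`.
-/

set_option autoImplicit false

namespace CfsgLib.CharDeep.Glauberman

open CfsgLib
open scoped ComplexConjugate

variable {P G C : Type*} [Group P] [Group G] [Group C]

/-- `χ` is fixed by the operators. -/
def Inv (φ : P →* MulAut G) (χ : G → ℂ) : Prop := ∀ s g, χ (φ s g) = χ g

/-- The permutation action of the operators on irreducible characters. -/
noncomputable def irrPerm (φ : P →* MulAut G) : P →* Equiv.Perm (Cfsg.IrrCharacter G) where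
  toFun s :=
    { toFun := fun χ => ⟨(χ : G → ℂ) ∘ (φ s).symm, Char.IsIrrCharacter.comp_equiv χ.2 (φ s).symm⟩
      invFun := fun χ => ⟨(χ : G → ℂ) ∘ (φ s), Char.IsIrrCharacter.comp_equiv χ.2 (φ s)⟩
      left_inv := fun χ => Subtype.ext (funext fun g => by simp [Function.comp])
      right_inv := fun χ => Subtype.ext (funext fun g => by simp [Function.comp]) }
  map_one' := Equiv.ext fun χ => Subtype.ext (funext fun g => by
    simp only [map_one, Equiv.coe_fn_mk, Function.comp, Equiv.Perm.one_apply]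
    rfl)
  map_mul' s t := Equiv.ext fun χ => Subtype.ext (funext fun g => by
    simp only [map_mul, Equiv.coe_fn_mk, Function.comp, Equiv.Perm.mul_apply]
    rfl)

theorem irrPerm_apply (φ : P →* MulAut G) (s : P) (χ : Cfsg.IrrCharacter G) (g : G) :
    ((irrPerm φ s χ : Cfsg.IrrCharacter G) : G → ℂ) g = (χ : G → ℂ) ((φ s).symm g) := rfl

theorem irrPerm_fixed_iff {φ : P →* MulAut G} {χ : Cfsg.IrrCharacter G} :
    (∀ s, irrPerm φ s χ = χ) ↔ Inv φ χ := by
  constructor
  · intro h s g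
    have := congrArg (fun ψ : Cfsg.IrrCharacter G => (ψ : G → ℂ) g) (h s⁻¹)
    simp only [irrPerm_apply, map_inv] at this
    exact this
  · intro h s
    refine Subtype.ext (funext fun g => ?_)
    rw [irrPerm_apply]
    have := h s ((φ s).symm g)
    rw [MulEquiv.apply_symm_apply] at this
    exact this.symm

/-- Conjugation of the operators on the group itself. -/
def grpPerm (φ : P →* MulAut G) : P →* Equiv.Perm G where
  toFun s := (φ s).toEquiv
  map_one' := by rw [map_one]; rfl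
  map_mul' s t := by rw [map_mul]; rfl

/-- The standing hypotheses. -/
structure Setup (p : ℕ) (φ : P →* MulAut G) (ι : C →* G) : Prop where
  prime : p.Prime
  pgroup : IsPGroup p P
  inj : Function.Injective ι
  range_iff : ∀ g : G, (∀ s, φ s g = g) ↔ ∃ c, ι c = g
  not_dvd : ¬ p ∣ Nat.card G

variable [Fintype G] [Fintype C] {p : ℕ} {φ : P →* MulAut G} {ι : C →* G}

open Classical in
/-- The invariant irreducible characters. -/
noncomputable def invSet (φ : P →* MulAut G) : Finset (Cfsg.IrrCharacter G) :=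
  Finset.univ.filter fun χ => Inv φ χ.1

omit [Fintype C] in
theorem mem_invSet {χ : Cfsg.IrrCharacter G} : χ ∈ invSet φ ↔ Inv φ (χ : G → ℂ) := by
  simp [invSet]

/-- The multiplicity of `β` in the restriction of `χ`. -/
noncomputable def mult (ι : C →* G) (χ : Cfsg.IrrCharacter G) (β : Cfsg.IrrCharacter C) : ℕ :=
  (Char.IsCharacter.classInner_nat (Char.IsCharacter.comp (Char.isCharacter_irr χ) ι)
    (Char.isCharacter_irr β)).choose

theorem mult_spec (ι : C →* G) (χ : Cfsg.IrrCharacter G) (β : Cfsg.IrrCharacter C) :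
    Cfsg.classInner ((χ : G → ℂ) ∘ ι) (β : C → ℂ) = (mult ι χ β : ℂ) :=
  (Char.IsCharacter.classInner_nat (Char.IsCharacter.comp (Char.isCharacter_irr χ) ι)
    (Char.isCharacter_irr β)).choose_spec

theorem comp_eq_sum (ι : C →* G) (χ : Cfsg.IrrCharacter G) (c : C) :
    (χ : G → ℂ) (ι c) = ∑ β : Cfsg.IrrCharacter C, (mult ι χ β : ℂ) * (β : C → ℂ) c := by
  have h := congrFun (Char.IsClassFunction.eq_sum_irr (Char.IsCharacter.isClassFunction
    (Char.IsCharacter.comp (Char.isCharacter_irr χ) ι))) c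
  rw [Finset.sum_apply] at h
  exact h.trans (Finset.sum_congr rfl fun β _ => by
    rw [Pi.smul_apply, smul_eq_mul, mult_spec])

theorem sum_mul_conj_irr (f : C → ℂ) (β : Cfsg.IrrCharacter C) :
    ∑ c, f c * conj ((β : C → ℂ) c) =
      (Nat.card C : ℂ) * Cfsg.classInner f (β : C → ℂ) := by
  rw [Cfsg.classInner, ← mul_assoc, mul_inv_cancel₀ Char.card_ne_zero, one_mul]

theorem isIntegral_conj_irr (β : Cfsg.IrrCharacter C) (c : C) :
    IsIntegral ℤ (conj ((β : C → ℂ) c)) :=
  Char.IsCharacter.isIntegral (Char.IsCharacter.conj' (Char.isCharacter_irr β)) c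

theorem sum_swap {α : Type*} {s : Finset α} (f : α → C → ℂ) (g : C → C → ℂ) :
    ∑ c, ∑ d, (∑ a ∈ s, f a c * conj (f a d)) * g c d =
      ∑ a ∈ s, ∑ c, ∑ d, f a c * conj (f a d) * g c d := by
  conv_rhs => rw [Finset.sum_comm]
  refine Finset.sum_congr rfl fun c _ => ?_
  conv_rhs => rw [Finset.sum_comm]
  exact Finset.sum_congr rfl fun d _ => Finset.sum_mul _ _ _

variable (hs : Setup p φ ι)
include hs

theorem Setup.card_fixed : Nat.card G ≡ Nat.card C [MOD p] := by
  haveI : Fact p.Prime := ⟨hs.prime⟩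
  letI : MulAction P G := MulAction.compHom G (grpPerm φ)
  refine (hs.pgroup.card_modEq_card_fixedPoints G).trans (congrArg (· % p) ?_)
  refine (Nat.card_congr (Equiv.ofBijective
    (fun c => (⟨ι c, fun s => (hs.range_iff _).mpr ⟨c, rfl⟩ s⟩ : MulAction.fixedPoints P G))
    ⟨fun a b h => hs.inj (congrArg Subtype.val h), fun x => ?_⟩)).symm
  obtain ⟨c, hc⟩ := (hs.range_iff x.1).mp x.2
  exact ⟨c, Subtype.ext hc⟩

theorem Setup.not_dvd_card : ¬ p ∣ Nat.card C := fun h => hs.not_dvd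
  (Nat.modEq_zero_iff_dvd.mp (hs.card_fixed.trans (Nat.modEq_zero_iff_dvd.mpr h)))

theorem Setup.map_fixed (s : P) (c : C) : φ s (ι c) = ι c := (hs.range_iff _).mpr ⟨c, rfl⟩ s

theorem Setup.symm_fixed (s : P) (c : C) : (φ s).symm (ι c) = ι c := by
  rw [MulEquiv.symm_apply_eq]; exact (hs.map_fixed s c).symm

theorem Setup.isConj_of_isConj {c d : C} (h : IsConj (ι c) (ι d)) : IsConj c d := by
  classical
  haveI : Fact p.Prime := ⟨hs.prime⟩
  obtain ⟨g₀, hg₀⟩ := isConj_iff.mp h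
  let X := {g : G // g * ι c * g⁻¹ = ι d}
  let π : P →* Equiv.Perm X :=
    { toFun := fun s => ((φ s).toEquiv).subtypeEquiv fun g => by
        show g * ι c * g⁻¹ = ι d ↔ φ s g * ι c * (φ s g)⁻¹ = ι d
        conv_rhs => rw [← hs.map_fixed s c, ← hs.map_fixed s d, ← map_inv, ← map_mul, ← map_mul,
          (φ s).injective.eq_iff]
      map_one' := Equiv.ext fun g => Subtype.ext (by simp)
      map_mul' := fun s t => Equiv.ext fun g => Subtype.ext (by simp) }
  letI : MulAction P X := MulAction.compHom X π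
  have e : Subgroup.centralizer ({ι c} : Set G) ≃ X :=
    { toFun := fun z => ⟨g₀ * z.1, by
        have hz : ι c * z.1 = z.1 * ι c := Subgroup.mem_centralizer_iff.mp z.2 (ι c) rfl
        rw [mul_assoc g₀, ← hz]
        calc g₀ * (ι c * z.1) * (g₀ * z.1)⁻¹ = g₀ * ι c * g₀⁻¹ := by group
          _ = ι d := hg₀⟩
      invFun := fun g => ⟨g₀⁻¹ * g.1, by
        rw [Subgroup.mem_centralizer_iff]
        rintro y rfl
        calc ι c * (g₀⁻¹ * g.1) = g₀⁻¹ * (g₀ * ι c * g₀⁻¹) * g.1 := by group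
          _ = g₀⁻¹ * (g.1 * ι c * g.1⁻¹) * g.1 := by rw [hg₀, g.2]
          _ = g₀⁻¹ * g.1 * ι c := by group⟩
      left_inv := fun z => Subtype.ext (by simp)
      right_inv := fun g => Subtype.ext (by simp) }
  have hX : ¬ p ∣ Nat.card X := fun hd => hs.not_dvd (hd.trans
    (Nat.card_congr e ▸ Subgroup.card_subgroup_dvd_card _))
  obtain ⟨x, hx⟩ := hs.pgroup.nonempty_fixed_point_of_prime_not_dvd_card X hX
  obtain ⟨z, hz⟩ := (hs.range_iff x.1).mp fun s => congrArg Subtype.val (hx s)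
  refine isConj_iff.mpr ⟨z, hs.inj ?_⟩
  rw [map_mul, map_mul, map_inv, hz]
  exact x.2

theorem Setup.exists_of_fixed_class {g : G} (hg : ∀ s, IsConj (φ s g) g) :
    ∃ c, IsConj (ι c) g := by
  classical
  haveI : Fact p.Prime := ⟨hs.prime⟩
  let X := {x : G // IsConj x g}
  have hmem : ∀ s (x : G), IsConj x g ↔ IsConj (φ s x) g := fun s x => by
    refine ⟨fun hx => ((φ s).toMonoidHom.map_isConj hx).trans (hg s), fun hx => ?_⟩
    have h1 := ((φ s).symm.toMonoidHom.map_isConj (hx.trans (hg s).symm))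
    simpa using h1
  let π : P →* Equiv.Perm X :=
    { toFun := fun s => ((φ s).toEquiv).subtypeEquiv fun x => hmem s x
      map_one' := Equiv.ext fun x => Subtype.ext (by simp)
      map_mul' := fun s t => Equiv.ext fun x => Subtype.ext (by simp) }
  letI : MulAction P X := MulAction.compHom X π
  have hX : ¬ p ∣ Nat.card X := fun hd => hs.not_dvd (hd.trans
    (Dvd.intro _ (Char.card_conjugates_mul g)))
  obtain ⟨x, hx⟩ := hs.pgroup.nonempty_fixed_point_of_prime_not_dvd_card X hX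
  obtain ⟨z, hz⟩ := (hs.range_iff x.1).mp fun s => congrArg Subtype.val (hx s)
  exact ⟨z, hz ▸ x.2⟩

theorem Setup.card_centralizer (c : C) :
    Nat.card (Subgroup.centralizer ({ι c} : Set G)) ≡
      Nat.card (Subgroup.centralizer ({c} : Set C)) [MOD p] := by
  classical
  haveI : Fact p.Prime := ⟨hs.prime⟩
  let X := Subgroup.centralizer ({ι c} : Set G)
  have hmem : ∀ s (x : G), x ∈ X ↔ φ s x ∈ X := fun s x => by
    simp only [X, Subgroup.mem_centralizer_iff, Set.mem_singleton_iff, forall_eq]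
    conv_rhs => rw [← hs.map_fixed s c, ← map_mul, ← map_mul, (φ s).injective.eq_iff]
  let π : P →* Equiv.Perm X :=
    { toFun := fun s => ((φ s).toEquiv).subtypeEquiv fun x => hmem s x
      map_one' := Equiv.ext fun x => Subtype.ext (by simp)
      map_mul' := fun s t => Equiv.ext fun x => Subtype.ext (by simp) }
  letI : MulAction P X := MulAction.compHom X π
  refine (hs.pgroup.card_modEq_card_fixedPoints X).trans (congrArg (· % p) ?_)
  refine (Nat.card_congr (Equiv.ofBijective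
    (fun z : Subgroup.centralizer ({c} : Set C) => (⟨⟨ι z.1, by
      simp only [X, Subgroup.mem_centralizer_iff, Set.mem_singleton_iff, forall_eq]
      rw [← map_mul, ← map_mul, Subgroup.mem_centralizer_iff.mp z.2 c rfl]⟩,
      fun s => Subtype.ext (show φ s (ι z.1) = ι z.1 from hs.map_fixed s z.1)⟩ : MulAction.fixedPoints P X))
    ⟨fun a b h => Subtype.ext (hs.inj (congrArg (fun v : MulAction.fixedPoints P X => (v.1.1 : G)) h)),
      fun x => ?_⟩)).symm
  obtain ⟨z, hz⟩ := (hs.range_iff x.1.1).mp fun s => congrArg Subtype.val (x.2 s)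
  refine ⟨⟨z, ?_⟩, Subtype.ext (Subtype.ext hz)⟩
  rw [Subgroup.mem_centralizer_iff]
  rintro y rfl
  have h := Subgroup.mem_centralizer_iff.mp x.1.2 (ι y) rfl
  rw [← hz, ← map_mul, ← map_mul] at h
  exact hs.inj h

/-- Distinct invariant characters have no common constituent modulo `p`. -/
theorem Setup.mult_mul_dvd {χ ψ : Cfsg.IrrCharacter G} (hχ : Inv φ (χ : G → ℂ))
    (hψ : Inv φ (ψ : G → ℂ)) (hne : χ ≠ ψ) (β : Cfsg.IrrCharacter C) :
    p ∣ mult ι χ β * mult ι ψ β := by
  classical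
  haveI : Fact p.Prime := ⟨hs.prime⟩
  have hp0 := hs.prime.ne_zero
  let F : C → ℂ := fun c => ∑ x : C, (χ : G → ℂ) (ι x) * (ψ : G → ℂ) (ι (x⁻¹ * c))
  have hF : ∀ c, Cong p (F c) 0 := by
    intro c
    have h := cong_sum_fixed hs.pgroup (grpPerm φ)
      (fun x => (χ : G → ℂ) x * (ψ : G → ℂ) (x⁻¹ * ι c))
      (fun x => (Char.IsCharacter.isIntegral (Char.isCharacter_irr χ) _).mul
        (Char.IsCharacter.isIntegral (Char.isCharacter_irr ψ) _))
      (fun s x => by
        show (χ : G → ℂ) (φ s x) * (ψ : G → ℂ) ((φ s x)⁻¹ * ι c) = _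
        conv_lhs => rw [hχ, ← hs.map_fixed s c, ← map_inv, ← map_mul, hψ])
    rw [Char.IsIrrCharacter.sum_mul_apply χ.2 ψ.2,
      if_neg fun e => hne (Subtype.ext e)] at h
    refine Cong.trans ?_ h.symm
    have e : F c = ∑ x : G with (∀ s, grpPerm φ s x = x),
        (χ : G → ℂ) x * (ψ : G → ℂ) (x⁻¹ * ι c) := by
      refine Finset.sum_bij (fun x _ => ι x) (fun x _ => Finset.mem_filter.mpr
        ⟨Finset.mem_univ _, fun s => hs.map_fixed s x⟩) (fun a _ b _ h => hs.inj h)
        (fun g hg => ?_) (fun x _ => by rw [map_mul, map_inv])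
      obtain ⟨x, hx⟩ := (hs.range_iff g).mp (Finset.mem_filter.mp hg).2
      exact ⟨x, Finset.mem_univ x, hx⟩
    rw [e]
    exact Cong.refl _
  have hsum : Cong p (∑ c, F c * conj ((β : C → ℂ) c)) 0 := by
    have := Cong.sum (p := p) Finset.univ (g := fun _ : C => (0 : ℂ))
      fun c _ => by simpa using (hF c).mul_right (isIntegral_conj_irr β c)
    simpa using this
  have hexp : ∀ c, F c = ∑ γ : Cfsg.IrrCharacter C,
      ((mult ι χ γ : ℂ) * mult ι ψ γ * Nat.card C / (γ : C → ℂ) 1) * (γ : C → ℂ) c := by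
    intro c
    show ∑ x : C, (χ : G → ℂ) (ι x) * (ψ : G → ℂ) (ι (x⁻¹ * c)) = _
    simp only [comp_eq_sum ι, Finset.sum_mul]
    rw [Finset.sum_comm]
    refine Finset.sum_congr rfl fun γ _ => ?_
    simp only [Finset.mul_sum]
    rw [Finset.sum_comm, Finset.sum_eq_single γ]
    · have h1 := Char.IsIrrCharacter.sum_mul_apply γ.2 γ.2 c
      rw [if_pos rfl] at h1
      rw [show (mult ι χ γ : ℂ) * mult ι ψ γ * Nat.card C / (γ : C → ℂ) 1 * (γ : C → ℂ) c =
        (mult ι χ γ : ℂ) * mult ι ψ γ * ((Nat.card C : ℂ) * (γ : C → ℂ) c / (γ : C → ℂ) 1) by ring,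
        ← h1, Finset.mul_sum]
      exact Finset.sum_congr rfl fun x _ => by ring
    · intro δ _ hδ
      have h1 := Char.IsIrrCharacter.sum_mul_apply γ.2 δ.2 c
      rw [if_neg fun e => hδ (Subtype.ext e).symm] at h1
      rw [show ∑ x : C, (mult ι χ γ : ℂ) * (γ : C → ℂ) x *
          ((mult ι ψ δ : ℂ) * (δ : C → ℂ) (x⁻¹ * c)) =
        (mult ι χ γ : ℂ) * mult ι ψ δ * ∑ x : C, (γ : C → ℂ) x * (δ : C → ℂ) (x⁻¹ * c) by
          rw [Finset.mul_sum]; exact Finset.sum_congr rfl fun x _ => by ring, h1, mul_zero]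
    · exact fun h => absurd (Finset.mem_univ _) h
  have hval : ∑ c, F c * conj ((β : C → ℂ) c) =
      (Nat.card C : ℂ) * ((mult ι χ β : ℂ) * mult ι ψ β * Nat.card C / (β : C → ℂ) 1) := by
    rw [sum_mul_conj_irr, show F = ∑ γ : Cfsg.IrrCharacter C,
      ((mult ι χ γ : ℂ) * mult ι ψ γ * Nat.card C / (γ : C → ℂ) 1) • (γ : C → ℂ) from
      funext fun c => by rw [hexp, Finset.sum_apply]; rfl, Char.classInner_sum_left,
      Finset.sum_eq_single β]
    · rw [Char.classInner_smul_left, Char.classInner_irr_self β.2, mul_one]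
    · intro γ _ hγ
      rw [Char.classInner_smul_left,
        Char.classInner_irr_ne γ.2 β.2 (fun e => hγ (Subtype.ext e)), mul_zero]
    · exact fun h => absurd (Finset.mem_univ _) h
  rw [hval] at hsum
  obtain ⟨b, -, hb⟩ := Char.IsIrrCharacter.apply_one_dvd_card β.2
  have h2 := hsum.mul_right (Char.IsCharacter.isIntegral (Char.isCharacter_irr β) (1 : C))
  have h3 : Cong p (((Nat.card C * Nat.card C * (mult ι χ β * mult ι ψ β) : ℕ)) : ℂ) 0 := by
    rw [zero_mul] at h2
    convert h2 using 1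
    push_cast
    field_simp [Char.IsIrrCharacter.apply_one_ne_zero β.2]
  rw [Cong.nat_zero_iff hp0] at h3
  exact ((hs.prime.dvd_mul.mp h3).resolve_left fun h =>
    hs.not_dvd_card ((hs.prime.dvd_mul.mp h).elim id id))

open Classical in
/-- The multiplicity matrix is orthogonal modulo `p`. -/
theorem Setup.sum_mult_mul (β γ : Cfsg.IrrCharacter C) :
    (∑ χ ∈ invSet φ, mult ι χ β * mult ι χ γ) ≡
      (if β = γ then 1 else 0) [MOD p] := by
  haveI : Fact p.Prime := ⟨hs.prime⟩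
  have hp0 := hs.prime.ne_zero
  have key : ∀ c d : C,
      Cong p (∑ χ ∈ invSet φ,
          (χ : G → ℂ) (ι c) * conj ((χ : G → ℂ) (ι d)))
        (∑ δ : Cfsg.IrrCharacter C, (δ : C → ℂ) c * conj ((δ : C → ℂ) d)) := by
    intro c d
    have h := cong_sum_fixed hs.pgroup (irrPerm φ)
      (fun χ : Cfsg.IrrCharacter G => (χ : G → ℂ) (ι c) * conj ((χ : G → ℂ) (ι d)))
      (fun χ => (Char.IsCharacter.isIntegral (Char.isCharacter_irr χ) _).mul
        (Char.IsCharacter.isIntegral (Char.IsCharacter.conj' (Char.isCharacter_irr χ)) _))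
      (fun s χ => by simp only [irrPerm_apply, hs.symm_fixed])
    rw [show (Finset.univ.filter fun χ : Cfsg.IrrCharacter G => ∀ s, irrPerm φ s χ = χ) = invSet φ
      from Finset.ext fun χ => by simp [invSet, irrPerm_fixed_iff]] at h
    refine h.symm.trans ?_
    rw [Char.sum_irr_mul_conj, Char.sum_irr_mul_conj]
    by_cases hc : IsConj c d
    · rw [if_pos (ι.map_isConj hc), if_pos hc, Cong.nat_iff hp0]
      exact hs.card_centralizer d
    · rw [if_neg fun h' => hc (hs.isConj_of_isConj h'), if_neg hc]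
      exact Cong.refl _
  have hsum := Cong.sum (p := p) Finset.univ fun c (_ : c ∈ (Finset.univ : Finset C)) =>
    Cong.sum (p := p) Finset.univ fun d (_ : d ∈ (Finset.univ : Finset C)) =>
      (key c d).mul_right ((isIntegral_conj_irr β c).mul
        (Char.IsCharacter.isIntegral (Char.isCharacter_irr γ) d))
  have hsplit : ∀ (f : C → ℂ), ∑ c, ∑ d, f c * conj (f d) *
      (conj ((β : C → ℂ) c) * (γ : C → ℂ) d) =
      (Nat.card C : ℂ) * Cfsg.classInner f (β : C → ℂ) *
        conj ((Nat.card C : ℂ) * Cfsg.classInner f (γ : C → ℂ)) := by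
    intro f
    rw [← sum_mul_conj_irr, ← sum_mul_conj_irr, map_sum, Finset.sum_mul_sum]
    refine Finset.sum_congr rfl fun c _ => Finset.sum_congr rfl fun d _ => ?_
    rw [map_mul, Complex.conj_conj]
    ring
  rw [sum_swap (fun (χ : Cfsg.IrrCharacter G) (c : C) => (χ : G → ℂ) (ι c)) (fun c d => conj ((β : C → ℂ) c) * (γ : C → ℂ) d),
    sum_swap (fun (δ : Cfsg.IrrCharacter C) (c : C) => (δ : C → ℂ) c) (fun c d => conj ((β : C → ℂ) c) * (γ : C → ℂ) d)] at hsum
  have h1 : ∀ χ : Cfsg.IrrCharacter G,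
      ∑ c : C, ∑ d : C, (χ : G → ℂ) (ι c) * conj ((χ : G → ℂ) (ι d)) *
        (conj ((β : C → ℂ) c) * (γ : C → ℂ) d) =
      ((Nat.card C * Nat.card C * (mult ι χ β * mult ι χ γ) : ℕ) : ℂ) := fun χ => by
    refine (hsplit ((χ : G → ℂ) ∘ ι)).trans ?_
    rw [mult_spec, mult_spec, map_mul, Complex.conj_natCast, Complex.conj_natCast]
    push_cast
    ring
  have h2 : ∀ δ : Cfsg.IrrCharacter C,
      ∑ c : C, ∑ d : C, (δ : C → ℂ) c * conj ((δ : C → ℂ) d) *
        (conj ((β : C → ℂ) c) * (γ : C → ℂ) d) =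
      ((if δ = β ∧ δ = γ then Nat.card C * Nat.card C else 0 : ℕ) : ℂ) := fun δ => by
    refine (hsplit (δ : C → ℂ)).trans ?_
    rw [Char.classInner_irrCharacter, Char.classInner_irrCharacter]
    by_cases e1 : δ = β <;> by_cases e2 : δ = γ
    · subst e1 e2; simp
    · simp [e1, e2, show β ≠ γ from fun h => e2 (e1.trans h)]
    · simp [e1, e2]
    · simp [e1, e2]
  rw [Finset.sum_congr rfl fun χ _ => h1 χ, Finset.sum_congr rfl fun δ _ => h2 δ,
    ← Nat.cast_sum, ← Nat.cast_sum, Cong.nat_iff hp0] at hsum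
  have h3 : (∑ δ : Cfsg.IrrCharacter C, if δ = β ∧ δ = γ then Nat.card C * Nat.card C else 0) =
      Nat.card C * Nat.card C * if β = γ then 1 else 0 := by
    by_cases e : β = γ
    · subst e
      simp
    · rw [if_neg e, mul_zero]
      exact Finset.sum_eq_zero fun δ _ => if_neg fun h => e (h.1.symm.trans h.2)
  rw [h3, ← Finset.mul_sum] at hsum
  have hcop : Nat.Coprime p (Nat.card C * Nat.card C) := (hs.prime.coprime_iff_not_dvd).mpr
    fun h => hs.not_dvd_card ((hs.prime.dvd_mul.mp h).elim id id)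
  exact Nat.ModEq.cancel_left_of_coprime hcop hsum

theorem Setup.exists_mult (χ : Cfsg.IrrCharacter G) :
    ∃ β, ¬ p ∣ mult ι χ β := by
  classical
  by_contra h
  push Not at h
  obtain ⟨n, hn, hdvd⟩ := Char.IsIrrCharacter.apply_one_dvd_card χ.2
  have hb : ∀ β : Cfsg.IrrCharacter C, IsIntegral ℤ ((β : C → ℂ) 1) := fun β =>
    Char.IsCharacter.isIntegral (Char.isCharacter_irr β) 1
  have h1 := comp_eq_sum ι χ 1
  rw [map_one, hn] at h1
  have h2 : Cong p (n : ℂ) 0 := by
    rw [h1]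
    have := Cong.sum (p := p) Finset.univ (g := fun _ : Cfsg.IrrCharacter C => (0 : ℂ))
      fun β _ => by simpa using ((Cong.nat_zero_iff hs.prime.ne_zero _).mpr (h β)).mul_right (hb β)
    simpa using this
  rw [Cong.nat_zero_iff hs.prime.ne_zero] at h2
  exact hs.not_dvd (h2.trans hdvd)

theorem Setup.exists_inv_mult (β : Cfsg.IrrCharacter C) :
    ∃ χ : Cfsg.IrrCharacter G, Inv φ (χ : G → ℂ) ∧ ¬ p ∣ mult ι χ β := by
  classical
  by_contra h
  push Not at h
  have h1 := hs.sum_mult_mul β β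
  rw [if_pos rfl] at h1
  have h2 : p ∣ ∑ χ ∈ invSet φ, mult ι χ β * mult ι χ β :=
    Finset.dvd_sum fun χ hχ => Dvd.dvd.mul_left (h χ (mem_invSet.mp hχ)) _
  exact hs.prime.not_dvd_one ((h1.dvd_iff dvd_rfl).mp h2)

theorem Setup.inv_unique {χ ψ : Cfsg.IrrCharacter G} (hχ : Inv φ (χ : G → ℂ))
    (hψ : Inv φ (ψ : G → ℂ)) {β : Cfsg.IrrCharacter C} (h1 : ¬ p ∣ mult ι χ β)
    (h2 : ¬ p ∣ mult ι ψ β) : χ = ψ := by
  by_contra hne
  exact (hs.prime.dvd_mul.mp (hs.mult_mul_dvd hχ hψ hne β)).elim h1 h2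

theorem Setup.sum_eq_single {χ : Cfsg.IrrCharacter G} (hχ : Inv φ (χ : G → ℂ))
    {β : Cfsg.IrrCharacter C} (h1 : ¬ p ∣ mult ι χ β) (γ : Cfsg.IrrCharacter C) :
    mult ι χ β * mult ι χ γ ≡ (open Classical in if β = γ then 1 else 0) [MOD p] := by
  classical
  refine Nat.ModEq.trans ?_ (hs.sum_mult_mul β γ)
  rw [← Finset.sum_erase_add _ _ (mem_invSet.mpr hχ)]
  conv_lhs => rw [← zero_add (mult ι χ β * mult ι χ γ)]
  refine Nat.ModEq.add_right _ ((Nat.modEq_zero_iff_dvd.mpr (Finset.dvd_sum fun ψ hψ => ?_)).symm)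
  simp only [Finset.mem_erase, mem_invSet] at hψ
  exact Dvd.dvd.mul_right (by_contra fun h => hψ.1 (hs.inv_unique hψ.2 hχ h h1)) _

theorem Setup.mult_unique {χ : Cfsg.IrrCharacter G} (hχ : Inv φ (χ : G → ℂ))
    {β γ : Cfsg.IrrCharacter C} (h1 : ¬ p ∣ mult ι χ β) (h2 : ¬ p ∣ mult ι χ γ) : β = γ := by
  by_contra hne
  have h := hs.sum_eq_single hχ h1 γ
  rw [if_neg hne, Nat.modEq_zero_iff_dvd] at h
  exact (hs.prime.dvd_mul.mp h).elim h1 h2

theorem Setup.mult_sign {χ : Cfsg.IrrCharacter G} (hχ : Inv φ (χ : G → ℂ))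
    {β : Cfsg.IrrCharacter C} (h1 : ¬ p ∣ mult ι χ β) :
    (mult ι χ β : ℤ) ≡ 1 [ZMOD p] ∨ (mult ι χ β : ℤ) ≡ -1 [ZMOD p] := by
  have h := hs.sum_eq_single hχ h1 β
  rw [if_pos rfl] at h
  have h' : (p : ℤ) ∣ ((mult ι χ β : ℤ) - 1) * ((mult ι χ β : ℤ) + 1) := by
    have := Int.modEq_iff_dvd.mp (Int.natCast_modEq_iff.mpr h)
    push_cast at this
    rw [show ((mult ι χ β : ℤ) - 1) * ((mult ι χ β : ℤ) + 1) =
      -(1 - (mult ι χ β : ℤ) * (mult ι χ β : ℤ)) by ring, dvd_neg]
    exact this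
  rcases (Nat.prime_iff_prime_int.mp hs.prime).dvd_mul.mp h' with h3 | h3
  · exact Or.inl ((Int.modEq_iff_dvd.mpr h3).symm)
  · exact Or.inr ((Int.modEq_iff_dvd.mpr (by simpa using h3)).symm)

/-- The correspondent of an invariant character. -/
noncomputable def Setup.corr (χ : Cfsg.IrrCharacter G) : Cfsg.IrrCharacter C :=
  (hs.exists_mult χ).choose

theorem Setup.corr_spec (χ : Cfsg.IrrCharacter G) : ¬ p ∣ mult ι χ (hs.corr χ) :=
  (hs.exists_mult χ).choose_spec

theorem Setup.corr_bijective : Function.Bijective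
    fun χ : {χ : Cfsg.IrrCharacter G // Inv φ (χ : G → ℂ)} => hs.corr χ.1 := by
  refine ⟨fun χ ψ h => Subtype.ext (hs.inv_unique χ.2 ψ.2 (hs.corr_spec χ.1) ?_), fun β => ?_⟩
  · simp only at h
    rw [h]
    exact hs.corr_spec ψ.1
  · obtain ⟨χ, hχ, h⟩ := hs.exists_inv_mult β
    exact ⟨⟨χ, hχ⟩, hs.mult_unique hχ (hs.corr_spec χ) h⟩

omit hs in
/-- Multiplicities are natural in automorphisms. -/
theorem mult_comp_equiv (α : G ≃* G) (α' : C ≃* C) (hα : ∀ c, ι (α' c) = α (ι c))
    {χ χ' : Cfsg.IrrCharacter G} {β β' : Cfsg.IrrCharacter C}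
    (hχ : ∀ g, (χ' : G → ℂ) g = (χ : G → ℂ) (α g))
    (hβ : ∀ c, (β' : C → ℂ) c = (β : C → ℂ) (α' c)) : mult ι χ' β' = mult ι χ β := by
  apply Nat.cast_injective (R := ℂ)
  rw [← mult_spec, ← mult_spec, ← Char.classInner_reindex α' ((χ : G → ℂ) ∘ ι) (β : C → ℂ)]
  congr 1
  · funext c
    simp only [Function.comp, hχ, hα]
  · exact funext hβ

end CfsgLib.CharDeep.Glauberman
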