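import Cfsg.Agent.Lib.CharDeep.Galois.CharAut
import Cfsg.Agent.Lib.CharDeep.Glauberman.Correspondence
import Cfsg.Agent.Lib.Char.CliffordCorr

/-!
# Gallagher's parametrisation of the characters over an extendible character
-/

set_option autoImplicit false

namespace CfsgLib.CharDeep.Glauberman

open CfsgLib
open scoped ComplexConjugate

section

variable {T R : Type*} [Group T] [Fintype T] [Group R] [Fintype R] {N : Subgroup T} [hN : N.Normal]
  [Fintype N] {π : T →* R} (hπ : Function.Surjective π) (hker : π.ker = N)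
  {E : T → ℂ} {θ : N → ℂ} (hE : Cfsg.IsIrrCharacter T E) (hθ : Cfsg.IsIrrCharacter N θ)
  (hres : ∀ n : N, E n = θ n)

include hπ hker

theorem index_eq_card_range : N.index = Nat.card R := by
  rw [← hker, Subgroup.index_ker, MonoidHom.range_eq_top.mpr hπ]
  exact Nat.card_congr Subgroup.topEquiv.toEquiv

include hE hθ hres

/-- Induction of the invariant character is the extension times the regular character of the
quotient. -/
theorem indFun_eq_sum : Cfsg.indFun N θ =
    ∑ β : Cfsg.IrrCharacter R, (β : R → ℂ) 1 • (E * ((β : R → ℂ) ∘ π)) := by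
  classical
  funext g
  have hreg := Char.regular_eq_sum_irr (G := R) (π g)
  have hsum : (∑ β : Cfsg.IrrCharacter R, (β : R → ℂ) 1 • (E * ((β : R → ℂ) ∘ π))) g =
      E g * ∑ β : Cfsg.IrrCharacter R, (β : R → ℂ) 1 * (β : R → ℂ) (π g) := by
    rw [Finset.sum_apply, Finset.mul_sum]
    exact Finset.sum_congr rfl fun β _ => by
      simp only [Pi.smul_apply, Pi.mul_apply, Function.comp_apply, smul_eq_mul]
      ring
  rw [hsum, hreg]
  have hiff : π g = 1 ↔ g ∈ N := by rw [← hker, MonoidHom.mem_ker]
  by_cases hg : g ∈ N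
  · rw [if_pos (hiff.mpr hg), show Cfsg.indFun N θ g = Cfsg.indFun N θ (⟨g, hg⟩ : N) from rfl,
      Char.indFun_apply_of_normal,
      Finset.sum_congr rfl fun x _ => show θ _ = E g from by
        rw [← hres]
        exact Char.IsIrrCharacter.isClassFunction hE g _,
      Finset.sum_const, Finset.card_univ, nsmul_eq_mul, ← Nat.card_eq_fintype_card (α := T),
      ← N.card_mul_index, index_eq_card_range hπ hker]
    push_cast
    field_simp [Char.card_ne_zero (G := N)]
  · rw [if_neg (fun h => hg (hiff.mp h)), mul_zero, Char.indFun_eq_zero_of_normal N θ hg]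

omit hπ hker [Fintype R] in
theorem isCharacter_ext_mul (β : Cfsg.IrrCharacter R) :
    Cfsg.IsCharacter T (E * ((β : R → ℂ) ∘ π)) :=
  Char.IsCharacter.mul (Char.IsIrrCharacter.isCharacter hE)
    (Char.IsCharacter.comp (Char.isCharacter_irr β) π)

open Classical in
/-- The products are orthonormal. -/
theorem classInner_ext_mul (β γ : Cfsg.IrrCharacter R) :
    Cfsg.classInner (E * ((β : R → ℂ) ∘ π)) (E * ((γ : R → ℂ) ∘ π)) = if β = γ then 1 else 0 := by
  have hX := isCharacter_ext_mul (R := R) (π := π) (θ := θ) hE hθ hres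
  choose a ha using fun q : Cfsg.IrrCharacter R × Cfsg.IrrCharacter R =>
    Char.IsCharacter.classInner_nat (hX q.1) (hX q.2)
  choose d hd0 hd using fun q : Cfsg.IrrCharacter R => Char.IsIrrCharacter.apply_one_eq q.2
  have hinv : ∀ g : T, Char.conjG θ g = θ := fun g => funext fun n => by
    rw [Char.conjG_apply, ← hres, ← hres]
    exact Char.IsIrrCharacter.isClassFunction hE n g
  have hnorm : Cfsg.classInner (Cfsg.indFun N θ) (Cfsg.indFun N θ) = (Nat.card R : ℂ) := by
    rw [Char.classInner_indFun_irr hθ hθ, Nat.card_congr (Equiv.subtypeUnivEquiv hinv),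
      ← N.card_mul_index, index_eq_card_range hπ hker]
    push_cast
    field_simp [Char.card_ne_zero (G := N)]
  have hpos : ∀ q, 1 ≤ a (q, q) := fun q => by
    refine Nat.pos_of_ne_zero fun h0 => ?_
    have h1 := ha (q, q)
    simp only [h0, Nat.cast_zero] at h1
    have h2 := congrFun (Char.classInner_self_eq_zero.mp h1) 1
    simp only [Pi.mul_apply, Function.comp_apply, map_one, Pi.zero_apply] at h2
    exact mul_ne_zero (Char.IsIrrCharacter.apply_one_ne_zero hE)
      (Char.IsIrrCharacter.apply_one_ne_zero q.2) h2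
  have hsum : ∑ q, ∑ r, d q * d r * a (q, r) = ∑ q, d q * d q := by
    have h1 : (∑ q : Cfsg.IrrCharacter R, (d q : ℂ) * d q) = (Nat.card R : ℂ) := by
      rw [← Char.sum_sq_apply_one (G := R)]
      exact Finset.sum_congr rfl fun q _ => by rw [hd, sq]
    rw [indFun_eq_sum hπ hker hE hθ hres, Char.classInner_sum_left, ← h1] at hnorm
    apply Nat.cast_injective (R := ℂ)
    push_cast
    refine Eq.trans ?_ hnorm
    refine Finset.sum_congr rfl fun q _ => ?_
    rw [Char.classInner_sum_right]
    refine Finset.sum_congr rfl fun r _ => ?_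
    rw [Char.classInner_smul_left, Char.classInner_smul_right, ha (q, r), hd, hd,
      Complex.conj_natCast]
    ring
  have key : ∀ q r, d q * d r * a (q, r) = if q = r then d q * d q else 0 := by
    have hge : ∀ q r, (if q = r then d q * d q else 0) ≤ d q * d r * a (q, r) := fun q r => by
      split_ifs with h
      · subst h
        exact Nat.le_mul_of_pos_right _ (hpos q)
      · exact Nat.zero_le _
    have heq : ∑ q, ∑ r, d q * d r * a (q, r) = ∑ q, ∑ r, if q = r then d q * d q else 0 := by
      rw [hsum]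
      exact Finset.sum_congr rfl fun q _ => by rw [Finset.sum_ite_eq, if_pos (Finset.mem_univ _)]
    intro q r
    have h1 := (Finset.sum_eq_sum_iff_of_le fun q _ => Finset.sum_le_sum fun r _ => hge q r).mp
      heq.symm q (Finset.mem_univ q)
    exact ((Finset.sum_eq_sum_iff_of_le fun r _ => hge q r).mp h1 r (Finset.mem_univ r)).symm
  rw [ha (β, γ)]
  have h2 := key β γ
  by_cases h : β = γ
  · subst h
    rw [if_pos rfl] at h2 ⊢
    have h3 : d β * d β * a (β, β) = d β * d β * 1 := by rw [h2, mul_one]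
    rw [Nat.eq_of_mul_eq_mul_left (Nat.mul_pos (hd0 β) (hd0 β)) h3, Nat.cast_one]
  · rw [if_neg h] at h2 ⊢
    rcases Nat.mul_eq_zero.mp h2 with h3 | h3
    · exact absurd h3 (Nat.mul_pos (hd0 β) (hd0 γ)).ne'
    · rw [h3, Nat.cast_zero]

theorem isIrr_ext_mul (β : Cfsg.IrrCharacter R) :
    Cfsg.IsIrrCharacter T (E * ((β : R → ℂ) ∘ π)) :=
  Char.IsCharacter.isIrrCharacter_of_norm_one
    (isCharacter_ext_mul (R := R) (π := π) (θ := θ) hE hθ hres β)
    (by rw [classInner_ext_mul hπ hker hE hθ hres, if_pos rfl])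

theorem ext_mul_injective {β γ : Cfsg.IrrCharacter R}
    (h : E * ((β : R → ℂ) ∘ π) = E * ((γ : R → ℂ) ∘ π)) : β = γ := by
  classical
  by_contra hne
  have h1 := classInner_ext_mul hπ hker hE hθ hres β γ
  rw [← h, classInner_ext_mul hπ hker hE hθ hres, if_pos rfl, if_neg hne] at h1
  exact one_ne_zero h1

theorem classInner_ext_mul_restrict (β : Cfsg.IrrCharacter R) :
    Cfsg.classInner (fun n : N => (E * ((β : R → ℂ) ∘ π)) n) θ = (β : R → ℂ) 1 := by
  rw [show (fun n : N => (E * ((β : R → ℂ) ∘ π)) n) = (β : R → ℂ) 1 • θ from funext fun n => by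
    have : π n = 1 := by
      rw [← MonoidHom.mem_ker, hker]
      exact n.2
    simp only [Pi.mul_apply, Function.comp_apply, Pi.smul_apply, smul_eq_mul, hres, this]
    ring, Char.classInner_smul_left, Char.classInner_irr_self hθ, mul_one]

/-- Every character over `θ` is such a product. -/
theorem exists_ext_mul {ψ : T → ℂ} (hψ : Cfsg.IsIrrCharacter T ψ)
    (h : Cfsg.classInner (fun n : N => ψ n) θ ≠ 0) :
    ∃ β : Cfsg.IrrCharacter R, ψ = E * ((β : R → ℂ) ∘ π) := by
  rw [← Char.classInner_indFun_right N θ (Char.IsIrrCharacter.isClassFunction hψ),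
    indFun_eq_sum hπ hker hE hθ hres, Char.classInner_sum_right] at h
  obtain ⟨β, -, hβ⟩ := Finset.exists_ne_zero_of_sum_ne_zero h
  refine ⟨β, ?_⟩
  rw [Char.classInner_smul_right] at hβ
  by_contra hne
  exact right_ne_zero_of_mul hβ
    (Char.classInner_irr_ne hψ (isIrr_ext_mul hπ hker hE hθ hres β) hne)

/-- Multiplicities of restrictions to a subgroup containing `N` are computed in the quotient. -/
theorem classInner_ext_mul_comp {S F : Type*} [Group S] [Fintype S] [Group F] [Fintype F]
    {j : S →* T} {M : Subgroup S} [M.Normal] [Fintype M] {ρ : S →* F}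
    (hρ : Function.Surjective ρ) (hρker : ρ.ker = M) {ι : F →* R} (hcomm : ∀ x, π (j x) = ι (ρ x))
    {θ' : M → ℂ} (hθ' : Cfsg.IsIrrCharacter M θ') (hres' : ∀ m : M, E (j m) = θ' m)
    (hEj : Cfsg.IsIrrCharacter S (E ∘ j)) (β : Cfsg.IrrCharacter R) (γ : Cfsg.IrrCharacter F) :
    Cfsg.classInner ((E * ((β : R → ℂ) ∘ π)) ∘ j) ((E ∘ j) * ((γ : F → ℂ) ∘ ρ)) =
      (mult ι β γ : ℂ) := by
  classical
  rw [show (E * ((β : R → ℂ) ∘ π)) ∘ j =
      ∑ δ : Cfsg.IrrCharacter F, (mult ι β δ : ℂ) • ((E ∘ j) * ((δ : F → ℂ) ∘ ρ)) from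
    funext fun x => by
      simp only [Function.comp_apply, Pi.mul_apply, Finset.sum_apply, Pi.smul_apply, smul_eq_mul,
        hcomm, comp_eq_sum ι β, Finset.mul_sum]
      exact Finset.sum_congr rfl fun δ _ => by ring,
    Char.classInner_sum_left, Finset.sum_eq_single γ]
  · rw [Char.classInner_smul_left, classInner_ext_mul hρ hρker hEj hθ' hres', if_pos rfl, mul_one]
  · intro δ _ hne
    rw [Char.classInner_smul_left, classInner_ext_mul hρ hρker hEj hθ' hres', if_neg hne, mul_zero]
  · exact fun hh => absurd (Finset.mem_univ _) hh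

end

end CfsgLib.CharDeep.Glauberman
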