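import Cfsg.Agent.Lib.CharDeep.Glauberman.Subgroups
import Cfsg.Agent.Lib.CharDeep.CentralExt
import Cfsg.Agent.Lib.Char.Clifford
import Cfsg.Agent.Lib.Char.Linear
import Mathlib.GroupTheory.SchurZassenhaus
import Mathlib.Data.Nat.Factorization.Induction

/-!
# Invariant characters over an invariant linear character

If `A ≤ G` are normal subgroups of `Γ` with `|Γ : G|` prime to `|G : A|` and `Γ / G` solvable,
every invariant linear character of `A` lies under an invariant irreducible character of `G`.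
-/

set_option autoImplicit false

namespace CfsgLib.CharDeep.Glauberman.InvConst

open CfsgLib
open scoped ComplexConjugate

/-- A factorisation into a part prime to `n` and a part prime to `m`. -/
theorem exists_split {m n : ℕ} (hmn : m.Coprime n) :
    ∀ o : ℕ, o ≠ 0 → ∃ a b, o = a * b ∧ a.Coprime b ∧ a.Coprime n ∧ b.Coprime m := by
  intro o
  induction o using Nat.recOnPrimeCoprime with
  | zero => exact fun h => absurd rfl h
  | prime_pow p k hp =>
    intro _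
    have hp' : p.Prime := Nat.prime_iff.mpr (Nat.prime_iff.mp hp)
    by_cases h : p ∣ m
    · refine ⟨p ^ k, 1, (mul_one _).symm, Nat.coprime_one_right _, Nat.Coprime.pow_left k ?_,
        Nat.coprime_one_left _⟩
      exact hp'.coprime_iff_not_dvd.mpr fun hn => hp'.not_dvd_one
        (hmn.gcd_eq_one ▸ Nat.dvd_gcd h hn)
    · exact ⟨1, p ^ k, (one_mul _).symm, Nat.coprime_one_left _, Nat.coprime_one_left _,
        Nat.Coprime.pow_left k (hp'.coprime_iff_not_dvd.mpr h)⟩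
  | coprime a b ha hb hab iha ihb =>
    intro _
    obtain ⟨a₁, a₂, rfl, h12, ha1, ha2⟩ := iha (by omega)
    obtain ⟨b₁, b₂, rfl, k12, hb1, hb2⟩ := ihb (by omega)
    refine ⟨a₁ * b₁, a₂ * b₂, by ring, ?_, ha1.mul_left hb1, ha2.mul_left hb2⟩
    exact Nat.Coprime.mul_left
      (Nat.Coprime.mul_right h12 (hab.of_dvd (dvd_mul_right _ _) (dvd_mul_left _ _)))
      (Nat.Coprime.mul_right ((hab.of_dvd (dvd_mul_left _ _) (dvd_mul_right _ _)).symm) k12)

variable {Γ : Type*} [Group Γ] [Finite Γ]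

/-- An invariant linear character extends invariantly if its order is prime to the index. -/
theorem exists_inv_extension (G A : Subgroup Γ) [hG : G.Normal] [hA : A.Normal] (hAG : A ≤ G)
    (l : A →* ℂˣ) (a : ℕ) (ha : ∀ x, l x ^ a = 1) (hcop : a.Coprime (A.relIndex G))
    (hinv : ∀ (x : Γ) (y : A), l ⟨x * y * x⁻¹, hA.conj_mem y y.2 x⟩ = l y) :
    ∃ μ : G →* ℂˣ, (∀ y : A, μ ⟨y, hAG y.2⟩ = l y) ∧
      ∀ (x : Γ) (g : G), μ ⟨x * g * x⁻¹, hG.conj_mem g g.2 x⟩ = μ g := by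
  classical
  haveI : (A.subgroupOf G).Normal := Subgroup.Normal.subgroupOf inferInstance G
  set A' := A.subgroupOf G with hA'
  set n := A.relIndex G with hn
  have hidx : A'.index = n := rfl
  let e := Subgroup.subgroupOfEquivOfLe hAG
  let f : A' →* ℂˣ := l.comp e.toMonoidHom
  have hf : ∀ (g : G) (y : A'),
      f ⟨g * y * g⁻¹, Subgroup.Normal.conj_mem inferInstance y.1 y.2 g⟩ = f y :=
    fun g y => hinv (g : Γ) (e y)
  obtain ⟨T, hT⟩ : ∃ T : G →* ℂˣ, ∀ y : A', T (y : G) = f y ^ n :=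
    ⟨MonoidHom.transfer f, fun y => by
      have h := CentralExt.transfer_eq_pow_index (le_refl A') f hf f (fun _ _ => rfl) y
      rw [h, hidx]⟩
  obtain ⟨z, hz⟩ : ∃ z : ℕ, n * z ≡ 1 [MOD a] := by
    obtain ha0 | ha1 | ha1 : a = 0 ∨ a = 1 ∨ 1 < a := by omega
    · refine ⟨1, ?_⟩
      rw [ha0, Nat.coprime_zero_left] at hcop
      rw [hcop]
    · exact ⟨0, by rw [ha1]; exact Nat.modEq_one⟩
    · obtain ⟨z, -, hz⟩ := Nat.exists_mul_mod_eq_one_of_coprime hcop.symm ha1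
      exact ⟨z, hz.trans (Nat.mod_eq_of_lt ha1).symm⟩
  have hzy : ∀ (y : A) (c : ℕ), (l y ^ c) ^ (n * z) = l y ^ c := fun y c => by
    rw [← pow_mul, mul_comm c, pow_mul, pow_eq_pow_of_modEq hz (ha y), pow_one]
  obtain ⟨μ, hμ⟩ : ∃ μ : G →* ℂˣ, ∀ g, μ g = T g ^ (n * z * z) :=
    ⟨(powMonoidHom (n * z * z)).comp T, fun g => rfl⟩
  have hμA : ∀ y : A, μ ⟨y, hAG y.2⟩ = l y := fun y => by
    have h1 := hzy y 1
    rw [pow_one] at h1
    have h2 : T ⟨y, hAG y.2⟩ = l y ^ n :=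
      (hT ⟨⟨y, hAG y.2⟩, y.2⟩).trans (congrArg (fun w : A => l w ^ n) (show e ⟨⟨y, hAG y.2⟩, y.2⟩ = y from Subtype.ext rfl))
    rw [hμ]
    rw [h2, pow_mul, hzy, ← pow_mul]
    exact h1
  have hμa : ∀ g, μ g ^ a = 1 := fun g => by
    rw [hμ]
    have hm : g ^ n ∈ A' := hidx ▸ A'.pow_index_mem g
    have h2 : T g ^ n = f ⟨g ^ n, hm⟩ ^ n := (map_pow T g n).symm.trans (hT ⟨g ^ n, hm⟩)
    have h3 : f ⟨g ^ n, hm⟩ ^ a = 1 := ha _
    rw [← pow_mul, show n * z * z * a = n * (a * (z * z)) by ring, pow_mul, h2, ← pow_mul,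
      show n * (a * (z * z)) = a * (n * (z * z)) by ring, pow_mul, h3, one_pow]
  refine ⟨μ, hμA, fun x g => ?_⟩
  have key : ∀ ν ν' : G →* ℂˣ, (∀ g, ν g ^ a = 1) → (∀ g, ν' g ^ a = 1) →
      (∀ y : A, ν ⟨y, hAG y.2⟩ = l y) → (∀ y : A, ν' ⟨y, hAG y.2⟩ = l y) → ∀ g, ν g = ν' g := by
    intro ν ν' h1 h2 h3 h4 g
    have hm : g ^ n ∈ A' := hidx ▸ A'.pow_index_mem g
    have h5 : (ν g * (ν' g)⁻¹) ^ n = 1 := by
      rw [mul_pow, inv_pow, ← map_pow, ← map_pow, mul_inv_eq_one]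
      exact (h3 ⟨_, hm⟩).trans (h4 ⟨_, hm⟩).symm
    have h6 : (ν g * (ν' g)⁻¹) ^ a = 1 := by rw [mul_pow, inv_pow, h1, h2, inv_one, one_mul]
    have h7 := pow_gcd_eq_one.mpr ⟨h6, h5⟩
    rw [hcop.gcd_eq_one, pow_one] at h7
    exact mul_inv_eq_one.mp h7
  exact key (μ.comp (MulAut.conjNormal x).toMonoidHom) μ (fun g => hμa _) hμa
    (fun y => by
      show μ (MulAut.conjNormal x ⟨y, hAG y.2⟩) = l y
      rw [show MulAut.conjNormal x (⟨y, hAG y.2⟩ : G) =
        ⟨((⟨x * y * x⁻¹, hA.conj_mem y y.2 x⟩ : A) : Γ), hAG (hA.conj_mem y y.2 x)⟩ from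
          Subtype.ext (by simp), hμA, hinv]) hμA g

/-- A twist of an irreducible character by a linear one is irreducible. -/
theorem isIrrCharacter_hom_mul {G : Type*} [Group G] [Fintype G] (μ : G →* ℂˣ) {η : G → ℂ}
    (hη : Cfsg.IsIrrCharacter G η) : Cfsg.IsIrrCharacter G fun g => (μ g : ℂ) * η g := by
  refine Char.IsCharacter.isIrrCharacter_of_norm_one
    (Char.IsCharacter.mul (Char.isCharacter_hom μ) (Char.IsIrrCharacter.isCharacter hη)) ?_
  rw [← Char.classInner_irr_self hη]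
  unfold Cfsg.classInner
  congr 1
  refine Finset.sum_congr rfl fun g _ => ?_
  have hn : (μ g : ℂ) * conj (μ g : ℂ) = 1 := by
    rw [Complex.mul_conj, Complex.normSq_eq_norm_sq,
      Char.norm_eq_one_of_pow_orderOf (g := g)
        (by rw [← Units.val_pow_eq_pow_val, ← map_pow, pow_orderOf_eq_one, map_one,
          Units.val_one])]
    simp
  rw [map_mul]
  linear_combination (η g * conj (η g)) * hn

/-- An invariant linear character lies under an invariant character whose restriction is a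
multiple of it. -/
theorem exists_inv_over_linear {Γ : Type*} [Group Γ] [Fintype Γ] (G A : Subgroup Γ)
    [hG : G.Normal] [hA : A.Normal] [Fintype G] (hAG : A ≤ G)
    (hcop : G.index.Coprime (A.relIndex G)) [hsolv : Group.IsSolvable (Γ ⧸ G)] (l : A →* ℂˣ)
    (hinv : ∀ (x : Γ) (y : A), l ⟨x * y * x⁻¹, hA.conj_mem y y.2 x⟩ = l y) :
    ∃ η : G → ℂ, Cfsg.IsIrrCharacter G η ∧ (∀ x : Γ, Char.conjG η x = η) ∧
      ∀ y : A, η ⟨y, hAG y.2⟩ = η 1 * (l y : ℂ) := by
  classical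
  cases nonempty_fintype A
  obtain ⟨a, b, ho, hab, han, hbm⟩ := exists_split hcop (Nat.card A) Nat.card_pos.ne'
  obtain ⟨u, v, huv⟩ := (Nat.isCoprime_iff_coprime.mpr hab : IsCoprime (a : ℤ) b)
  have hpow : ∀ y, l y ^ ((a : ℤ) * b) = 1 := fun y => by
    rw [← Nat.cast_mul, ← ho, zpow_natCast, ← map_pow, pow_card_eq_one', map_one]
  let l₁ : A →* ℂˣ := (zpowGroupHom (v * b)).comp l
  let l₂ : A →* ℂˣ := (zpowGroupHom (u * a)).comp l
  have hl : ∀ y, l₁ y * l₂ y = l y := fun y => by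
    show l y ^ (v * b) * l y ^ (u * a) = l y
    rw [← zpow_add, add_comm, huv, zpow_one]
  have h₁ : ∀ y, l₁ y ^ a = 1 := fun y => by
    show (l y ^ (v * b)) ^ a = 1
    rw [← zpow_natCast, ← zpow_mul, show v * (b : ℤ) * a = a * b * v by ring, zpow_mul, hpow,
      one_zpow]
  have h₂ : ∀ y, l₂ y ^ b = 1 := fun y => by
    show (l y ^ (u * a)) ^ b = 1
    rw [← zpow_natCast, ← zpow_mul, show u * (a : ℤ) * b = a * b * u by ring, zpow_mul, hpow,
      one_zpow]
  have h₁inv : ∀ (x : Γ) (y : A), l₁ ⟨x * y * x⁻¹, hA.conj_mem y y.2 x⟩ = l₁ y := fun x y =>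
    congrArg (fun z : ℂˣ => z ^ (v * b)) (hinv x y)
  have h₂inv : ∀ (x : Γ) (y : A), l₂ ⟨x * y * x⁻¹, hA.conj_mem y y.2 x⟩ = l₂ y := fun x y =>
    congrArg (fun z : ℂˣ => z ^ (u * a)) (hinv x y)
  obtain ⟨μ, hμA, hμinv⟩ := exists_inv_extension G A hAG l₁ a h₁ han h₁inv
  -- the kernel of the second part
  let K : Subgroup Γ := l₂.ker.map A.subtype
  have hKA : K ≤ A := Subgroup.map_subtype_le _
  have hmemK : ∀ y : A, (y : Γ) ∈ K ↔ l₂ y = 1 := fun y =>
    (Subgroup.mem_map_iff_mem A.subtype_injective).trans MonoidHom.mem_ker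
  haveI hKn : K.Normal := ⟨fun k hk x => by
    obtain ⟨y, hy, rfl⟩ := hk
    exact ⟨⟨x * y * x⁻¹, hA.conj_mem y y.2 x⟩,
      MonoidHom.mem_ker.mpr ((h₂inv x y).trans (MonoidHom.mem_ker.mp hy)), rfl⟩⟩
  let mk := QuotientGroup.mk' K
  let Gb := G.map mk
  haveI : Gb.Normal := hG.map mk (QuotientGroup.mk'_surjective K)
  haveI : (A.map mk).Normal := hA.map mk (QuotientGroup.mk'_surjective K)
  have hGidx : Gb.index = G.index :=
    Subgroup.index_map_eq (H := G) (QuotientGroup.mk'_surjective K)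
      (by rw [QuotientGroup.ker_mk']; exact hKA.trans hAG)
  have hGcard : (Nat.card Gb).Coprime G.index := by
    have h1 : Nat.card Gb = K.relIndex G := by
      rw [← Subgroup.relIndex_ker, QuotientGroup.ker_mk']
    rw [h1, ← Subgroup.relIndex_mul_relIndex K A G hKA hAG]
    refine Nat.Coprime.mul_left ?_ hcop.symm
    have h2 : K.relIndex A = l₂.ker.index := by
      show (K.subgroupOf A).index = _
      congr 1
      ext y
      exact (hmemK y).trans MonoidHom.mem_ker.symm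
    rw [h2, Subgroup.index_ker]
    refine Nat.coprime_of_dvd fun p hp hpd hpm => ?_
    haveI := Fact.mk hp
    obtain ⟨⟨w, y, rfl⟩, hw⟩ := exists_prime_orderOf_dvd_card' p hpd
    rw [← Subgroup.orderOf_coe] at hw
    have hpb : p ∣ b := hw ▸ orderOf_dvd_of_pow_eq_one (h₂ y)
    exact hp.not_dvd_one (hbm.gcd_eq_one ▸ Nat.dvd_gcd hpb hpm)
  obtain ⟨S, hS⟩ := Subgroup.exists_left_complement'_of_coprime (N := Gb) (by rwa [hGidx])
  have hScard : Nat.card S = G.index := by rw [← hS.index_eq_card, hGidx]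
  haveI : Group.IsSolvable ((Γ ⧸ K) ⧸ Gb) := by
    let h : Γ →* (Γ ⧸ K) ⧸ Gb := (QuotientGroup.mk' Gb).comp mk
    have hh : Function.Surjective h :=
      (QuotientGroup.mk'_surjective _).comp (QuotientGroup.mk'_surjective _)
    have hle : G ≤ h.ker := fun g hg => MonoidHom.mem_ker.mpr
      ((QuotientGroup.eq_one_iff _).mpr (Subgroup.mem_map_of_mem _ hg))
    exact Group.isSolvable_of_surjective (f := QuotientGroup.lift G h hle)
      (QuotientGroup.lift_surjective_of_surjective G h hh hle)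
  haveI : Group.IsSolvable S := by
    refine Group.isSolvable_of_isSolvable_injective (f := (QuotientGroup.mk' Gb).comp S.subtype)
      ((injective_iff_map_eq_one _).mpr fun s hs => Subtype.ext ?_)
    have h1 : (s : Γ ⧸ K) ∈ Gb := (QuotientGroup.eq_one_iff _).mp hs
    have h2 : (s : Γ ⧸ K) ∈ S ⊓ Gb := ⟨s.2, h1⟩
    rwa [hS.disjoint.eq_bot, Subgroup.mem_bot] at h2
  -- the linear character on the image of `A`
  let Ab : Subgroup Gb := (A.map mk).subgroupOf Gb
  haveI : Ab.Normal := Subgroup.Normal.subgroupOf inferInstance Gb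
  let p : A →* Ab :=
    { toFun := fun y => ⟨⟨mk y, Subgroup.mem_map_of_mem mk (hAG y.2)⟩,
        Subgroup.mem_map_of_mem mk y.2⟩
      map_one' := Subtype.ext (Subtype.ext (map_one mk))
      map_mul' := fun y y' => Subtype.ext (Subtype.ext (map_mul mk _ _)) }
  have hp : Function.Surjective p := fun z => by
    obtain ⟨y, hy, he⟩ := z.2
    exact ⟨⟨y, hy⟩, Subtype.ext (Subtype.ext he)⟩
  have hker : p.ker ≤ l₂.ker := fun y hy => by
    have h1 : mk (y : Γ) = 1 :=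
      congrArg (fun z : Ab => ((z : Gb) : Γ ⧸ K)) (MonoidHom.mem_ker.mp hy)
    exact MonoidHom.mem_ker.mpr ((hmemK y).mp ((QuotientGroup.eq_one_iff _).mp h1))
  let lb : Ab →* ℂˣ := p.liftOfSurjective hp ⟨l₂, hker⟩
  have hlb : ∀ y, lb (p y) = l₂ y := fun y =>
    MonoidHom.liftOfRightInverse_comp_apply p _ (Function.rightInverse_surjInv hp) ⟨l₂, hker⟩ y
  haveI : Fintype (Γ ⧸ K) := Fintype.ofFinite _
  haveI : Fintype Gb := Fintype.ofFinite _
  haveI : Fintype Ab := Fintype.ofFinite _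
  have hnorm : ∀ s ∈ S, ∀ g ∈ Gb, s * g * s⁻¹ ∈ Gb := fun s _ g hg =>
    Subgroup.Normal.conj_mem inferInstance g hg s
  have hAmn : (A.map mk).Normal := hA.map mk (QuotientGroup.mk'_surjective K)
  have hAinv : ∀ (s : S), ∀ g ∈ Ab, subAct hnorm s g ∈ Ab := fun s g hg => by
    show ((subAct hnorm s g : Gb) : Γ ⧸ K) ∈ A.map mk
    rw [subAct_apply]
    exact hAmn.conj_mem _ hg _
  obtain ⟨χ, hχS, hχA⟩ := exists_inv_over (subAct hnorm) (by rwa [hScard]) Ab hAinv
    ⟨fun z => (lb z : ℂ), Char.isIrrCharacter_hom lb⟩ (fun s z z' e => by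
      obtain ⟨y, rfl⟩ := hp z
      obtain ⟨y', rfl⟩ := hp z'
      obtain ⟨x, hx⟩ := QuotientGroup.mk'_surjective K (s : Γ ⧸ K)
      show (lb (p y') : ℂ) = (lb (p y) : ℂ)
      have he : p y' = p ⟨x * y * x⁻¹, hA.conj_mem y y.2 x⟩ := by
        apply Subtype.ext
        rw [e]
        apply Subtype.ext
        rw [subAct_apply, ← hx]
        show mk x * mk y * (mk x)⁻¹ = mk (x * y * x⁻¹)
        rw [map_mul, map_mul, map_inv]
      rw [he, hlb, hlb, h₂inv])
  have hχinv : ∀ q : Γ ⧸ K, Char.conjG (χ : Gb → ℂ) q = χ := by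
    intro q
    have hq : q ∈ Gb ⊔ S := by rw [sup_comm, hS.sup_eq_top]; trivial
    obtain ⟨g, hg, s, hs, rfl⟩ := Subgroup.mem_sup_of_normal_left.mp hq
    rw [← Char.conjG_mul, Char.conjG_of_mem (Char.IsIrrCharacter.isClassFunction χ.2) hg]
    funext z
    exact (inv_iff hnorm _).mp hχS s hs z _ rfl
  -- pull back
  let π : G →* Gb := mk.subgroupMap G
  have hπ : Function.Surjective π := mk.subgroupMap_surjective G
  let η₂ : G → ℂ := (χ : Gb → ℂ) ∘ π
  have hη₂ : Cfsg.IsIrrCharacter G η₂ := Char.IsIrrCharacter.comp_surjective χ.2 π hπ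
  have hη₂inv : ∀ x : Γ, Char.conjG η₂ x = η₂ := fun x => by
    funext g
    have h := congrFun (hχinv (mk x)) (π g)
    rw [Char.conjG_apply] at h ⊢
    refine Eq.trans (congrArg (χ : Gb → ℂ) (Subtype.ext ?_)) h
    show mk (x * g * x⁻¹) = mk x * mk g * (mk x)⁻¹
    rw [map_mul, map_mul, map_inv]
  haveI : (A.subgroupOf G).Normal := Subgroup.Normal.subgroupOf inferInstance G
  haveI : Fintype (A.subgroupOf G) := Fintype.ofFinite _
  let e := Subgroup.subgroupOfEquivOfLe hAG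
  obtain ⟨k, -, -, hk⟩ := Clifford.restrict_eq_smul (A.subgroupOf G) hη₂
    (Char.isIrrCharacter_hom (l₂.comp e.toMonoidHom)) (fun h0 => hχA (Nat.cast_injective (R := ℂ) (by
      rw [← mult_spec, Nat.cast_zero, ← Char.classInner_comp_surjective (p.comp e.toMonoidHom)
        (hp.comp e.surjective) ((χ : Gb → ℂ) ∘ Ab.subtype) (fun z => (lb z : ℂ))]
      refine Eq.trans ?_ h0
      congr 1
      funext y
      exact congrArg (fun z : ℂˣ => (z : ℂ)) (hlb (e y))))) (fun g y => by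
      show (l₂ (e _) : ℂ) = (l₂ (e y) : ℂ)
      exact congrArg (fun z : ℂˣ => (z : ℂ)) (h₂inv (g : Γ) (e y)))
  have hη₂A : ∀ y : A, η₂ ⟨y, hAG y.2⟩ = (k : ℂ) * (l₂ y : ℂ) := fun y => by
    have h := congrFun hk ⟨⟨y, hAG y.2⟩, y.2⟩
    exact h.trans rfl
  refine ⟨fun g => (μ g : ℂ) * η₂ g, isIrrCharacter_hom_mul μ hη₂, fun x => ?_, fun y => ?_⟩
  · funext g
    rw [Char.conjG_apply]
    have h2 := congrFun (hη₂inv x) g
    rw [Char.conjG_apply] at h2
    simp only [hμinv x g, h2]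
  · show (μ ⟨y, hAG y.2⟩ : ℂ) * η₂ ⟨y, hAG y.2⟩ = (μ 1 : ℂ) * η₂ 1 * (l y : ℂ)
    have h1 : η₂ 1 = (k : ℂ) := by
      have h := hη₂A 1
      rw [map_one, Units.val_one, mul_one] at h
      exact h
    rw [hη₂A, hμA, h1, map_one, Units.val_one, one_mul, ← hl y, Units.val_mul]
    ring

end CfsgLib.CharDeep.Glauberman.InvConst
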