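import Cfsg.Agent.Lib.CharDeep.Glauberman.Subgroups
import Cfsg.Agent.Lib.CharDeep.Glauberman.InvariantLinear
import Cfsg.Agent.Lib.CharDeep.DetExt
import Cfsg.Agent.Lib.CharDeep.Clifford
import Cfsg.Agent.Lib.Char.Linear
import Cfsg.Agent.Lib.DegreeTools.Basic
import Cfsg.Agent.S0887

/-!
# Characters of degree prime to a solvable complement

For `G = K H` with `K` normal and `H` solvable of order prime to `|K|`, the characters of degree
prime to `|H|` are the linear twists of the extensions of the invariant characters of `K`, and the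
number of these is the class number of the centralizer of `H` in `K`.
-/

set_option autoImplicit false

open scoped ComplexConjugate

namespace CfsgLib.CharDeep.Glauberman

universe u v

/-- As many invariant classes as classes of the group of fixed points. -/
theorem card_invClass_aux (n : ℕ) : ∀ (S : Type v) [Group S] [Finite S] [Group.IsSolvable S],
    Nat.card S = n → ∀ (G : Type u) [Group G] [Finite G] (φ : S →* MulAut G),
      (Nat.card G).Coprime (Nat.card S) →
      Nat.card {K : ConjClasses G // InvClass φ K} = Nat.card (ConjClasses (fixSub φ)) := by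
  induction n using Nat.strong_induction_on with
  | _ n ih =>
  intro S _ _ _ hn G _ _ φ hcop
  cases nonempty_fintype G
  have hmap : ∀ K : ConjClasses (fixSub φ), InvClass φ (ConjClasses.map (fixSub φ).subtype K) := by
    intro K
    induction K using Quotient.inductionOn with
    | h c =>
      show InvClass φ (ConjClasses.mk (c : G))
      rw [invClass_mk]
      exact fun s => by rw [c.2 s]
  refine (Nat.card_congr (Equiv.ofBijective
    (fun K => (⟨_, hmap K⟩ : {K : ConjClasses G // InvClass φ K})) ?_)).symm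
  by_cases hS : Nat.card S = 1
  · haveI : Subsingleton S := (Nat.card_eq_one_iff_unique.mp hS).1
    have htriv : ∀ g, g ∈ fixSub φ := fun g s => by rw [Subsingleton.elim s 1, map_one]; rfl
    refine ⟨?_, ?_⟩
    · intro a b h
      induction a using Quotient.inductionOn with
      | h a =>
        induction b using Quotient.inductionOn with
        | h b =>
          have h' : ConjClasses.mk (a : G) = ConjClasses.mk (b : G) := congrArg Subtype.val h
          obtain ⟨c, hc⟩ := isConj_iff.1 (ConjClasses.mk_eq_mk_iff_isConj.mp h')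
          exact ConjClasses.mk_eq_mk_iff_isConj.mpr
            (isConj_iff.2 ⟨⟨c, htriv c⟩, Subtype.ext hc⟩)
    · rintro ⟨K, hK⟩
      induction K using Quotient.inductionOn with
      | h g => exact ⟨ConjClasses.mk ⟨g, htriv g⟩, Subtype.ext rfl⟩
  obtain ⟨T, p, hTn, hlt, hs, hcop'⟩ := exists_step φ hcop hS
  haveI := hTn
  set C := fixSub (φ.comp T.subtype)
  haveI : Fintype C := Fintype.ofFinite _
  have hle : fixSub φ ≤ C := fun g hg t => hg t
  have h1 := ih _ (hn ▸ hlt) (S ⧸ T) rfl C (quotAut φ T) hcop'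
  have hfix : ∀ c : C, c ∈ fixSub (quotAut φ T) ↔ (c : G) ∈ fixSub φ := by
    intro c
    refine ⟨fun h s => congrArg Subtype.val (h (s : S ⧸ T)), fun h q => ?_⟩
    induction q using QuotientGroup.induction_on with
    | H s => exact Subtype.ext (h s)
  refine ⟨?_, ?_⟩
  · -- two fixed elements conjugate in `G` are conjugate by a fixed element
    let D := fixSub (quotAut φ T)
    have hinjD : Function.Injective (ConjClasses.map D.subtype) := by
      -- from the count: the map onto the invariant classes is a surjection between equal numbers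
      have hmap' : ∀ K : ConjClasses D, InvClass (quotAut φ T) (ConjClasses.map D.subtype K) := by
        intro K
        induction K using Quotient.inductionOn with
        | h c =>
          show InvClass (quotAut φ T) (ConjClasses.mk (c : C))
          rw [invClass_mk]
          exact fun q => by rw [c.2 q]
      let F : ConjClasses D → {K : ConjClasses C // InvClass (quotAut φ T) K} :=
        fun K => ⟨_, hmap' K⟩
      have hsurj : Function.Surjective F := by
        rintro ⟨K, hK⟩
        induction K using Quotient.inductionOn with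
        | h c =>
          obtain ⟨d, hd⟩ := exists_fixed (n := Nat.card (S ⧸ T)) (S ⧸ T) rfl C (quotAut φ T) hcop' c
            (invClass_mk.1 hK)
          exact ⟨ConjClasses.mk d, Subtype.ext (ConjClasses.mk_eq_mk_iff_isConj.mpr hd)⟩
      have := (Nat.bijective_iff_surjective_and_card F).2 ⟨hsurj, h1.symm⟩
      intro a b hab
      exact this.1 (Subtype.ext hab)
    intro a b h
    induction a using Quotient.inductionOn with
    | h a =>
      induction b using Quotient.inductionOn with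
      | h b =>
        have h' : IsConj (a : G) (b : G) :=
          ConjClasses.mk_eq_mk_iff_isConj.mp (congrArg Subtype.val h)
        have h2 : IsConj (⟨a, hle a.2⟩ : C) ⟨b, hle b.2⟩ := hs.isConj_of_isConj h'
        have h3 := @hinjD (ConjClasses.mk ⟨⟨a, hle a.2⟩, (hfix _).2 a.2⟩)
          (ConjClasses.mk ⟨⟨b, hle b.2⟩, (hfix _).2 b.2⟩) (ConjClasses.mk_eq_mk_iff_isConj.mpr h2)
        obtain ⟨c, hc⟩ := isConj_iff.1 (ConjClasses.mk_eq_mk_iff_isConj.mp h3)
        refine ConjClasses.mk_eq_mk_iff_isConj.mpr (isConj_iff.2 ⟨⟨(c : C), (hfix _).1 c.2⟩, ?_⟩)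
        exact Subtype.ext (congrArg (fun z : D => ((z : C) : G)) hc)
  · rintro ⟨K, hK⟩
    induction K using Quotient.inductionOn with
    | h g =>
      obtain ⟨d, hd⟩ := exists_fixed (n := n) S hn G φ hcop g (invClass_mk.1 hK)
      exact ⟨ConjClasses.mk d, Subtype.ext (ConjClasses.mk_eq_mk_iff_isConj.mpr hd)⟩
where
  /-- An invariant class contains a fixed element. -/
  exists_fixed {n : ℕ} : ∀ (S : Type v) [Group S] [Finite S] [Group.IsSolvable S],
      Nat.card S = n → ∀ (G : Type u) [Group G] [Finite G] (φ : S →* MulAut G),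
        (Nat.card G).Coprime (Nat.card S) → ∀ g : G, (∀ s, IsConj (φ s g) g) →
        ∃ d : fixSub φ, IsConj (d : G) g := by
    induction n using Nat.strong_induction_on with
    | _ n ih =>
    intro S _ _ _ hn G _ _ φ hcop g hg
    cases nonempty_fintype G
    by_cases hS : Nat.card S = 1
    · haveI : Subsingleton S := (Nat.card_eq_one_iff_unique.mp hS).1
      exact ⟨⟨g, fun s => by rw [Subsingleton.elim s 1, map_one]; rfl⟩, IsConj.refl g⟩
    obtain ⟨T, p, hTn, hlt, hs, hcop'⟩ := exists_step φ hcop hS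
    haveI := hTn
    haveI : Fintype (fixSub (φ.comp T.subtype)) := Fintype.ofFinite _
    obtain ⟨c, hc⟩ := hs.exists_of_fixed_class fun t => hg (t : S)
    obtain ⟨d, hd⟩ := ih _ (hn ▸ hlt) (S ⧸ T) rfl _ (quotAut φ T) hcop' c fun q => by
      induction q using QuotientGroup.induction_on with
      | H s =>
        exact hs.isConj_of_isConj (((φ s).toMonoidHom.map_isConj hc).trans ((hg s).trans hc.symm))
    refine ⟨⟨(d : G), fun s => congrArg Subtype.val (d.2 (s : S ⧸ T))⟩, ?_⟩
    exact ((fixSub (φ.comp T.subtype)).subtype.map_isConj hd).trans hc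

section Decompose

variable {G : Type u} [Group G] [Finite G] {K : Subgroup G} [hK : K.Normal]

/-- A character of degree prime to the index restricts irreducibly. -/
theorem exists_restrict_eq [Fintype K] (χ : Cfsg.IrrCharacter G)
    (hχ : (Cfsg.charDegree (χ : G → ℂ)).Coprime K.index) :
    ∃ θ : Cfsg.IrrCharacter K, ∀ k : K, (χ : G → ℂ) k = (θ : K → ℂ) k := by
  classical
  cases nonempty_fintype G
  have hres : Cfsg.IsCharacter K fun k : K => (χ : G → ℂ) k :=
    Char.IsCharacter.restrict (Char.isCharacter_irr χ) K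
  obtain ⟨θ, hθ, hne⟩ := Char.IsCharacter.exists_constituent hres fun h0 =>
    Char.IsIrrCharacter.apply_one_ne_zero χ.2 (by simpa using congrFun h0 1)
  obtain ⟨a, b, ha, hb, -, heq⟩ := Char.IsCharacter.constituent_degree_le hres hθ hne
  obtain ⟨had, hdiv⟩ := Cfsg.Agent.S0887.result K (χ : G → ℂ) χ.2 θ hθ hne b a
    (by simpa using hb) ha
  have hbd : Cfsg.charDegree (χ : G → ℂ) = b :=
    Nat.cast_injective (R := ℂ) (by rw [DegreeTools.deg_cast, ← hb]; simp)
  obtain ⟨c, hc⟩ := had
  have hb0 : 0 < b := hbd ▸ DegreeTools.deg_pos χ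
  have ha0 : 0 < a := Nat.pos_of_ne_zero fun h => by simp [h] at hc; omega
  rw [hc, Nat.mul_div_cancel_left _ ha0] at hdiv
  have hc1 : c = 1 := Nat.eq_one_of_dvd_coprimes hχ (hbd ▸ hc ▸ dvd_mul_left c a) hdiv
  exact ⟨⟨θ, hθ⟩, fun k => congrFun (heq (by rw [hc, hc1, mul_one])) k⟩

/-- An invariant linear character extends when the index is prime to the order. -/
theorem exists_hom_extension (hcK : (Nat.card K).Coprime K.index) (f : K →* ℂˣ)
    (hinv : ∀ (g : G) (n : K), f ⟨g * n * g⁻¹, hK.conj_mem n n.2 g⟩ = f n) :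
    ∃ F : G →* ℂˣ, ∀ n : K, F n = f n := by
  obtain ⟨z, hz⟩ : ∃ z : ℕ, K.index * z ≡ 1 [MOD Nat.card K] := by
    obtain h1 | h1 := (Nat.card_pos (α := K)).nat_succ_le.eq_or_lt
    · exact ⟨0, by rw [← h1]; exact Nat.modEq_one⟩
    · obtain ⟨z, -, hz⟩ := Nat.exists_mul_mod_eq_one_of_coprime hcK.symm h1
      exact ⟨z, hz.trans (Nat.mod_eq_of_lt h1).symm⟩
  refine ⟨(powMonoidHom z).comp (MonoidHom.transfer f), fun n => ?_⟩
  show MonoidHom.transfer f (n : G) ^ z = f n
  rw [CentralExt.transfer_eq_pow_index (le_refl K) f hinv f (fun _ _ => rfl) n, ← pow_mul,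
    pow_eq_pow_of_modEq hz (by rw [← map_pow, pow_card_eq_one', map_one]), pow_one]

/-- An invariant irreducible character extends when the index is prime to the order. -/
theorem exists_irr_extension (hcK : (Nat.card K).Coprime K.index) (θ : Cfsg.IrrCharacter K)
    (hinv : ∀ (g : G) (n : K),
      (θ : K → ℂ) ⟨g * n * g⁻¹, hK.conj_mem n n.2 g⟩ = (θ : K → ℂ) n) :
    ∃ χ : Cfsg.IrrCharacter G, ∀ k : K, (χ : G → ℂ) k = (θ : K → ℂ) k := by
  classical
  cases nonempty_fintype G
  obtain ⟨d, ρ, hρ, hρc⟩ := θ.2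
  haveI := hρ
  have hcd : K.index.Coprime (Module.finrank ℂ (Fin d → ℂ)) :=
    (hcK.coprime_dvd_left (Char.finrank_dvd_card ρ)).symm
  have hInv : ProjExt.Invariant ρ := fun g n => by
    simp only [hρc]
    exact (congrArg (θ : K → ℂ) (Subtype.ext rfl)).trans (hinv g n)
  obtain ⟨μ, hμ⟩ := exists_hom_extension hcK (DetExt.detHom ρ) fun g n => by
    haveI := ProjExt.twist_isIrreducible ρ g
    obtain ⟨φ⟩ := IrrTools.nonempty_equiv_of_character_eq ρ (ProjExt.twist ρ g) (funext (hInv g))
    have h1 : (φ.toLinearEquiv : (Fin d → ℂ) →ₗ[ℂ] _) ∘ₗ ρ n ∘ₗ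
        (φ.toLinearEquiv.symm : (Fin d → ℂ) →ₗ[ℂ] _) = ρ (MulAut.conjNormal g n) :=
      LinearMap.ext fun v => by
        have h2 := LinearMap.congr_fun (φ.toIntertwiningMap.isIntertwining' n) (φ.toLinearEquiv.symm v)
        exact h2.trans (congrArg (ρ _) (φ.toLinearEquiv.apply_symm_apply v))
    refine Units.ext ?_
    rw [DetExt.coe_detHom, DetExt.coe_detHom, ← LinearMap.det_conj (ρ n) φ.toLinearEquiv, h1]
    exact congrArg (fun z => LinearMap.det (ρ z)) (Subtype.ext rfl)
  obtain ⟨σ, hσ, -⟩ := DetExt.exists_extension_det ρ hInv hcd μ hμ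
  haveI := DetExt.isIrreducible_of_extends ρ σ hσ
  refine ⟨⟨σ.character, Char.isIrrCharacter_of_rep σ⟩, fun k => ?_⟩
  rw [← hρc]
  show LinearMap.trace ℂ _ (σ k) = LinearMap.trace ℂ _ (ρ k)
  rw [hσ]

/-- Characters agreeing irreducibly on a normal subgroup differ by a linear character. -/
theorem exists_hom_mul [Fintype K] (χ χ' : Cfsg.IrrCharacter G) (θ : Cfsg.IrrCharacter K)
    (h : ∀ k : K, (χ : G → ℂ) k = (θ : K → ℂ) k) (h' : ∀ k : K, (χ' : G → ℂ) k = (θ : K → ℂ) k) :
    ∃ μ : G →* ℂˣ, (∀ k : K, μ k = 1) ∧ ∀ g, (χ' : G → ℂ) g = (μ g : ℂ) * (χ : G → ℂ) g := by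
  classical
  cases nonempty_fintype G
  set ξ : G → ℂ := (χ' : G → ℂ) * fun g => conj ((χ : G → ℂ) g) with hξ
  have hξc : Cfsg.IsCharacter G ξ :=
    Char.IsCharacter.mul (Char.isCharacter_irr χ') (Char.IsCharacter.conj' (Char.isCharacter_irr χ))
  have hres := Char.IsCharacter.restrict hξc K
  have hone : Cfsg.classInner (fun k : K => ξ k) (fun _ => (1 : ℂ)) = 1 := by
    refine Eq.trans ?_ (Char.classInner_irr_self θ.2)
    simp only [Cfsg.classInner, hξ, Pi.mul_apply, h, h', map_one, mul_one]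
  obtain ⟨m, hm, hexp⟩ := Char.IsCharacter.exists_multiplicity hξc
  have h1c : Cfsg.IsIrrCharacter K (fun _ => 1 : K → ℂ) := Char.isIrrCharacter_one
  have hsum : ∑ ψ : Cfsg.IrrCharacter G,
      (m ψ : ℂ) * Cfsg.classInner (fun k : K => (ψ : G → ℂ) k) (fun _ => 1) = 1 := by
    refine Eq.trans ?_ hone
    simp only [Cfsg.classInner, hexp, Finset.mul_sum, Finset.sum_mul]
    rw [Finset.sum_comm]
    exact Finset.sum_congr rfl fun k _ => Finset.sum_congr rfl fun ψ _ => by ring
  choose a ha using fun ψ : Cfsg.IrrCharacter G => Char.IsCharacter.classInner_nat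
    (Char.IsCharacter.restrict (Char.isCharacter_irr ψ) K) (Char.IsIrrCharacter.isCharacter h1c)
  simp only [ha, ← Nat.cast_mul] at hsum
  rw [← Nat.cast_sum, Nat.cast_eq_one] at hsum
  obtain ⟨ψ, -, hψ⟩ := Finset.exists_ne_zero_of_sum_ne_zero (hsum.trans_ne one_ne_zero)
  have hle : m ψ * a ψ ≤ 1 := hsum ▸ Finset.single_le_sum (f := fun ψ => m ψ * a ψ)
    (fun _ _ => Nat.zero_le _) (Finset.mem_univ ψ)
  have hprod : m ψ = 1 ∧ a ψ = 1 := mul_eq_one.1 (by omega)
  -- `ψ` restricted to `K` is a multiple of the principal character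
  have hker : ∀ k : K, (ψ : G → ℂ) k = (ψ : G → ℂ) 1 := by
    obtain ⟨e, -, -, hr⟩ := CharDeep.Clifford.restrict_eq_smul K ψ.2 h1c (by rw [ha, hprod.2]; simp) (fun g n => rfl)
    intro k
    have h2 := congrFun hr k
    have h3 := congrFun hr 1
    simp only [Pi.smul_apply] at h2 h3
    rw [h2, ← OneMemClass.coe_one K, h3]
  have hψ1 : (ψ : G → ℂ) 1 = 1 := by
    have h4 : Cfsg.classInner (fun k : K => (ψ : G → ℂ) k) (fun _ => (1 : ℂ)) = (ψ : G → ℂ) 1 := by
      simp only [Cfsg.classInner, hker, map_one, mul_one, Finset.sum_const, Finset.card_univ,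
        nsmul_eq_mul, ← Nat.card_eq_fintype_card]
      rw [← mul_assoc, inv_mul_cancel₀ Char.card_ne_zero, one_mul]
    rw [← h4, ha, hprod.2, Nat.cast_one]
  obtain ⟨μ, hμ⟩ := Char.exists_hom_of_apply_one_eq_one (Char.isCharacter_irr ψ) hψ1
  refine ⟨μ, fun k => Units.ext ?_, fun g => ?_⟩
  · have := hker k
    rw [hψ1, congrFun hμ (k : G)] at this
    rw [this, Units.val_one]
  have hirr : Cfsg.IsIrrCharacter G (fun g => (μ g : ℂ) * (χ : G → ℂ) g) :=
    InvConst.isIrrCharacter_hom_mul μ χ.2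
  by_contra hne
  have h5 : Cfsg.classInner (χ' : G → ℂ) (fun g => (μ g : ℂ) * (χ : G → ℂ) g) = 0 :=
    Char.classInner_irr_ne χ'.2 hirr fun e => hne (congrFun e g)
  have h6 : Cfsg.classInner ξ (ψ : G → ℂ) = 0 := by
    rw [← h5]
    simp only [Cfsg.classInner, hξ, Pi.mul_apply, hμ, map_mul]
    refine congrArg _ (Finset.sum_congr rfl fun g _ => ?_)
    ring
  rw [hm, hprod.1, Nat.cast_one] at h6
  exact one_ne_zero h6

end Decompose

/-- Invariance under conjugation by the whole group. -/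
def GInv {G : Type u} [Group G] {K : Subgroup G} [hK : K.Normal] (θ : K → ℂ) : Prop :=
  ∀ (g : G) (n : K), θ ⟨g * n * g⁻¹, hK.conj_mem n n.2 g⟩ = θ n

/-- **The structure count.** -/
theorem card_coprime_degree {G : Type u} [Group G] [Finite G] (K : Subgroup G) [K.Normal]
    (hcK : (Nat.card K).Coprime K.index) :
    Nat.card {χ : Cfsg.IrrCharacter G // (Cfsg.charDegree (χ : G → ℂ)).Coprime K.index} =
      Nat.card {θ : Cfsg.IrrCharacter K // GInv (θ : K → ℂ)} *
        Nat.card {μ : G →* ℂˣ // ∀ k : K, μ k = 1} := by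
  classical
  cases nonempty_fintype G
  haveI : Fintype K := Fintype.ofFinite _
  choose E hE using fun θ : {θ : Cfsg.IrrCharacter K // GInv (θ : K → ℂ)} =>
    exists_irr_extension hcK θ.1 θ.2
  have hdegE : ∀ θ, (Cfsg.charDegree (E θ : G → ℂ)).Coprime K.index := fun θ => by
    refine hcK.coprime_dvd_left ?_
    have h1 : Cfsg.charDegree (E θ : G → ℂ) = Cfsg.charDegree (θ.1 : K → ℂ) := by
      unfold Cfsg.charDegree
      rw [show (E θ : G → ℂ) 1 = (θ.1 : K → ℂ) 1 from hE θ 1]
    rw [h1]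
    exact DegreeTools.deg_dvd_card θ.1
  let F : {θ : Cfsg.IrrCharacter K // GInv (θ : K → ℂ)} × {μ : G →* ℂˣ // ∀ k : K, μ k = 1} →
      {χ : Cfsg.IrrCharacter G // (Cfsg.charDegree (χ : G → ℂ)).Coprime K.index} := fun q =>
    ⟨⟨fun g => (q.2.1 g : ℂ) * (E q.1 : G → ℂ) g, InvConst.isIrrCharacter_hom_mul q.2.1 (E q.1).2⟩, by
      have h1 : Cfsg.charDegree (fun g => (q.2.1 g : ℂ) * (E q.1 : G → ℂ) g) =
          Cfsg.charDegree (E q.1 : G → ℂ) := by
        unfold Cfsg.charDegree
        simp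
      show (Cfsg.charDegree (fun g => (q.2.1 g : ℂ) * (E q.1 : G → ℂ) g)).Coprime K.index
      rw [h1]
      exact hdegE q.1⟩
  rw [← Nat.card_prod]
  refine (Nat.card_congr (Equiv.ofBijective F ⟨?_, ?_⟩)).symm
  · rintro ⟨θ, μ⟩ ⟨θ', μ'⟩ h
    have hv : ∀ g, (μ.1 g : ℂ) * (E θ : G → ℂ) g = (μ'.1 g : ℂ) * (E θ' : G → ℂ) g := fun g =>
      congrFun (congrArg (fun x => (x.1 : G → ℂ)) h) g
    have hθ : θ = θ' := Subtype.ext (Subtype.ext (funext fun k => by
      have := hv k
      rwa [μ.2, μ'.2, Units.val_one, one_mul, one_mul, hE, hE] at this))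
    subst hθ
    refine Prod.ext rfl (Subtype.ext ?_)
    -- a linear twist fixing the character is trivial
    have hμμ : ∀ g, (((μ'.1 g)⁻¹ * μ.1 g : ℂˣ) : ℂ) * (E θ : G → ℂ) g = (E θ : G → ℂ) g := fun g => by
      rw [Units.val_mul, mul_assoc, hv, ← mul_assoc, ← Units.val_mul, inv_mul_cancel, Units.val_one,
        one_mul]
    by_contra hne
    have hν : μ'.1⁻¹ * μ.1 ≠ 1 := fun h0 => hne (inv_mul_eq_one.1 h0).symm
    obtain ⟨g₀, hg₀⟩ : ∃ g, (μ'.1⁻¹ * μ.1) g ≠ 1 := by
      by_contra h0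
      push Not at h0
      exact hν (MonoidHom.ext h0)
    -- so the character vanishes off the kernel `N`, against `[θ, θ] = 1`
    set N := (μ'.1⁻¹ * μ.1).ker with hN
    haveI : Fintype N := Fintype.ofFinite _
    have hzero : ∀ g, g ∉ N → (E θ : G → ℂ) g = 0 := fun g hg => by
      by_contra h0
      exact hg (MonoidHom.mem_ker.2 (Units.ext ((mul_eq_right₀ h0).1 (hμμ g))))
    have hsum1 := DegreeTools.sum_norm_sq (E θ)
    have hKN : K ≤ N := fun k hk => by
      rw [hN, MonoidHom.mem_ker]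
      show (μ'.1 k)⁻¹ * μ.1 k = 1
      rw [μ.2 ⟨k, hk⟩, μ'.2 ⟨k, hk⟩, inv_one, one_mul]
    obtain ⟨x, hx⟩ : ∃ η : Cfsg.IrrCharacter N, ∀ n : N, (E θ : G → ℂ) n = (η : N → ℂ) n := by
      exact exists_restrict_eq (E θ) ((hdegE θ).coprime_dvd_right (Subgroup.index_dvd_of_le hKN))
    have hsum2 := DegreeTools.sum_norm_sq x
    have hsplit : ∑ g, ‖(E θ : G → ℂ) g‖ ^ 2 = ∑ n : N, ‖(x : N → ℂ) n‖ ^ 2 := by
      rw [← Finset.sum_subset (Finset.subset_univ (Finset.univ.filter fun g => g ∈ N))]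
      · rw [Finset.sum_subtype (p := fun g => g ∈ N) _ (by simp)]
        exact Finset.sum_congr rfl fun n _ => by rw [hx]
      · intro g _ hg
        rw [hzero g (by simpa using hg)]
        simp
    rw [hsum1, hsum2] at hsplit
    have hNtop : N = ⊤ := Subgroup.eq_top_of_card_eq N (by exact_mod_cast hsplit.symm)
    exact hg₀ (MonoidHom.mem_ker.1 (hN ▸ hNtop ▸ Subgroup.mem_top g₀))
  · rintro ⟨χ, hχ⟩
    obtain ⟨θ, hθ⟩ := exists_restrict_eq χ hχ
    have hinv : GInv (θ : K → ℂ) := fun g n => by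
      rw [← hθ, ← hθ]
      exact Char.IsIrrCharacter.isClassFunction χ.2 (n : G) g
    obtain ⟨μ, hμK, hμ⟩ := exists_hom_mul (E ⟨θ, hinv⟩) χ θ (hE _) hθ
    exact ⟨⟨⟨θ, hinv⟩, ⟨μ, hμK⟩⟩, Subtype.ext (Subtype.ext (funext fun g => (hμ g).symm))⟩

end CfsgLib.CharDeep.Glauberman
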