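import Cfsg.Agent.Lib.CharDeep.Glauberman.Operators
import Cfsg.Agent.Lib.Coprime.Abelian

/-!
# Operators given by a subgroup normalising another
-/

set_option autoImplicit false

namespace CfsgLib.CharDeep.Glauberman

variable {Γ : Type*} [Group Γ] {G S : Subgroup Γ}

theorem le_normalizer_of_conj [Finite Γ] (hnorm : ∀ s ∈ S, ∀ g ∈ G, s * g * s⁻¹ ∈ G) :
    S ≤ Subgroup.normalizer (G : Set Γ) :=
  Subgroup.le_normalizer_iff.2 hnorm

/-- Conjugation by a normalising subgroup. -/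
noncomputable def subAct [Finite Γ] (hnorm : ∀ s ∈ S, ∀ g ∈ G, s * g * s⁻¹ ∈ G) : S →* MulAut G :=
  Coprime.conjHom (le_normalizer_of_conj hnorm)

theorem subAct_apply [Finite Γ] (hnorm : ∀ s ∈ S, ∀ g ∈ G, s * g * s⁻¹ ∈ G) (s : S) (g : G) :
    (subAct hnorm s g : Γ) = s * g * (s : Γ)⁻¹ :=
  Coprime.conjHom_apply _ _ _

theorem inv_iff [Finite Γ] (hnorm : ∀ s ∈ S, ∀ g ∈ G, s * g * s⁻¹ ∈ G) (χ : G → ℂ) :
    Inv (subAct hnorm) χ ↔
      ∀ s ∈ S, ∀ g g' : G, (g' : Γ) = s * g * s⁻¹ → χ g' = χ g := by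
  constructor
  · intro h s hs g g' e
    rw [show g' = subAct hnorm ⟨s, hs⟩ g from Subtype.ext (e.trans (subAct_apply hnorm ⟨s, hs⟩ g).symm)]
    exact h _ _
  · intro h s g
    exact h s s.2 g _ (subAct_apply _ _ _)

end CfsgLib.CharDeep.Glauberman
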