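import Cfsg.Agent.Lib.CharDeep.Galois.CharAut
import Cfsg.Agent.Lib.CharDeep.Galois.ComplexAut
import Cfsg.Agent.Lib.DegreeTools.Galois
import Cfsg.Agent.Lib.Char.CoprimeCoset
import Cfsg.Agent.Lib.Char.Linear
import Mathlib.GroupTheory.NoncommCoprod
import Mathlib.GroupTheory.Complement
import Mathlib.RingTheory.RootsOfUnity.Complex

/-!
# Canonical extensions to a cyclic group of operators

`Γ = G ⟨s⟩` with `G` normal of order prime to `m = orderOf s`, and `C` the centralizer of `s` in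
`G`.  For a canonical extension `χ` the class functions `c ↦ χ (c * s ^ i)` on `C` have rational
coefficients, and have norm one as soon as `s ^ i` has centralizer `C` in `G`: they are then
irreducible up to sign.
-/

set_option autoImplicit false

namespace CfsgLib.CharDeep.Glauberman

open CfsgLib
open scoped ComplexConjugate Pointwise

variable {Γ : Type*} [Group Γ] [Fintype Γ]

/-- The standing hypotheses. -/
structure Cyc (G C : Subgroup Γ) (s : Γ) : Prop where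
  normal : G.Normal
  cop : (Nat.card G).Coprime (orderOf s)
  span : G ⊔ Subgroup.zpowers s = ⊤
  mem_iff : ∀ g, g ∈ C ↔ g ∈ G ∧ s * g = g * s

/-- A character restricting irreducibly, of determinantal order prime to the number of operators. -/
structure Canon (G : Subgroup Γ) (m : ℕ) (χ : Γ → ℂ) : Prop where
  irr : Cfsg.IsIrrCharacter Γ χ
  irr_res : Cfsg.IsIrrCharacter G (fun g : G => χ g)
  det : (Cfsg.detOrder χ).Coprime m

variable {G C : Subgroup Γ} {s : Γ}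

/-- The coefficient of `φ` in `c ↦ χ (c * s ^ i)`. -/
noncomputable def coef (C : Subgroup Γ) [Fintype C] (χ : Γ → ℂ) (s : Γ) (φ : C → ℂ) (i : ℕ) : ℂ :=
  Cfsg.classInner (fun c : C => χ ((c : Γ) * s ^ i)) φ

theorem Cyc.le (h : Cyc G C s) : C ≤ G := fun _ hg => ((h.mem_iff _).mp hg).1

theorem Cyc.commute (h : Cyc G C s) (c : C) : Commute (c : Γ) s :=
  (((h.mem_iff _).mp c.2).2).symm

theorem Cyc.disjoint (h : Cyc G C s) : Disjoint G (Subgroup.zpowers s) :=
  disjoint_iff.mpr (Subgroup.inf_eq_bot_of_coprime (by rw [Nat.card_zpowers]; exact h.cop))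

theorem Cyc.index_eq (h : Cyc G C s) : G.index = orderOf s := by
  haveI := h.normal
  rw [← Nat.card_zpowers]
  refine (Subgroup.isComplement'_of_disjoint_and_mul_eq_univ h.disjoint.symm ?_).index_eq_card
  rw [← Subgroup.mul_normal, sup_comm, h.span, Subgroup.coe_top]

theorem Cyc.cop_index (h : Cyc G C s) : G.index.Coprime (Nat.card G) := by
  rw [h.index_eq]; exact h.cop.symm

theorem Cyc.exists_eq (h : Cyc G C s) (x : Γ) : ∃ g ∈ G, ∃ i : ℕ, i < orderOf s ∧ x = g * s ^ i := by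
  classical
  haveI := h.normal
  have hx : x ∈ (G : Set Γ) * (Subgroup.zpowers s : Set Γ) := by
    rw [← Subgroup.normal_mul, h.span, Subgroup.coe_top]; exact Set.mem_univ x
  obtain ⟨g, hg, y, hy, rfl⟩ := hx
  obtain ⟨i, rfl⟩ := (isOfFinOrder_of_finite s).mem_zpowers_iff_mem_range_orderOf.mp hy
    |> Finset.mem_image.mp |> fun ⟨i, hi, e⟩ => (⟨⟨i, Finset.mem_range.mp hi⟩, e⟩ :
      ∃ i : Fin (orderOf s), s ^ (i : ℕ) = y)
  exact ⟨g, hg, i, i.2, rfl⟩

theorem Cyc.pow_mem_iff (h : Cyc G C s) {i : ℕ} : s ^ i ∈ G ↔ orderOf s ∣ i := by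
  refine ⟨fun hi => orderOf_dvd_of_pow_eq_one ?_, fun hi => ?_⟩
  · exact Subgroup.disjoint_def.mp h.disjoint hi (Subgroup.pow_mem _ (Subgroup.mem_zpowers s) i)
  · rw [orderOf_dvd_iff_pow_eq_one.mp hi]; exact one_mem G

theorem Cyc.exists_lam (h : Cyc G C s) {ζ : ℂ} (hζ : IsPrimitiveRoot ζ (orderOf s)) :
    ∃ l : Γ →* ℂˣ, (∀ g ∈ G, l g = 1) ∧ (l s : ℂ) = ζ := by
  haveI := h.normal
  have hm : orderOf s ≠ 0 := (orderOf_pos s).ne'
  have hgen : ∀ x : Γ ⧸ G, x ∈ Subgroup.zpowers ((s : Γ ⧸ G)) := by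
    intro x
    induction x using QuotientGroup.induction_on with
    | H x =>
      obtain ⟨g, hg, i, -, rfl⟩ := h.exists_eq x
      rw [QuotientGroup.mk_mul, (QuotientGroup.eq_one_iff g).mpr hg, one_mul, QuotientGroup.mk_pow]
      exact Subgroup.pow_mem _ (Subgroup.mem_zpowers _) i
  have hord : orderOf (hζ.isUnit hm).unit ∣ orderOf ((s : Γ ⧸ G)) := by
    refine orderOf_dvd_of_pow_eq_one (Units.ext ?_)
    rw [Units.val_pow_eq_pow_val, IsUnit.unit_spec, Units.val_one]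
    refine (hζ.pow_eq_one_iff_dvd _).mpr (h.pow_mem_iff.mp ?_)
    rw [← QuotientGroup.eq_one_iff, QuotientGroup.mk_pow, pow_orderOf_eq_one]
  refine ⟨(monoidHomOfForallMemZpowers hgen hord).comp (QuotientGroup.mk' G), fun g hg => ?_, ?_⟩
  · show monoidHomOfForallMemZpowers hgen hord ((g : Γ ⧸ G)) = 1
    rw [(QuotientGroup.eq_one_iff g).mpr hg, map_one]
  · show ((monoidHomOfForallMemZpowers hgen hord ((s : Γ ⧸ G)) : ℂˣ) : ℂ) = ζ
    rw [monoidHomOfForallMemZpowers_apply_gen, IsUnit.unit_spec]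

theorem root_pow_congr {m : ℕ} {z : ℂ} (hz : z ^ m = 1) {a b : ℕ} (h : a ≡ b [MOD m]) :
    z ^ a = z ^ b := by
  rw [pow_eq_pow_mod a hz, pow_eq_pow_mod b hz, show a % m = b % m from h]

theorem modEq_of_root_pow {m : ℕ} {z : ℂ} (hm : m ≠ 0) (hz : IsPrimitiveRoot z m) {a b : ℕ}
    (h : z ^ a = z ^ b) : a ≡ b [MOD m] := by
  rw [pow_eq_pow_mod a hz.pow_eq_one, pow_eq_pow_mod b hz.pow_eq_one] at h
  exact hz.pow_inj (Nat.mod_lt _ (Nat.pos_of_ne_zero hm)) (Nat.mod_lt _ (Nat.pos_of_ne_zero hm)) h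

theorem sum_pow_root {m : ℕ} {ζ : ℂ} (hm : m ≠ 0) (hζ : IsPrimitiveRoot ζ m) (k i : ℕ) :
    ∑ j ∈ Finset.range m, (ζ ^ k * (ζ ^ i)⁻¹) ^ j = if k ≡ i [MOD m] then (m : ℂ) else 0 := by
  have hz : ζ ^ i ≠ 0 := pow_ne_zero _ (hζ.ne_zero hm)
  split_ifs with h
  · have : ζ ^ k = ζ ^ i := root_pow_congr hζ.pow_eq_one h
    simp [this, mul_inv_cancel₀ hz]
  · have hne : ζ ^ k * (ζ ^ i)⁻¹ ≠ 1 := fun e =>
      h (modEq_of_root_pow hm hζ ((mul_inv_eq_one₀ hz).mp e))
    rw [geom_sum_eq hne, mul_pow, inv_pow, ← pow_mul, ← pow_mul, mul_comm k, mul_comm i, pow_mul,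
      pow_mul, hζ.pow_eq_one, one_pow, one_pow, inv_one, mul_one, sub_self, zero_div]

theorem conj_root {m : ℕ} {z : ℂ} (hm : m ≠ 0) (hz : z ^ m = 1) : conj z = z⁻¹ :=
  (Complex.inv_eq_conj (Complex.norm_eq_one_of_pow_eq_one hz hm)).symm

variable [Fintype C]

/-- The coefficients are Fourier sums with natural coefficients. -/
theorem Cyc.exists_expansion (h : Cyc G C s) {χ : Γ → ℂ} (hχ : Cfsg.IsCharacter Γ χ) {φ : C → ℂ}
    (hφ : Cfsg.IsCharacter C φ) {ζ : ℂ} (hζ : IsPrimitiveRoot ζ (orderOf s)) :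
    ∃ N : ℕ → ℕ, ∀ i, coef C χ s φ i = ∑ j ∈ Finset.range (orderOf s), (N j : ℂ) * ζ ^ (i * j) := by
  classical
  set m := orderOf s with hm
  have hm0 : m ≠ 0 := (orderOf_pos s).ne'
  let Φ : C × Subgroup.zpowers s →* Γ := MonoidHom.noncommCoprod C.subtype (Subgroup.zpowers s).subtype
    (fun c z => by
      obtain ⟨k, hk⟩ := Subgroup.mem_zpowers_iff.mp z.2
      show Commute (c : Γ) (z : Γ)
      rw [← hk]
      exact (h.commute c).zpow_right k)
  obtain ⟨l, -, hls⟩ := h.exists_lam hζ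
  have key : ∀ j : ℕ, ∃ n : ℕ,
      (m : ℂ)⁻¹ * ∑ i ∈ Finset.range m, coef C χ s φ i * ((ζ ^ i)⁻¹) ^ j = n := by
    intro j
    let ν : Subgroup.zpowers s →* ℂˣ := (powMonoidHom j).comp (l.comp (Subgroup.zpowers s).subtype)
    obtain ⟨n, hn⟩ := Char.IsCharacter.classInner_nat
      (Char.IsCharacter.comp hχ Φ)
      (Char.IsCharacter.mul (Char.IsCharacter.comp hφ (MonoidHom.fst C (Subgroup.zpowers s)))
        (Char.IsCharacter.comp (Char.isCharacter_hom ν) (MonoidHom.snd C (Subgroup.zpowers s))))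
    refine ⟨n, ?_⟩
    rw [← hn]
    simp only [Cfsg.classInner, Fintype.sum_prod_type, Nat.card_prod, Nat.card_zpowers,
      Nat.cast_mul, mul_inv]
    rw [Finset.sum_comm, mul_comm (Nat.card C : ℂ)⁻¹, mul_assoc]
    congr 1
    rw [Finset.mul_sum, Finset.sum_range fun i => coef C χ s φ i * ((ζ ^ i)⁻¹) ^ j]
    refine Fintype.sum_equiv (finEquivZPowers (isOfFinOrder_of_finite s)) _ _ fun i => ?_
    rw [coef, Cfsg.classInner, mul_assoc, Finset.sum_mul]
    congr 1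
    refine Finset.sum_congr rfl fun c _ => ?_
    rw [finEquivZPowers_apply]
    show _ = χ ((c : Γ) * s ^ (i : ℕ)) * conj (φ c * ((l (s ^ (i : ℕ)) ^ j : ℂˣ) : ℂ))
    rw [map_mul, Units.val_pow_eq_pow_val, map_pow l, Units.val_pow_eq_pow_val, hls, map_pow,
      conj_root hm0 (z := ζ ^ (i : ℕ)) (by rw [← pow_mul, mul_comm, pow_mul, hζ.pow_eq_one, one_pow])]
    ring
  choose N hN using key
  refine ⟨N, fun k => ?_⟩
  have hper : coef C χ s φ k = coef C χ s φ (k % m) := by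
    simp only [coef, hm, pow_mod_orderOf]
  rw [Finset.sum_congr rfl fun j _ => by rw [← hN j, mul_assoc, Finset.sum_mul]]
  rw [← Finset.mul_sum, Finset.sum_comm]
  rw [Finset.sum_congr rfl (fun i _ => show ∑ j ∈ Finset.range m,
      coef C χ s φ i * ((ζ ^ i)⁻¹) ^ j * ζ ^ (k * j) =
      coef C χ s φ i * if k ≡ i [MOD m] then (m : ℂ) else 0 by
    rw [← sum_pow_root hm0 hζ k i, Finset.mul_sum]
    exact Finset.sum_congr rfl fun j _ => by rw [mul_pow, ← pow_mul ζ k j]; ring)]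
  rw [Finset.sum_eq_single (k % m), if_pos ((Nat.mod_modEq k m).symm), ← hper,
    mul_left_comm, inv_mul_cancel₀ (Nat.cast_ne_zero.mpr hm0), mul_one]
  · intro i hi hne
    rw [if_neg fun e => hne ?_, mul_zero]
    rw [e, Nat.mod_eq_of_lt (Finset.mem_range.mp hi)]
  · exact fun h' => absurd (Finset.mem_range.mpr (Nat.mod_lt _ (Nat.pos_of_ne_zero hm0))) h'

variable [Fintype G]

/-- Rationality of the coefficients of a canonical extension. -/
theorem Cyc.coef_galois (h : Cyc G C s) {χ : Γ → ℂ} (hχ : Canon G (orderOf s) χ) {φ : C → ℂ}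
    (hφ : Cfsg.IsCharacter C φ) (i : ℕ) {k : ℕ} (hk : k.Coprime (orderOf s)) :
    coef C χ s φ (i * k) = coef C χ s φ i := by
  classical
  haveI := h.normal
  set m := orderOf s with hm
  set n := Nat.card G with hn
  have hm0 : m ≠ 0 := (orderOf_pos s).ne'
  have hn0 : n ≠ 0 := Nat.card_pos.ne'
  have hN0 : n * m ≠ 0 := mul_ne_zero hn0 hm0
  obtain ⟨k', hk1, hk2⟩ : ∃ k' : ℕ, k' ≡ k [MOD m] ∧ k' ≡ 1 [MOD n] := by
    obtain ⟨k', hk'⟩ := Nat.chineseRemainder h.cop.symm k 1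
    exact ⟨k', hk'⟩
  have hω := Complex.isPrimitiveRoot_exp (n * m) hN0
  set ω := Complex.exp (2 * Real.pi * Complex.I / ((n * m : ℕ) : ℂ))
  have hk' : k'.Coprime (n * m) := by
    refine Nat.Coprime.mul_right ?_ ?_
    · rw [Nat.coprime_iff_gcd_eq_one, Nat.ModEq.gcd_eq hk2, Nat.gcd_one_left]
    · rw [Nat.coprime_iff_gcd_eq_one, Nat.ModEq.gcd_eq hk1]
      exact hk
  obtain ⟨σ, hσ⟩ := Galois.exists_ringEquiv_primitive hN0 hω (hω.pow_of_coprime k' hk')
  have hroot : ∀ z : ℂ, z ^ (n * m) = 1 → σ z = z ^ k' := by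
    intro z hz
    haveI : NeZero (n * m) := ⟨hN0⟩
    obtain ⟨e, -, rfl⟩ := hω.eq_pow_of_pow_eq_one hz
    rw [map_pow, hσ, ← pow_mul, ← pow_mul, mul_comm]
  have hfixn : ∀ z : ℂ, z ^ n = 1 → σ z = z := by
    intro z hz
    rw [hroot z (by rw [pow_mul, hz, one_pow])]
    conv_rhs => rw [← pow_one z]
    exact root_pow_congr hz hk2
  have hfix : ∀ (H : Subgroup Γ) (θ : H → ℂ), H ≤ G → Cfsg.IsCharacter H θ →
      ∀ x, σ (θ x) = θ x := by
    rintro H θ hHG ⟨d, ρ, rfl⟩ x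
    obtain ⟨μ, hμ, hval⟩ := Char.exists_eigenvalues ρ x
    have hx : orderOf x ∣ n := (orderOf_dvd_natCard x).trans (Subgroup.card_dvd_of_le hHG)
    have h1 := hval 1
    rw [pow_one] at h1
    rw [h1, map_sum]
    refine Finset.sum_congr rfl fun a _ => ?_
    rw [map_pow, hfixn]
    exact orderOf_dvd_iff_pow_eq_one.mp ((orderOf_dvd_of_pow_eq_one (hμ a)).trans hx)
  have hσχ : (σ : ℂ →+* ℂ) ∘ χ = χ := by
    have hG : ∀ g : G, ((σ : ℂ →+* ℂ) ∘ χ) (g : Γ) = χ g := fun g =>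
      hfix G (fun g : G => χ g) le_rfl (Char.IsIrrCharacter.isCharacter hχ.irr_res) g
    refine Galois.canonical_unique h.cop_index (Galois.isIrrCharacter_map _ hχ.irr) hχ.irr
      hχ.irr_res hG (fun _ => rfl) ?_ ?_
    · rw [Galois.detOrder_map _ hχ.irr, h.index_eq]; exact hχ.det
    · rw [h.index_eq]; exact hχ.det
  have hσcoef : σ (coef C χ s φ i) = coef C χ s φ i := by
    simp only [coef, Cfsg.classInner, map_mul, map_inv₀, map_natCast, map_sum]
    congr 1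
    refine Finset.sum_congr rfl fun c _ => ?_
    rw [← Char.IsCharacter.apply_inv hφ c, hfix C φ h.le hφ c⁻¹]
    congr 1
    exact congrFun hσχ _
  have hζ : IsPrimitiveRoot (ω ^ n) m := hω.pow (Nat.pos_of_ne_zero hN0) rfl
  obtain ⟨N, hN⟩ := h.exists_expansion (Char.IsIrrCharacter.isCharacter hχ.irr) hφ hζ
  rw [← hσcoef, hN, hN, map_sum]
  refine Finset.sum_congr rfl fun j _ => ?_
  rw [map_mul, map_natCast, map_pow, hroot (ω ^ n) (by rw [← pow_mul, mul_comm, pow_mul,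
    hω.pow_eq_one, one_pow]), ← pow_mul (ω ^ n)]
  congr 1
  refine root_pow_congr hζ.pow_eq_one ?_
  rw [show k' * (i * j) = i * k' * j by ring]
  exact ((hk1.symm).mul_left i).mul_right j

theorem Cyc.coef_int (h : Cyc G C s) {χ : Γ → ℂ} (hχ : Canon G (orderOf s) χ) {φ : C → ℂ}
    (hφ : Cfsg.IsCharacter C φ) (i : ℕ) :
    conj (coef C χ s φ i) = coef C χ s φ i ∧
      (coef C χ s φ i = 0 ∨ 1 ≤ ‖coef C χ s φ i‖) := by
  classical
  set m := orderOf s with hm
  have hm0 : m ≠ 0 := (orderOf_pos s).ne'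
  have hζ := Complex.isPrimitiveRoot_exp m hm0
  set ζ := Complex.exp (2 * Real.pi * Complex.I / (m : ℂ))
  obtain ⟨N, hN⟩ := h.exists_expansion (Char.IsIrrCharacter.isCharacter hχ.irr) hφ hζ
  constructor
  · have hk : (m - 1).Coprime m := by
      rcases Nat.lt_or_ge m 2 with h2 | h2
      · interval_cases m <;> simp_all
      · exact (Nat.coprime_self_sub_left (by omega)).mpr (Nat.coprime_one_left m)
    conv_rhs => rw [← h.coef_galois hχ hφ i hk, hN]
    rw [hN, map_sum]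
    refine Finset.sum_congr rfl fun j _ => ?_
    rw [map_mul, map_natCast]
    congr 1
    rw [conj_root hm0 (by rw [← pow_mul, mul_comm, pow_mul, hζ.pow_eq_one, one_pow])]
    refine inv_eq_of_mul_eq_one_right ?_
    rw [← pow_add]
    refine (root_pow_congr hζ.pow_eq_one (b := 0) (Nat.modEq_zero_iff_dvd.mpr ⟨i * j, ?_⟩)).trans (pow_zero ζ)
    obtain ⟨m', hm'⟩ : ∃ m', m = m' + 1 := ⟨m - 1, by omega⟩
    rw [hm', Nat.add_sub_cancel]
    ring
  · by_cases h0 : coef C χ s φ i = 0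
    · exact Or.inl h0
    refine Or.inr ?_
    let M : ℕ → ℕ := fun t => ∑ j ∈ (Finset.range m).filter (fun j => i * j % m = t), N j
    have hM : ∀ k : ℕ, ∑ t ∈ Finset.range m, (M t : ℂ) * (ζ ^ k) ^ t = coef C χ s φ (i * k) := by
      intro k
      rw [hN]
      simp only [M, Nat.cast_sum, Finset.sum_mul]
      conv_rhs => rw [← Finset.sum_fiberwise_of_maps_to (g := fun j => i * j % m) (t := Finset.range m)
        (fun j _ => Finset.mem_range.mpr (Nat.mod_lt _ (Nat.pos_of_ne_zero hm0)))]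
      refine Finset.sum_congr rfl fun t _ => Finset.sum_congr rfl fun j hj => ?_
      rw [← (Finset.mem_filter.mp hj).2, ← pow_mul]
      congr 1
      refine root_pow_congr hζ.pow_eq_one ?_
      rw [show i * k * j = k * (i * j) by ring]
      exact (Nat.mod_modEq (i * j) m).mul_left k
    have hsum : ∀ r ∈ primitiveRoots m ℂ,
        ∑ t ∈ Finset.range m, (M t : ℂ) * r ^ t = coef C χ s φ i := by
      intro r hr
      haveI : NeZero m := ⟨hm0⟩
      obtain ⟨k, -, hk, rfl⟩ := (hζ.isPrimitiveRoot_iff).mp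
        ((mem_primitiveRoots (Nat.pos_of_ne_zero hm0)).mp hr)
      rw [hM, h.coef_galois hχ hφ i hk]
    have hω : ζ ∈ primitiveRoots m ℂ := (mem_primitiveRoots (Nat.pos_of_ne_zero hm0)).mpr hζ
    have hint : IsIntegral ℤ (coef C χ s φ i) := by
      rw [hN]
      exact IsIntegral.sum _ fun j _ =>
        (by simpa using isIntegral_algebraMap (R := ℤ) (A := ℂ) (x := (N j : ℤ)) :
          IsIntegral ℤ (N j : ℂ)).mul ((hζ.isIntegral (Nat.pos_of_ne_zero hm0)).pow _)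
    have hone := DegreeTools.Galois.one_le_prod_norm hm0 hζ M 1
      (by rw [Nat.cast_one, div_one, hsum ζ hω]; exact hint)
      (by rw [Nat.cast_one, div_one, hsum ζ hω]; exact h0)
    rw [Finset.prod_congr rfl (fun r hr => by rw [hsum r hr, Nat.cast_one, div_one]),
      Finset.prod_const] at hone
    by_contra hlt
    push Not at hlt
    exact absurd hone (not_le.mpr (pow_lt_one₀ (norm_nonneg _) hlt
      (Finset.card_pos.mpr ⟨ζ, hω⟩).ne'))

omit [Fintype C] in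
/-- Orthogonality on a coset. -/
theorem Cyc.sum_coset (h : Cyc G C s) {χ χ' : Γ → ℂ} (hχ : Canon G (orderOf s) χ)
    (hχ' : Canon G (orderOf s) χ') (i : ℕ) :
    ∑ g : G, χ ((g : Γ) * s ^ i) * conj (χ' ((g : Γ) * s ^ i)) =
      (open Classical in if χ = χ' then (Nat.card G : ℂ) else 0) := by
  classical
  haveI := h.normal
  set m := orderOf s with hm
  have hm0 : m ≠ 0 := (orderOf_pos s).ne'
  have hζ := Complex.isPrimitiveRoot_exp m hm0
  set ζ := Complex.exp (2 * Real.pi * Complex.I / (m : ℂ))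
  obtain ⟨l, hlG, hls⟩ := h.exists_lam hζ
  -- values of the linear character
  have hlval : ∀ (g : G) (a : ℕ), (l ((g : Γ) * s ^ a) : ℂ) = ζ ^ a := fun g a => by
    rw [map_mul, hlG g g.2, one_mul, map_pow, Units.val_pow_eq_pow_val, hls]
  -- sums over the group, coset by coset
  let e : G × Fin m → Γ := fun p => (p.1 : Γ) * s ^ (p.2 : ℕ)
  have he : Function.Bijective e := by
    refine ⟨fun p q hpq => ?_, fun x => ?_⟩
    · have h1 : (q.1 : Γ)⁻¹ * p.1 = s ^ (q.2 : ℕ) * (s ^ (p.2 : ℕ))⁻¹ := by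
        rw [eq_mul_inv_iff_mul_eq, mul_assoc, show (p.1 : Γ) * s ^ (p.2 : ℕ) = q.1 * s ^ (q.2 : ℕ)
          from hpq, inv_mul_cancel_left]
      have h2 := Subgroup.disjoint_def.mp h.disjoint (G.mul_mem (inv_mem q.1.2) p.1.2)
        (h1 ▸ Subgroup.mul_mem _ (Subgroup.pow_mem _ (Subgroup.mem_zpowers s) _)
          (inv_mem (Subgroup.pow_mem _ (Subgroup.mem_zpowers s) _)))
      rw [h2, eq_comm, mul_inv_eq_one] at h1
      exact Prod.ext (Subtype.ext (inv_mul_eq_one.mp h2).symm)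
        (Fin.ext (pow_injOn_Iio_orderOf q.2.2 p.2.2 h1).symm)
    · obtain ⟨g, hg, a, ha, rfl⟩ := h.exists_eq x
      exact ⟨(⟨g, hg⟩, ⟨a, ha⟩), rfl⟩
  let T : Fin m → ℂ := fun a => ∑ g : G, χ ((g : Γ) * s ^ (a : ℕ)) * conj (χ' ((g : Γ) * s ^ (a : ℕ)))
  let tw : ℕ → Γ → ℂ := fun j x => χ x * (l x : ℂ) ^ j
  have htw : ∀ j, Cfsg.classInner (tw j) χ' =
      (Nat.card Γ : ℂ)⁻¹ * ∑ a : Fin m, T a * ζ ^ ((a : ℕ) * j) := by
    intro j
    rw [Cfsg.classInner, ← Fintype.sum_equiv (Equiv.ofBijective e he) _ _ (fun _ => rfl),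
      Fintype.sum_prod_type, Finset.sum_comm]
    congr 1
    refine Finset.sum_congr rfl fun a _ => ?_
    rw [Finset.sum_mul]
    refine Finset.sum_congr rfl fun g _ => ?_
    show χ ((g : Γ) * s ^ (a : ℕ)) * (l ((g : Γ) * s ^ (a : ℕ)) : ℂ) ^ j *
      conj (χ' ((g : Γ) * s ^ (a : ℕ))) = _
    rw [hlval, ← pow_mul]
    ring
  have hnat : ∀ j, ∃ n : ℕ, Cfsg.classInner (tw j) χ' = n := fun j =>
    Char.IsCharacter.classInner_nat (Char.IsCharacter.mul (Char.IsIrrCharacter.isCharacter hχ.irr)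
      (by simpa using Char.isCharacter_hom ((powMonoidHom j).comp l)))
      (Char.IsIrrCharacter.isCharacter hχ'.irr)
  choose n hn using hnat
  have hG0 : ∀ a : Fin m, (a : ℕ) = 0 → T a =
      (Nat.card G : ℂ) * Cfsg.classInner (fun g : G => χ g) (fun g : G => χ' g) := by
    intro a ha
    rw [Cfsg.classInner, ← mul_assoc, mul_inv_cancel₀ Char.card_ne_zero, one_mul]
    show ∑ g : G, _ = _
    simp [ha]
  have hcardΓ : (Nat.card Γ : ℂ) = (Nat.card G : ℂ) * m := by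
    rw [← G.card_mul_index, h.index_eq, Nat.cast_mul]
  have hinv : ∀ a : Fin m, ∑ j ∈ Finset.range m, (n j : ℂ) * ((ζ ^ (a : ℕ))⁻¹) ^ j =
      (Nat.card G : ℂ)⁻¹ * T a := by
    intro a
    rw [Finset.sum_congr rfl fun j _ => by rw [← hn j, htw, mul_assoc, Finset.sum_mul]]
    rw [← Finset.mul_sum, Finset.sum_comm]
    rw [Finset.sum_congr rfl (fun b (_ : b ∈ Finset.univ) => show ∑ j ∈ Finset.range m,
      T b * ζ ^ ((b : ℕ) * j) * ((ζ ^ (a : ℕ))⁻¹) ^ j =
        T b * if (b : ℕ) ≡ a [MOD m] then (m : ℂ) else 0 by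
      rw [← sum_pow_root hm0 hζ b a, Finset.mul_sum]
      exact Finset.sum_congr rfl fun j _ => by rw [mul_pow, pow_mul]; ring)]
    rw [Finset.sum_eq_single a, if_pos (Nat.ModEq.refl _), hcardΓ, mul_inv]
    · field_simp
    · intro b _ hb
      rw [if_neg fun e => hb (Fin.ext (Nat.ModEq.eq_of_lt_of_lt e b.2 a.2)), mul_zero]
    · exact fun h' => absurd (Finset.mem_univ _) h'
  have hsum : ∑ j ∈ Finset.range m, (n j : ℂ) = if χ = χ' then 1 else 0 := by
    have h0 := hinv ⟨0, Nat.pos_of_ne_zero hm0⟩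
    simp only [pow_zero, inv_one, one_pow, mul_one] at h0
    rw [h0, hG0 _ rfl, ← mul_assoc, inv_mul_cancel₀ Char.card_ne_zero, one_mul,
      Char.classInner_irr hχ.irr_res hχ'.irr_res]
    by_cases e : χ = χ'
    · subst e; simp
    · rw [if_neg e, if_neg fun e' => e ?_]
      refine Galois.canonical_unique h.cop_index hχ.irr hχ'.irr hχ'.irr_res
        (fun g => congrFun e' g) (fun _ => rfl) ?_ ?_
      · rw [h.index_eq]; exact hχ.det
      · rw [h.index_eq]; exact hχ'.det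
  have hn0 : n 0 = if χ = χ' then 1 else 0 := by
    apply Nat.cast_injective (R := ℂ)
    rw [← hn 0, show tw 0 = χ from funext fun x => by simp [tw],
      Char.classInner_irr hχ.irr hχ'.irr]
    split_ifs <;> simp
  have hrest : ∀ j ∈ Finset.range m, j ≠ 0 → n j = 0 := by
    intro j hj hj0
    have h1 : ∑ j ∈ Finset.range m, n j = n 0 := by
      apply Nat.cast_injective (R := ℂ)
      rw [Nat.cast_sum, hsum, hn0]
      split_ifs <;> simp
    rw [← Finset.add_sum_erase _ _ (Finset.mem_range.mpr (Nat.pos_of_ne_zero hm0))] at h1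
    exact (Finset.sum_eq_zero_iff.mp (by omega :
      ∑ j ∈ (Finset.range m).erase 0, n j = 0)) j (Finset.mem_erase.mpr ⟨hj0, hj⟩)
  have hi := hinv ⟨i % m, Nat.mod_lt _ (Nat.pos_of_ne_zero hm0)⟩
  rw [Finset.sum_eq_single 0 (fun j hj hj0 => by rw [hrest j hj hj0, Nat.cast_zero, zero_mul])
    (fun h' => absurd (Finset.mem_range.mpr (Nat.pos_of_ne_zero hm0)) h'), pow_zero, mul_one,
    hn0, eq_inv_mul_iff_mul_eq₀ Char.card_ne_zero] at hi
  rw [show s ^ i = s ^ (i % m) by rw [hm, pow_mod_orderOf]]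
  refine Eq.trans ?_ (hi.symm.trans ?_)
  · rfl
  · split_ifs <;> simp

omit [Fintype C] in
/-- Averaging a class function over a coset. -/
theorem Cyc.sum_coset_fixed [Fintype C] (h : Cyc G C s) {i : ℕ}
    (hi : ∀ g ∈ G, s ^ i * g = g * s ^ i → g ∈ C) {F : Γ → ℂ} (hF : Cfsg.IsClassFunction Γ F) :
    (Nat.card C : ℂ) * ∑ g : G, F ((g : Γ) * s ^ i) =
      (Nat.card G : ℂ) * ∑ c : C, F ((c : Γ) * s ^ i) := by
  classical
  haveI := h.normal
  set t := s ^ i with ht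
  have htC : ∀ c : C, (c : Γ) * t = t * c := fun c => (h.commute c).pow_right i
  have hcop : Nat.Coprime (orderOf t) (Nat.card G) :=
    (h.cop.symm).of_dvd_left (orderOf_pow_dvd i)
  have hmem : ∀ (x : G) (c : C), (x : Γ) * ((c : Γ) * t) * (x : Γ)⁻¹ * t⁻¹ ∈ G := by
    intro x c
    rw [show (x : Γ) * ((c : Γ) * t) * (x : Γ)⁻¹ * t⁻¹ = x * c * (t * (x : Γ)⁻¹ * t⁻¹) by group]
    exact G.mul_mem (G.mul_mem x.2 (h.le c.2)) (h.normal.conj_mem _ (inv_mem x.2) t)
  let π : G × C → G := fun p => ⟨_, hmem p.1 p.2⟩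
  have hπ : ∀ p : G × C, (π p : Γ) * t = p.1 * ((p.2 : Γ) * t) * (p.1 : Γ)⁻¹ := fun p => by
    show _ * t⁻¹ * t = _
    rw [inv_mul_cancel_right]
  have hfib : ∀ g : G, (Finset.univ.filter fun p => π p = g).card = Fintype.card C := by
    intro g
    obtain ⟨x, hx, c, hc, hct, e⟩ := Char.exists_conj_commuting G t
      (by rw [Subgroup.normalizer_eq_top]; exact Subgroup.mem_top t) hcop g g.2
    have hcC : c ∈ C := hi c hc hct.symm
    -- the base point of the fibre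
    have hbase : (g : Γ) * t = x⁻¹ * (c * t) * x := by rw [← e]; group
    rw [← Finset.card_univ]
    symm
    refine Finset.card_bij (fun y _ => ((⟨x⁻¹ * y, G.mul_mem (inv_mem hx) (h.le y.2)⟩ : G),
      y⁻¹ * ⟨c, hcC⟩ * y)) (fun y _ => ?_) (fun y _ y' _ hyy => ?_) (fun p hp => ?_)
    · refine Finset.mem_filter.mpr ⟨Finset.mem_univ _, Subtype.ext (mul_right_cancel (b := t) ?_)⟩
      rw [hπ, hbase]
      show x⁻¹ * y * ((y : Γ)⁻¹ * c * y * t) * (x⁻¹ * y)⁻¹ = _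
      calc x⁻¹ * (y : Γ) * ((y : Γ)⁻¹ * c * y * t) * (x⁻¹ * y)⁻¹ =
            x⁻¹ * c * ((y : Γ) * t) * (y : Γ)⁻¹ * x := by group
        _ = x⁻¹ * (c * t) * x := by rw [htC y]; group
    · exact Subtype.ext (mul_left_cancel (congrArg (fun q : G × C => (q.1 : Γ)) hyy))
    · obtain ⟨x', c'⟩ := p
      have hpe := congrArg (fun z : G => (z : Γ) * t) (Finset.mem_filter.mp hp).2
      rw [hπ, hbase] at hpe
      set y : Γ := x * x' with hy
      have hyG : y ∈ G := G.mul_mem hx x'.2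
      have hy1 : y * ((c' : Γ) * t) * y⁻¹ = c * t := by
        calc y * ((c' : Γ) * t) * y⁻¹ = x * ((x' : Γ) * ((c' : Γ) * t) * (x' : Γ)⁻¹) * x⁻¹ := by
              rw [hy]; group
          _ = x * (x⁻¹ * (c * t) * x) * x⁻¹ := by rw [hpe]
          _ = c * t := by group
      obtain ⟨r, hr1, hr2⟩ : ∃ r : ℕ, r ≡ 1 [MOD orderOf t] ∧ r ≡ 0 [MOD Nat.card G] := by
        obtain ⟨r, hr⟩ := Nat.chineseRemainder hcop 1 0
        exact ⟨r, hr⟩
      have hpow : ∀ d : C, ((d : Γ) * t) ^ r = t := fun d => by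
        rw [(show Commute (d : Γ) t from htC d).mul_pow,
          orderOf_dvd_iff_pow_eq_one.mp ((Subgroup.orderOf_dvd_natCard G (h.le d.2)).trans
            (Nat.modEq_zero_iff_dvd.mp hr2)), one_mul]
        conv_rhs => rw [← pow_one t]
        exact pow_eq_pow_iff_modEq.mpr hr1
      have hy2 : y * t * y⁻¹ = t := by
        have := congrArg (· ^ r) hy1
        simp only [conj_pow] at this
        rw [hpow c', hpow ⟨c, hcC⟩] at this
        exact this
      have hyC : y ∈ C := hi y hyG (mul_inv_eq_iff_eq_mul.mp hy2).symm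
      refine ⟨⟨y, hyC⟩, Finset.mem_univ _, Prod.ext (Subtype.ext ?_) (Subtype.ext ?_)⟩
      · show x⁻¹ * y = x'
        rw [hy, inv_mul_cancel_left]
      · show y⁻¹ * c * y = c'
        apply mul_right_cancel (b := t)
        calc y⁻¹ * c * y * t = y⁻¹ * (c * (y * t)) := by group
          _ = y⁻¹ * (c * t) * y := by rw [htC ⟨y, hyC⟩]; group
          _ = c' * t := by rw [← hy1]; group
  have h1 : ∑ p : G × C, F ((p.1 : Γ) * ((p.2 : Γ) * t) * (p.1 : Γ)⁻¹) =
      (Nat.card G : ℂ) * ∑ c : C, F ((c : Γ) * t) := by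
    rw [Fintype.sum_prod_type]
    show ∑ x : G, ∑ c : C, F ((x : Γ) * ((c : Γ) * t) * (x : Γ)⁻¹) = _
    rw [Finset.sum_congr rfl (fun (x : G) (_ : x ∈ Finset.univ) =>
      show ∑ c : C, F ((x : Γ) * ((c : Γ) * t) * (x : Γ)⁻¹) = ∑ c : C, F ((c : Γ) * t) from
        Finset.sum_congr rfl fun c _ => hF ((c : Γ) * t) (x : Γ)), Finset.sum_const, Finset.card_univ, nsmul_eq_mul,
      Nat.card_eq_fintype_card]
  rw [← h1, ← Finset.sum_fiberwise Finset.univ π, Finset.mul_sum]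
  refine Finset.sum_congr rfl fun g _ => ?_
  rw [Finset.sum_congr rfl (fun p hp => show F ((p.1 : Γ) * ((p.2 : Γ) * t) * (p.1 : Γ)⁻¹) =
    F ((g : Γ) * t) by rw [← hπ, (Finset.mem_filter.mp hp).2]), Finset.sum_const, hfib,
    nsmul_eq_mul, Nat.card_eq_fintype_card]

/-- Orthonormality of the restrictions to a coset of the fixed points. -/
theorem Cyc.classInner_eq (h : Cyc G C s) {χ χ' : Γ → ℂ} (hχ : Canon G (orderOf s) χ)
    (hχ' : Canon G (orderOf s) χ') {i : ℕ} (hi : ∀ g ∈ G, s ^ i * g = g * s ^ i → g ∈ C) :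
    Cfsg.classInner (fun c : C => χ ((c : Γ) * s ^ i)) (fun c : C => χ' ((c : Γ) * s ^ i)) =
      (open Classical in if χ = χ' then 1 else 0) := by
  classical
  have h1 := h.sum_coset_fixed hi (F := fun x => χ x * conj (χ' x)) (fun a b => by
    show χ (b * a * b⁻¹) * conj (χ' (b * a * b⁻¹)) = χ a * conj (χ' a)
    rw [Char.IsIrrCharacter.isClassFunction hχ.irr a b,
      Char.IsIrrCharacter.isClassFunction hχ'.irr a b])
  rw [h.sum_coset hχ hχ' i] at h1
  have h2 : ∑ c : C, χ ((c : Γ) * s ^ i) * conj (χ' ((c : Γ) * s ^ i)) =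
      (Nat.card C : ℂ) * if χ = χ' then 1 else 0 := by
    apply mul_left_cancel₀ (Char.card_ne_zero (G := G))
    rw [← h1]
    split_ifs <;> ring
  rw [Cfsg.classInner, h2, ← mul_assoc, inv_mul_cancel₀ Char.card_ne_zero, one_mul]

theorem Cyc.isClassFunction_translate (h : Cyc G C s) {χ : Γ → ℂ}
    (hχ : Cfsg.IsClassFunction Γ χ) (i : ℕ) :
    Cfsg.IsClassFunction C fun c : C => χ ((c : Γ) * s ^ i) := by
  intro a b
  show χ ((b : Γ) * a * (b : Γ)⁻¹ * s ^ i) = χ ((a : Γ) * s ^ i)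
  rw [← hχ ((a : Γ) * s ^ i) (b : Γ)]
  congr 1
  have hb : Commute (b : Γ)⁻¹ (s ^ i) := ((h.commute b).pow_right i).inv_left
  rw [mul_assoc _ _ (s ^ i), hb.eq]
  group

/-- On the coset of an element with centralizer `C` a canonical extension is irreducible up to
sign. -/
theorem Cyc.exists_sign (h : Cyc G C s) {χ : Γ → ℂ} (hχ : Canon G (orderOf s) χ) {i : ℕ}
    (hi : ∀ g ∈ G, s ^ i * g = g * s ^ i → g ∈ C) :
    ∃ (β : Cfsg.IrrCharacter C) (ε : ℤ), (ε = 1 ∨ ε = -1) ∧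
      (∀ c : C, χ ((c : Γ) * s ^ i) = (ε : ℂ) * (β : C → ℂ) c) ∧
      ∀ φ : Cfsg.IrrCharacter C,
        coef C χ s (φ : C → ℂ) i = (open Classical in if φ = β then (ε : ℂ) else 0) := by
  classical
  set f : C → ℂ := fun c => χ ((c : Γ) * s ^ i)
  have hf : Cfsg.IsClassFunction C f :=
    h.isClassFunction_translate (Char.IsIrrCharacter.isClassFunction hχ.irr) i
  have hnorm := h.classInner_eq hχ hχ hi
  rw [if_pos rfl, Char.classInner_eq_sum_irr hf] at hnorm
  have hsq : ∑ φ : Cfsg.IrrCharacter C, ‖coef C χ s (φ : C → ℂ) i‖ ^ 2 = 1 := by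
    have h1 : ∀ φ : Cfsg.IrrCharacter C, Cfsg.classInner f φ * Cfsg.classInner (φ : C → ℂ) f =
        ((‖coef C χ s (φ : C → ℂ) i‖ ^ 2 : ℝ) : ℂ) := fun φ => by
      rw [← Char.classInner_conj_symm f (φ : C → ℂ), Complex.mul_conj, Complex.normSq_eq_norm_sq]
      rfl
    rw [Finset.sum_congr rfl fun φ _ => h1 φ, ← Complex.ofReal_sum] at hnorm
    exact_mod_cast hnorm
  obtain ⟨β, hβ⟩ : ∃ β : Cfsg.IrrCharacter C, coef C χ s (β : C → ℂ) i ≠ 0 := by
    by_contra hc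
    push Not at hc
    simp [hc] at hsq
  have hint := fun φ : Cfsg.IrrCharacter C => h.coef_int hχ (Char.isCharacter_irr φ) i
  have hβ1 : 1 ≤ ‖coef C χ s (β : C → ℂ) i‖ := (hint β).2.resolve_left hβ
  rw [← Finset.add_sum_erase _ _ (Finset.mem_univ β)] at hsq
  have hrest0 : ∀ φ ≠ β, coef C χ s (φ : C → ℂ) i = 0 := by
    intro φ hφ
    by_contra h0
    have h1 : (1 : ℝ) ≤ ‖coef C χ s (φ : C → ℂ) i‖ := (hint φ).2.resolve_left h0
    have h2 : ‖coef C χ s (φ : C → ℂ) i‖ ^ 2 ≤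
        ∑ ψ ∈ Finset.univ.erase β, ‖coef C χ s (ψ : C → ℂ) i‖ ^ 2 :=
      Finset.single_le_sum (f := fun ψ : Cfsg.IrrCharacter C => ‖coef C χ s (ψ : C → ℂ) i‖ ^ 2)
        (fun _ _ => sq_nonneg _) (Finset.mem_erase.mpr ⟨hφ, Finset.mem_univ φ⟩)
    nlinarith
  have hβn : ‖coef C χ s (β : C → ℂ) i‖ = 1 := by
    have h2 : 0 ≤ ∑ ψ ∈ Finset.univ.erase β, ‖coef C χ s (ψ : C → ℂ) i‖ ^ 2 :=
      Finset.sum_nonneg fun _ _ => sq_nonneg _
    nlinarith
  obtain ⟨r, hr⟩ := Complex.conj_eq_iff_real.mp (hint β).1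
  rw [hr, Complex.norm_real, Real.norm_eq_abs] at hβn
  obtain ⟨ε, hε, hεr⟩ : ∃ ε : ℤ, (ε = 1 ∨ ε = -1) ∧ (r : ℂ) = ε := by
    rcases abs_eq (zero_le_one' ℝ) |>.mp hβn with h' | h'
    · exact ⟨1, Or.inl rfl, by simp [h']⟩
    · exact ⟨-1, Or.inr rfl, by simp [h']⟩
  have hcoef : ∀ φ : Cfsg.IrrCharacter C,
      coef C χ s (φ : C → ℂ) i = if φ = β then (ε : ℂ) else 0 := fun φ => by
    split_ifs with e
    · rw [e, hr, hεr]
    · exact hrest0 φ e
  refine ⟨β, ε, hε, fun c => ?_, hcoef⟩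
  have he := congrFun (Char.IsClassFunction.eq_sum_irr hf) c
  rw [Finset.sum_apply, Finset.sum_eq_single β (fun φ _ hφ => by
    rw [show Cfsg.classInner f (φ : C → ℂ) = 0 from hrest0 φ hφ, zero_smul]; rfl)
    (fun h' => absurd (Finset.mem_univ _) h'), show Cfsg.classInner f (β : C → ℂ) = (ε : ℂ) from
      (hcoef β).trans (if_pos rfl)] at he
  exact he

end CfsgLib.CharDeep.Glauberman
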