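import Cfsg.Agent.Lib.CharDeep.Glauberman.Cyclic
import Cfsg.Agent.Lib.CharDeep.Glauberman.Subgroups

/-!
# The correspondence for a cyclic group of operators
-/

set_option autoImplicit false

namespace CfsgLib.CharDeep.Glauberman

open CfsgLib
open scoped ComplexConjugate

variable {Γ : Type*} [Group Γ] [Fintype Γ] {G C S : Subgroup Γ}

/-- A cyclic complement gives the standing hypotheses. -/
theorem exists_cyc (hnorm : ∀ s ∈ S, ∀ g ∈ G, s * g * s⁻¹ ∈ G)
    (hcop : (Nat.card G).Coprime (Nat.card S)) (htop : G ⊔ S = ⊤) (hcyc : IsCyclic S)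
    (hC : C = G ⊓ Subgroup.centralizer (S : Set Γ)) :
    ∃ s : Γ, Subgroup.zpowers s = S ∧ Cyc G C s := by
  obtain ⟨⟨s, hsS⟩, hgen⟩ := IsCyclic.exists_generator (α := S)
  have hz : Subgroup.zpowers s = S := by
    refine le_antisymm (Subgroup.zpowers_le.mpr hsS) fun x hx => ?_
    obtain ⟨k, hk⟩ := Subgroup.mem_zpowers_iff.mp (hgen ⟨x, hx⟩)
    exact Subgroup.mem_zpowers_iff.mpr ⟨k, by simpa using congrArg Subtype.val hk⟩
  refine ⟨s, hz, ?_, ?_, by rw [hz]; exact htop, fun g => ?_⟩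
  · refine Subgroup.normalizer_eq_top_iff.mp (top_le_iff.mp ?_)
    rw [← htop]
    exact sup_le Subgroup.le_normalizer (le_normalizer_of_conj hnorm)
  · rwa [← Nat.card_zpowers, hz]
  · rw [hC, Subgroup.mem_inf, Subgroup.mem_centralizer_iff]
    refine and_congr_right fun _ => ⟨fun h => h s hsS, fun h x hx => ?_⟩
    rw [SetLike.mem_coe, ← hz] at hx
    obtain ⟨k, rfl⟩ := Subgroup.mem_zpowers_iff.mp hx
    exact ((show Commute s g from h).zpow_left k).eq

variable {s : Γ}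

/-- A generator is a power prime to the order. -/
theorem exists_coprime_pow {t : Γ} (ht : Subgroup.zpowers t = Subgroup.zpowers s) :
    ∃ k : ℕ, k.Coprime (orderOf s) ∧ s ^ k = t := by
  obtain ⟨k, hk⟩ : ∃ k : ℕ, s ^ k = t :=
    (isOfFinOrder_of_finite s).mem_powers_iff_mem_zpowers.mpr (ht ▸ Subgroup.mem_zpowers t)
  refine ⟨k, ?_, hk⟩
  have h : orderOf t = orderOf s := by rw [← Nat.card_zpowers, ht, Nat.card_zpowers]
  rw [← hk, orderOf_pow s] at h
  rcases Nat.div_eq_self.mp h with h0 | h1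
  · exact absurd h0 (orderOf_pos s).ne'
  · rw [Nat.coprime_comm]; exact h1

theorem Cyc.cent_of_coprime (h : Cyc G C s) {k : ℕ} (hk : k.Coprime (orderOf s)) :
    ∀ g ∈ G, s ^ k * g = g * s ^ k → g ∈ C := by
  intro g hg hgk
  obtain ⟨j, hj⟩ := exists_pow_eq_self_of_coprime hk
  refine (h.mem_iff g).mpr ⟨hg, ?_⟩
  have := (show Commute (s ^ k) g from hgk).pow_left j
  rw [hj] at this
  exact this.eq

theorem Cyc.inv_conj (h : Cyc G C s) (hz : Subgroup.zpowers s = S) {χ : G → ℂ}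
    (hχc : Cfsg.IsClassFunction G χ)
    (hinv : ∀ x ∈ S, ∀ g g' : G, (g' : Γ) = x * g * x⁻¹ → χ g' = χ g) :
    ∀ (x : Γ) (g : G), χ ⟨x * g * x⁻¹, h.normal.conj_mem g g.2 x⟩ = χ g := by
  intro x g
  obtain ⟨a, ha, i, -, rfl⟩ := h.exists_eq x
  have hmem : s ^ i ∈ S := hz ▸ Subgroup.pow_mem _ (Subgroup.mem_zpowers s) i
  let g₁ : G := ⟨s ^ i * g * (s ^ i)⁻¹, h.normal.conj_mem g g.2 _⟩
  have h1 : χ g₁ = χ g := hinv _ hmem g g₁ rfl
  have h2 := hχc g₁ ⟨a, ha⟩
  rw [← h1, ← h2]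
  congr 1
  exact Subtype.ext (by show a * s ^ i * g * (a * s ^ i)⁻¹ = a * (s ^ i * g * (s ^ i)⁻¹) * a⁻¹; group)

variable [Fintype G] [Fintype C]

theorem Cyc.canon_of (h : Cyc G C s) (hz : Subgroup.zpowers s = S) {χ : Cfsg.IrrCharacter G}
    {χh : Cfsg.IrrCharacter Γ} (hext : ∀ g : G, (χh : Γ → ℂ) g = (χ : G → ℂ) g)
    (hdet : (Cfsg.detOrder (χh : Γ → ℂ)).Coprime (Nat.card S)) :
    Canon G (orderOf s) (χh : Γ → ℂ) where
  irr := χh.2
  irr_res := by rw [show (fun g : G => (χh : Γ → ℂ) g) = (χ : G → ℂ) from funext hext]; exact χ.2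
  det := by rwa [← Nat.card_zpowers, hz]

theorem Cyc.exists_canon (h : Cyc G C s) (hz : Subgroup.zpowers s = S) (χ : Cfsg.IrrCharacter G)
    (hinv : ∀ x ∈ S, ∀ g g' : G, (g' : Γ) = x * g * x⁻¹ → (χ : G → ℂ) g' = (χ : G → ℂ) g) :
    ∃ χh : Cfsg.IrrCharacter Γ, (∀ g : G, (χh : Γ → ℂ) g = (χ : G → ℂ) g) ∧
      (Cfsg.detOrder (χh : Γ → ℂ)).Coprime (Nat.card S) := by
  haveI := h.normal
  obtain ⟨θ, hθ, hres, hdet⟩ := Galois.exists_canonical h.cop_index χ.2
    (h.inv_conj hz (Char.IsIrrCharacter.isClassFunction χ.2) hinv)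
  exact ⟨⟨θ, hθ⟩, hres, by rwa [← hz, Nat.card_zpowers, ← h.index_eq]⟩

/-- The sign and the correspondent, on every generator. -/
theorem Cyc.exists_corr (h : Cyc G C s) {χ : Γ → ℂ} (hχ : Canon G (orderOf s) χ) :
    ∃ (β : Cfsg.IrrCharacter C) (ε : ℤ), (ε = 1 ∨ ε = -1) ∧
      ∀ c : C, ∀ t : Γ, Subgroup.zpowers t = Subgroup.zpowers s →
        χ ((c : Γ) * t) = (ε : ℂ) * (β : C → ℂ) c := by
  classical
  obtain ⟨β, ε, hε, -, hcoef⟩ :=
    h.exists_sign hχ (i := 1) (h.cent_of_coprime (Nat.coprime_one_left _))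
  refine ⟨β, ε, hε, fun c t ht => ?_⟩
  obtain ⟨k, hk, rfl⟩ := exists_coprime_pow ht
  obtain ⟨β', ε', hε', hval', hcoef'⟩ := h.exists_sign hχ (i := k) (h.cent_of_coprime hk)
  have e : (if β = β' then (ε' : ℂ) else 0) = (ε : ℂ) := by
    have h1 := h.coef_galois hχ (Char.isCharacter_irr β) 1 hk
    rw [one_mul, hcoef' β, hcoef β, if_pos rfl] at h1
    exact h1
  have hne : (ε : ℂ) ≠ 0 := by rcases hε with rfl | rfl <;> norm_num
  have hβ : β = β' := by
    by_contra hb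
    rw [if_neg hb] at e
    exact hne e.symm
  rw [if_pos hβ] at e
  rw [hval' c, e, hβ]

omit [Fintype G] in
theorem eq_of_sign {β β' : Cfsg.IrrCharacter C} {ε ε' : ℤ} (hε : ε = 1 ∨ ε = -1)
    (h : ∀ c : C, (ε : ℂ) * (β : C → ℂ) c = (ε' : ℂ) * (β' : C → ℂ) c) : β = β' ∧ ε = ε' := by
  classical
  have h' : (ε : ℂ) • (β : C → ℂ) = (ε' : ℂ) • (β' : C → ℂ) := funext h
  have h1 := congrArg (fun f => Cfsg.classInner f (β : C → ℂ)) h'
  simp only [Char.classInner_smul_left, Char.classInner_irr_self β.2, mul_one] at h1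
  by_cases e : β = β'
  · subst e
    rw [Char.classInner_irr_self β.2, mul_one] at h1
    exact ⟨rfl, Int.cast_injective h1⟩
  · rw [Char.classInner_irr_ne β'.2 β.2 (fun h0 => e (Subtype.ext h0).symm), mul_zero] at h1
    rcases hε with rfl | rfl <;> norm_num at h1

theorem Cyc.coef_eq_of_values (h : Cyc G C s) {χ : Γ → ℂ} {β : Cfsg.IrrCharacter C} {ε : ℤ}
    (hval : ∀ c : C, χ ((c : Γ) * s) = (ε : ℂ) * (β : C → ℂ) c) :
    coef C χ s (β : C → ℂ) 1 = (ε : ℂ) := by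
  rw [coef, show (fun c : C => χ ((c : Γ) * s ^ 1)) = (ε : ℂ) • (β : C → ℂ) from
    funext fun c => by rw [pow_one]; exact hval c, Char.classInner_smul_left,
    Char.classInner_irr_self β.2, mul_one]

/-- The correspondent is a constituent of the restriction. -/
theorem Cyc.constituent (h : Cyc G C s) {χ : Γ → ℂ} (hχ : Cfsg.IsCharacter Γ χ)
    {β : Cfsg.IrrCharacter C} {ε : ℤ} (hε : ε = 1 ∨ ε = -1)
    (hval : ∀ c : C, χ ((c : Γ) * s) = (ε : ℂ) * (β : C → ℂ) c) :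
    Cfsg.classInner (fun c : C => χ (c : Γ)) (β : C → ℂ) ≠ 0 := by
  have hm0 : orderOf s ≠ 0 := (orderOf_pos s).ne'
  obtain ⟨N, hN⟩ := h.exists_expansion hχ (Char.isCharacter_irr β)
    (Complex.isPrimitiveRoot_exp (orderOf s) hm0)
  intro h0
  have e0 : coef C χ s (β : C → ℂ) 0 = 0 := by
    rw [coef]
    simpa using h0
  rw [hN] at e0
  simp only [zero_mul, pow_zero, mul_one, ← Nat.cast_sum, Nat.cast_eq_zero] at e0
  have e1 := hN 1
  rw [h.coef_eq_of_values hval, Finset.sum_eq_zero fun j hj => by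
    rw [Finset.sum_eq_zero_iff.mp e0 j hj, Nat.cast_zero, zero_mul]] at e1
  rcases hε with rfl | rfl <;> norm_num at e1

/-- Canonical extensions with the same correspondent are equal. -/
theorem Cyc.eq_of_corr (h : Cyc G C s) {χ χ' : Γ → ℂ} (hχ : Canon G (orderOf s) χ)
    (hχ' : Canon G (orderOf s) χ') {β : Cfsg.IrrCharacter C} {ε ε' : ℤ} (hε : ε = 1 ∨ ε = -1)
    (hε' : ε' = 1 ∨ ε' = -1) (hval : ∀ c : C, χ ((c : Γ) * s) = (ε : ℂ) * (β : C → ℂ) c)
    (hval' : ∀ c : C, χ' ((c : Γ) * s) = (ε' : ℂ) * (β : C → ℂ) c) : χ = χ' := by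
  classical
  have h1 := h.classInner_eq hχ hχ' (h.cent_of_coprime (Nat.coprime_one_left _))
  simp only [pow_one] at h1
  by_contra hne
  rw [if_neg hne, show (fun c : C => χ ((c : Γ) * s)) = (ε : ℂ) • (β : C → ℂ) from funext hval,
    show (fun c : C => χ' ((c : Γ) * s)) = (ε' : ℂ) • (β : C → ℂ) from funext hval',
    Char.classInner_smul_left, Char.classInner_smul_right, Char.classInner_irr_self β.2] at h1
  rcases hε with rfl | rfl <;> rcases hε' with rfl | rfl <;> norm_num at h1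

theorem Cyc.isConj_of_isConj (h : Cyc G C s) {a b : C} {g : Γ} (hg : g ∈ G)
    (hab : g * a * g⁻¹ = b) : IsConj a b := by
  haveI := h.normal
  set H : Subgroup Γ := G ⊓ Subgroup.centralizer {(a : Γ)}
  have hsH : s ∈ Subgroup.normalizer (H : Set Γ) := by
    refine Subgroup.mem_normalizer_iff.mpr fun x => ?_
    have ha : s * (a : Γ) * s⁻¹ = a := mul_inv_eq_iff_eq_mul.mpr (h.commute a).eq.symm
    simp only [H, Subgroup.mem_inf, Subgroup.mem_centralizer_singleton_iff]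
    refine and_congr ⟨fun hx => h.normal.conj_mem x hx s, fun hx => ?_⟩ ?_
    · have := h.normal.conj_mem _ hx s⁻¹
      simpa [mul_assoc] using this
    · conv_rhs => rw [← ha]
      constructor
      · intro hx
        calc s * x * s⁻¹ * (s * a * s⁻¹) = s * (x * a) * s⁻¹ := by group
          _ = s * (a * x) * s⁻¹ := by rw [hx]
          _ = s * a * s⁻¹ * (s * x * s⁻¹) := by group
      · intro hx
        calc x * a = s⁻¹ * (s * x * s⁻¹ * (s * a * s⁻¹)) * s := by group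
          _ = s⁻¹ * (s * a * s⁻¹ * (s * x * s⁻¹)) * s := by rw [hx]
          _ = a * x := by group
  have hcop : Nat.Coprime (orderOf s) (Nat.card H) :=
    h.cop.symm.of_dvd_right (Subgroup.card_dvd_of_le inf_le_left)
  have hh : g⁻¹ * (s * g * s⁻¹) ∈ H := by
    refine Subgroup.mem_inf.mpr ⟨G.mul_mem (inv_mem hg) (h.normal.conj_mem g hg s), ?_⟩
    rw [Subgroup.mem_centralizer_singleton_iff]
    have h1 : (s * g * s⁻¹) * a * (s * g * s⁻¹)⁻¹ = b := by
      calc (s * g * s⁻¹) * a * (s * g * s⁻¹)⁻¹ = s * g * (s⁻¹ * a * s) * g⁻¹ * s⁻¹ := by group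
        _ = s * (g * a * g⁻¹) * s⁻¹ := by
          rw [show s⁻¹ * (a : Γ) * s = a by rw [mul_assoc, (h.commute a).eq, inv_mul_cancel_left]]
          group
        _ = b := by rw [hab, mul_inv_eq_iff_eq_mul, (h.commute b).eq]
    calc g⁻¹ * (s * g * s⁻¹) * a = g⁻¹ * ((s * g * s⁻¹) * a * (s * g * s⁻¹)⁻¹) * (s * g * s⁻¹) := by
          group
      _ = g⁻¹ * (g * a * g⁻¹) * (s * g * s⁻¹) := by rw [h1, hab]
      _ = a * (g⁻¹ * (s * g * s⁻¹)) := by group
  obtain ⟨x, hx, c, hc, hcs, e⟩ := Char.exists_conj_commuting H s hsH hcop _ hh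
  -- the element `c * s` has the order of `s`, so `c = 1`
  have hord : (c * s) ^ orderOf s = 1 := by
    rw [← e, conj_pow, show g⁻¹ * (s * g * s⁻¹) * s = g⁻¹ * s * g⁻¹⁻¹ by group, conj_pow,
      pow_orderOf_eq_one]
    group
  rw [(show Commute c s from hcs).mul_pow, pow_orderOf_eq_one, mul_one] at hord
  have hc1 : c = 1 := orderOf_eq_one_iff.mp (Nat.eq_one_of_dvd_coprimes hcop
    (orderOf_dvd_of_pow_eq_one hord) (Subgroup.orderOf_dvd_natCard H hc))
  rw [hc1, one_mul] at e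
  have hyC : g * x⁻¹ ∈ C := by
    refine (h.mem_iff _).mpr ⟨G.mul_mem hg (inv_mem (Subgroup.mem_inf.mp hx).1), ?_⟩
    calc s * (g * x⁻¹) = g * x⁻¹ * (x * (g⁻¹ * (s * g * s⁻¹) * s) * x⁻¹) := by group
      _ = g * x⁻¹ * s := by rw [e]
  refine isConj_iff.mpr ⟨⟨g * x⁻¹, hyC⟩, Subtype.ext ?_⟩
  have hxa : x⁻¹ * (a : Γ) * x = a := by
    have h2 := Subgroup.mem_centralizer_singleton_iff.mp (Subgroup.mem_inf.mp hx).2
    rw [mul_assoc, ← h2, inv_mul_cancel_left]
  show g * x⁻¹ * (a : Γ) * (g * x⁻¹)⁻¹ = b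
  rw [← hab]
  calc g * x⁻¹ * (a : Γ) * (g * x⁻¹)⁻¹ = g * (x⁻¹ * a * x) * g⁻¹ := by group
    _ = g * a * g⁻¹ := by rw [hxa]

/-- As many invariant characters of `G` as characters of `C`. -/
theorem Cyc.card_inv (h : Cyc G C s) (hz : Subgroup.zpowers s = S)
    (hnorm : ∀ x ∈ S, ∀ g ∈ G, x * g * x⁻¹ ∈ G) :
    Nat.card {χ : Cfsg.IrrCharacter G // Inv (subAct hnorm) (χ : G → ℂ)} =
      Nat.card (Cfsg.IrrCharacter C) := by
  classical
  haveI := h.normal
  haveI : Group.IsSolvable S := isSolvable_of_comm fun a b => by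
    obtain ⟨i, hi⟩ := Subgroup.mem_zpowers_iff.mp (show (a : Γ) ∈ Subgroup.zpowers s by rw [hz]; exact a.2)
    obtain ⟨j, hj⟩ := Subgroup.mem_zpowers_iff.mp (show (b : Γ) ∈ Subgroup.zpowers s by rw [hz]; exact b.2)
    exact Subtype.ext (by simp only [Subgroup.coe_mul, ← hi, ← hj, ← zpow_add, add_comm])
  have hcop : (Nat.card G).Coprime (Nat.card S) := by rw [← hz, Nat.card_zpowers]; exact h.cop
  rw [Glauberman.card_inv (subAct hnorm) hcop, Char.card_irrCharacter]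
  let j : C →* G := Subgroup.inclusion h.le
  have hmap : ∀ K : ConjClasses C, InvClass (subAct hnorm) (ConjClasses.map j K) := by
    intro K
    induction K using Quotient.inductionOn with
    | h c =>
      show InvClass (subAct hnorm) (ConjClasses.mk (j c))
      rw [invClass_mk]
      intro x
      have hx : subAct hnorm x (j c) = j c := by
        apply Subtype.ext
        rw [subAct_apply]
        obtain ⟨i, hi⟩ := Subgroup.mem_zpowers_iff.mp (show (x : Γ) ∈ Subgroup.zpowers s by rw [hz]; exact x.2)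
        show (x : Γ) * c * (x : Γ)⁻¹ = c
        rw [← hi, ((h.commute c).zpow_right i).symm.eq, mul_inv_cancel_right]
      rw [hx]
  refine (Nat.card_congr (Equiv.ofBijective
    (fun K => (⟨_, hmap K⟩ : {K : ConjClasses G // InvClass (subAct hnorm) K})) ⟨?_, ?_⟩)).symm
  · intro a b hab
    induction a using Quotient.inductionOn with
    | h a =>
      induction b using Quotient.inductionOn with
      | h b =>
        have h' : ConjClasses.mk (j a) = ConjClasses.mk (j b) := congrArg Subtype.val hab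
        obtain ⟨g, hg⟩ := isConj_iff.mp (ConjClasses.mk_eq_mk_iff_isConj.mp h')
        exact ConjClasses.mk_eq_mk_iff_isConj.mpr
          (h.isConj_of_isConj g.2 (congrArg Subtype.val hg))
  · rintro ⟨K, hK⟩
    induction K using Quotient.inductionOn with
    | h g =>
      have hK' : InvClass (subAct hnorm) (ConjClasses.mk g) := hK
      have hsS : s ∈ S := hz ▸ Subgroup.mem_zpowers s
      obtain ⟨m, hm⟩ := isConj_iff.mp (invClass_mk.mp hK' ⟨s, hsS⟩).symm
      have hm' : s * (g : Γ) * s⁻¹ = (m : Γ) * g * (m : Γ)⁻¹ :=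
        (subAct_apply hnorm ⟨s, hsS⟩ g).symm.trans (congrArg Subtype.val hm.symm)
      obtain ⟨z, hz', hzc⟩ := Char.exists_centralized_of_fixed_class G s h.cop.symm g m g.2 m.2 hm'
      have hzC : z * (g : Γ) * z⁻¹ ∈ C :=
        (h.mem_iff _).mpr ⟨h.normal.conj_mem g g.2 z, hzc.symm⟩
      refine ⟨ConjClasses.mk ⟨_, hzC⟩, Subtype.ext (ConjClasses.mk_eq_mk_iff_isConj.mpr ?_)⟩
      refine (isConj_iff.mpr ⟨⟨z, hz'⟩, ?_⟩).symm
      exact Subtype.ext rfl

/-- Every character of `C` is a correspondent. -/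
theorem Cyc.surjective (h : Cyc G C s) (hz : Subgroup.zpowers s = S)
    (hnorm : ∀ x ∈ S, ∀ g ∈ G, x * g * x⁻¹ ∈ G) (β : Cfsg.IrrCharacter C) :
    ∃ (χ : Cfsg.IrrCharacter G) (χh : Cfsg.IrrCharacter Γ) (ε : ℤ),
      (∀ x ∈ S, ∀ g g' : G, (g' : Γ) = x * g * x⁻¹ → (χ : G → ℂ) g' = (χ : G → ℂ) g) ∧
      (∀ g : G, (χh : Γ → ℂ) g = (χ : G → ℂ) g) ∧
      (Cfsg.detOrder (χh : Γ → ℂ)).Coprime (Nat.card S) ∧ (ε = 1 ∨ ε = -1) ∧
      ∀ c : C, ∀ t : Γ, Subgroup.zpowers t = S →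
        (χh : Γ → ℂ) ((c : Γ) * t) = (ε : ℂ) * (β : C → ℂ) c := by
  classical
  let X := {χ : Cfsg.IrrCharacter G // Inv (subAct hnorm) (χ : G → ℂ)}
  have hex : ∀ χ : X, ∃ χh : Cfsg.IrrCharacter Γ, (∀ g : G, (χh : Γ → ℂ) g = (χ.1 : G → ℂ) g) ∧
      (Cfsg.detOrder (χh : Γ → ℂ)).Coprime (Nat.card S) := fun χ =>
    h.exists_canon hz χ.1 ((inv_iff hnorm _).mp χ.2)
  choose e he1 he2 using hex
  choose b η hη hval using fun χ : X => h.exists_corr (h.canon_of hz (he1 χ) (he2 χ))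
  have hinj : Function.Injective b := by
    intro χ χ' hb
    have h1 : ((e χ : Cfsg.IrrCharacter Γ) : Γ → ℂ) = ((e χ' : Cfsg.IrrCharacter Γ) : Γ → ℂ) :=
      h.eq_of_corr (h.canon_of hz (he1 χ) (he2 χ)) (h.canon_of hz (he1 χ') (he2 χ')) (hη χ) (hη χ')
        (fun c => hval χ c s rfl) (fun c => hb ▸ hval χ' c s rfl)
    refine Subtype.ext (Subtype.ext (funext fun g => ?_))
    rw [← he1 χ g, ← he1 χ' g, h1]
  have hcard : Nat.card X = Nat.card (Cfsg.IrrCharacter C) := h.card_inv hz hnorm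
  obtain ⟨χ, hχ⟩ := (hinj.bijective_of_nat_card_le hcard.ge).2 β
  exact ⟨χ.1, e χ, η χ, (inv_iff hnorm _).mp χ.2, he1 χ, he2 χ, hη χ,
    fun c t ht => hχ ▸ hval χ c t (ht.trans hz.symm)⟩

end CfsgLib.CharDeep.Glauberman
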