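import Cfsg.Agent.Lib.CharDeep.Glauberman.CyclicCorr
import Mathlib.Algebra.CharP.Lemmas
import Mathlib.FieldTheory.Finite.Basic

/-!
# Canonical extensions when every operator has the same centralizer

The correspondent is then the same on every nontrivial power of the generator, and the sign is a
linear character of order at most two times a constant.
-/

set_option autoImplicit false

namespace CfsgLib.CharDeep.Glauberman

open CfsgLib
open scoped ComplexConjugate

theorem Cong.pow_sum {p : ℕ} (hp : p.Prime) {ι : Type*} (t : Finset ι) (f : ι → ℂ)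
    (hf : ∀ i ∈ t, IsIntegral ℤ (f i)) : Cong p ((∑ i ∈ t, f i) ^ p) (∑ i ∈ t, f i ^ p) := by
  classical
  induction t using Finset.induction with
  | empty =>
    rw [Finset.sum_empty, Finset.sum_empty, zero_pow hp.ne_zero]
    exact Cong.refl _
  | @insert a t ha ih =>
    rw [Finset.sum_insert ha, Finset.sum_insert ha]
    have hy : IsIntegral ℤ (∑ i ∈ t, f i) :=
      IsIntegral.sum _ fun i hi => hf i (Finset.mem_insert_of_mem hi)
    have hx : IsIntegral ℤ (f a) := hf a (Finset.mem_insert_self a t)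
    refine Cong.trans (y := f a ^ p + (∑ i ∈ t, f i) ^ p) ?_
      ((Cong.refl _).add (ih fun i hi => hf i (Finset.mem_insert_of_mem hi)))
    rw [add_pow_prime_eq' hp]
    refine Cong.of_eq_mul ?_ (add_sub_cancel_left _ _)
    exact IsIntegral.sum _ fun k _ =>
      ((hx.pow k).mul (hy.pow (p - k))).mul (isIntegral_natCast _)

theorem natCast_pow_cong {p : ℕ} (hp : p.Prime) (a : ℕ) : Cong p ((a : ℂ) ^ p) (a : ℂ) := by
  haveI : Fact p.Prime := ⟨hp⟩
  rw [← Nat.cast_pow, Cong.nat_iff hp.ne_zero, ← ZMod.natCast_eq_natCast_iff, Nat.cast_pow,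
    ZMod.pow_card]

theorem sum_range_four (f : ℕ → ℂ) : ∀ r : ℕ, ∑ t ∈ Finset.range (4 * r), f t =
    ∑ u ∈ Finset.range r, (f (4 * u) + f (4 * u + 1) + f (4 * u + 2) + f (4 * u + 3))
  | 0 => by simp
  | r + 1 => by
    rw [show 4 * (r + 1) = 4 * r + 1 + 1 + 1 + 1 by ring, Finset.sum_range_succ,
      Finset.sum_range_succ, Finset.sum_range_succ, Finset.sum_range_succ, Finset.sum_range_succ,
      sum_range_four f r]
    ring

theorem sum_range_two (f : ℕ → ℂ) : ∀ r : ℕ, ∑ t ∈ Finset.range (2 * r), f t =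
    ∑ u ∈ Finset.range r, (f (2 * u) + f (2 * u + 1))
  | 0 => by simp
  | r + 1 => by
    rw [show 2 * (r + 1) = 2 * r + 1 + 1 by ring, Finset.sum_range_succ, Finset.sum_range_succ,
      Finset.sum_range_succ, sum_range_two f r]
    ring

theorem geom_primitive {r : ℕ} (hr : 1 < r) {z : ℂ} (hz : IsPrimitiveRoot z r) :
    ∑ u ∈ Finset.range r, z ^ u = 0 := hz.geom_sum_eq_zero hr

theorem int_eq_of_cong {p : ℕ} (hp : p.Prime) (hp2 : p ≠ 2) {a b : ℤ} (ha : a = 1 ∨ a = -1)
    (hb : b = 1 ∨ b = -1) (h : Cong p (a : ℂ) (b : ℂ)) : a = b := by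
  rw [Cong.int_iff hp.ne_zero] at h
  have hdvd := Int.modEq_iff_dvd.mp h
  have h2 : ¬ (p : ℤ) ∣ 2 := fun h' => hp2 ((Nat.prime_dvd_prime_iff_eq hp Nat.prime_two).mp
    (Int.natCast_dvd_natCast.mp (by simpa using h')))
  rcases ha with rfl | rfl <;> rcases hb with rfl | rfl
  · rfl
  · exact absurd (by simpa using dvd_neg.mpr hdvd) h2
  · exact absurd (by simpa using hdvd) h2
  · rfl

variable {Γ : Type*} [Group Γ] [Fintype Γ] {G C : Subgroup Γ} [Fintype C] {s : Γ}

omit [Fintype Γ] in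
theorem coef_mod (χ : Γ → ℂ) (φ : C → ℂ) {i j : ℕ} (h : i ≡ j [MOD orderOf s]) :
    coef C χ s φ i = coef C χ s φ j := by
  simp only [coef, pow_eq_pow_iff_modEq.mpr h]

theorem Cyc.coef_pow_cong (h : Cyc G C s) {χ : Γ → ℂ} (hχ : Cfsg.IsCharacter Γ χ) {φ : C → ℂ}
    (hφ : Cfsg.IsCharacter C φ) {p : ℕ} (hp : p.Prime) (i : ℕ) :
    Cong p (coef C χ s φ i ^ p) (coef C χ s φ (i * p)) := by
  have hm0 : orderOf s ≠ 0 := (orderOf_pos s).ne'
  have hζ := Complex.isPrimitiveRoot_exp (orderOf s) hm0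
  obtain ⟨N, hN⟩ := h.exists_expansion hχ hφ hζ
  rw [hN, hN]
  have hint : ∀ j : ℕ, IsIntegral ℤ
      (Complex.exp (2 * Real.pi * Complex.I / (orderOf s : ℂ)) ^ j) :=
    fun j => (hζ.isIntegral (orderOf_pos s)).pow j
  refine (Cong.pow_sum hp _ _ fun j _ => (isIntegral_natCast _).mul (hint _)).trans
    (Cong.sum _ fun j _ => ?_)
  rw [mul_pow, ← pow_mul, show i * j * p = i * p * j by ring]
  exact (natCast_pow_cong hp _).mul_right (hint _)

/-- A twisted sum of coefficients over a subgroup is a multiple of its order. -/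
theorem Cyc.exists_twisted (h : Cyc G C s) {χ : Γ → ℂ} (hχ : Cfsg.IsCharacter Γ χ) {φ : C → ℂ}
    (hφ : Cfsg.IsCharacter C φ) {d k : ℕ} (hdk : d * k = orderOf s) {w : ℂ} (hw : w ^ k = 1) :
    ∃ n : ℕ, ∑ t ∈ Finset.range k, coef C χ s φ (d * t) * w ^ t = (k : ℂ) * n := by
  classical
  have hm0 : orderOf s ≠ 0 := (orderOf_pos s).ne'
  have hζ := Complex.isPrimitiveRoot_exp (orderOf s) hm0
  set ζ := Complex.exp (2 * Real.pi * Complex.I / (orderOf s : ℂ))
  obtain ⟨N, hN⟩ := h.exists_expansion hχ hφ hζ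
  refine ⟨∑ j ∈ (Finset.range (orderOf s)).filter (fun j => ζ ^ (d * j) * w = 1), N j, ?_⟩
  simp only [hN, Finset.sum_mul]
  rw [Finset.sum_comm, Nat.cast_sum, Finset.mul_sum, Finset.sum_filter]
  refine Finset.sum_congr rfl fun j _ => ?_
  rw [Finset.sum_congr rfl (fun t _ => show (N j : ℂ) * ζ ^ (d * t * j) * w ^ t =
    (N j : ℂ) * (ζ ^ (d * j) * w) ^ t by rw [mul_pow, ← pow_mul]; ring_nf), ← Finset.mul_sum]
  split_ifs with e
  · rw [Finset.sum_congr rfl (fun t _ => by rw [e, one_pow]), Finset.sum_const, Finset.card_range,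
      nsmul_eq_mul, mul_one, mul_comm]
  · rw [geom_sum_eq e, mul_pow, ← pow_mul, show d * j * k = orderOf s * j by rw [← hdk]; ring,
      pow_mul, hζ.pow_eq_one, one_pow, hw, mul_one, sub_self, zero_div, mul_zero]

variable [Fintype G]

/-- The common correspondent and the signs. -/
theorem Cyc.sign_data (h : Cyc G C s) {χ : Γ → ℂ} (hχ : Canon G (orderOf s) χ)
    (hcent : ∀ i : ℕ, ¬ orderOf s ∣ i → ∀ g ∈ G, s ^ i * g = g * s ^ i → g ∈ C)
    {β : Cfsg.IrrCharacter C} {ε₀ : ℤ} (hε₀ : ε₀ = 1 ∨ ε₀ = -1)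
    (hβ : ∀ c : C, χ ((c : Γ) * s) = (ε₀ : ℂ) * (β : C → ℂ) c) :
    ∃ ε : ℤ, (ε = 1 ∨ ε = -1) ∧ (∃ μ : Γ →* ℂˣ, (∀ i : ℕ, μ (s ^ i) * μ (s ^ i) = 1) ∧
        ∀ (c : C) (i : ℕ), ¬ orderOf s ∣ i →
          χ ((c : Γ) * s ^ i) = (ε : ℂ) * (β : C → ℂ) c * (μ (s ^ i) : ℂ)) ∧
      ∃ n : Cfsg.IrrCharacter C → ℕ, ∀ φ : Cfsg.IrrCharacter C,
        coef C χ s (φ : C → ℂ) 0 = (orderOf s : ℂ) * n φ +
          (open Classical in if φ = β then (ε : ℂ) else 0) := by
  classical
  set m := orderOf s with hm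
  have hm0 : m ≠ 0 := (orderOf_pos s).ne'
  have hζ := Complex.isPrimitiveRoot_exp m hm0
  set ζ := Complex.exp (2 * Real.pi * Complex.I / (m : ℂ))
  have hχc := Char.IsIrrCharacter.isCharacter hχ.irr
  have hβc := Char.isCharacter_irr β
  have hall : ∀ i : ℕ, ∃ (b : Cfsg.IrrCharacter C) (e : ℤ), (e = 1 ∨ e = -1) ∧
      (¬ m ∣ i → (∀ c : C, χ ((c : Γ) * s ^ i) = (e : ℂ) * (b : C → ℂ) c) ∧
        ∀ φ : Cfsg.IrrCharacter C, coef C χ s (φ : C → ℂ) i = if φ = b then (e : ℂ) else 0) := by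
    intro i
    by_cases hi : m ∣ i
    · exact ⟨β, 1, Or.inl rfl, fun h' => absurd hi h'⟩
    · obtain ⟨b, e, he, h1, h2⟩ := h.exists_sign hχ (hcent i hi)
      exact ⟨b, e, he, fun _ => ⟨h1, h2⟩⟩
  choose b e he hbe using hall
  have hne : ∀ i, (e i : ℂ) ≠ 0 := fun i => by rcases he i with h' | h' <;> rw [h'] <;> norm_num
  have hc : ∀ i, ¬ m ∣ i → ∀ φ : Cfsg.IrrCharacter C,
      coef C χ s (φ : C → ℂ) i = if φ = b i then (e i : ℂ) else 0 := fun i hi => (hbe i hi).2
  -- invariance under primes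
  have hbp : ∀ i p : ℕ, p.Prime → ¬ m ∣ i * p → b (i * p) = b i ∧
      (p ≠ 2 → e (i * p) = e i) := by
    intro i p hp hip
    have hi : ¬ m ∣ i := fun h' => hip (h'.mul_right p)
    have h1 := h.coef_pow_cong hχc (Char.isCharacter_irr (b i)) hp i
    rw [hc i hi, if_pos rfl, hc _ hip] at h1
    have hb : b i = b (i * p) := by
      by_contra hb
      rw [if_neg hb, ← Int.cast_pow, ← Int.cast_zero, Cong.int_iff hp.ne_zero,
        Int.modEq_zero_iff_dvd] at h1
      rcases he i with h' | h' <;> rw [h'] at h1 <;>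
        exact hp.not_dvd_one (Int.natCast_dvd_natCast.mp (by simpa using Int.dvd_natAbs.mpr h1))
    refine ⟨hb.symm, fun hp2 => ?_⟩
    rw [if_pos hb, ← Int.cast_pow] at h1
    have hpow : e i ^ p = e i := by
      rcases he i with h' | h' <;> rw [h']
      · exact one_pow p
      · exact (hp.odd_of_ne_two hp2).neg_one_pow
    rw [hpow] at h1
    exact (int_eq_of_cong hp hp2 (he i) (he _) h1).symm
  have hgal : ∀ i k : ℕ, k.Coprime m → ¬ m ∣ i → ¬ m ∣ i * k → e (i * k) = e i := by
    intro i k hk hi hik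
    have h1 := h.coef_galois hχ (Char.isCharacter_irr (b i)) i hk
    rw [hc i hi, if_pos rfl, hc _ hik] at h1
    by_cases hb : b i = b (i * k)
    · rw [if_pos hb] at h1; exact Int.cast_injective h1
    · rw [if_neg hb] at h1; exact absurd h1.symm (hne i)
  have hmod : ∀ i j : ℕ, i ≡ j [MOD m] → ¬ m ∣ i → e i = e j ∧ b i = b j := by
    intro i j hij hi
    have hj : ¬ m ∣ j := fun h' => hi ((hij.dvd_iff dvd_rfl).mpr h')
    have h1 := coef_mod χ (b i : C → ℂ) hij
    rw [hc i hi, if_pos rfl, hc j hj] at h1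
    by_cases hb : b i = b j
    · rw [if_pos hb] at h1; exact ⟨Int.cast_injective h1, hb⟩
    · rw [if_neg hb] at h1; exact absurd h1 (hne i)
  have hb : ∀ i, ¬ m ∣ i → b i = β := by
    intro i
    induction i using Nat.strong_induction_on with
    | _ i ih =>
      intro hi
      rcases eq_or_ne i 1 with rfl | hi1
      · exact (eq_of_sign (he 1) fun c => ((hbe 1 hi).1 c).symm.trans
          (by rw [pow_one]; exact hβ c)).1
      · obtain ⟨p, hp, hpd⟩ := Nat.exists_prime_and_dvd hi1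
        obtain ⟨j, rfl⟩ := hpd
        have hj0 : j ≠ 0 := by rintro rfl; exact hi (by rw [mul_zero]; exact dvd_zero m)
        rw [mul_comm] at hi ⊢
        rw [(hbp j p hp hi).1]
        exact ih j (by nlinarith [hp.two_le, Nat.pos_of_ne_zero hj0])
          (fun h' => hi (h'.mul_right p))
  -- the sign only depends on the two-part of the exponent
  have hodd : ∀ u v : ℕ, Odd u → ¬ m ∣ 2 ^ v * u → e (2 ^ v * u) = e (2 ^ v) := by
    intro u v
    induction u using Nat.strong_induction_on with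
    | _ u ih =>
      intro hu hi
      rcases eq_or_ne u 1 with rfl | hu1
      · rw [mul_one]
      · obtain ⟨p, hp, hpd⟩ := Nat.exists_prime_and_dvd hu1
        obtain ⟨j, rfl⟩ := hpd
        obtain ⟨hpo, hjo⟩ := Nat.odd_mul.mp hu
        rw [show 2 ^ v * (p * j) = 2 ^ v * j * p by ring] at hi ⊢
        rw [(hbp _ p hp hi).2 (fun h' => by rw [h'] at hpo; exact absurd hpo (by decide))]
        exact ih j (by nlinarith [hp.two_le, hjo.pos]) hjo (fun h' => hi (h'.mul_right p))
  have htwo : ∀ i, i ≠ 0 → ¬ m ∣ i → e i = e (2 ^ (padicValNat 2 i)) := by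
    intro i hi0 hi
    obtain ⟨v, u, hu, rfl⟩ := Nat.exists_eq_two_pow_mul_odd hi0
    have hv : padicValNat 2 (2 ^ v * u) = v := by
      rw [padicValNat.mul (by positivity) hu.pos.ne', padicValNat.prime_pow,
        padicValNat.eq_zero_of_not_dvd (fun h' => Nat.not_even_iff_odd.mpr hu
          (even_iff_two_dvd.mpr h')), add_zero]
    rw [hv]
    exact hodd u v hu hi
  have hcoefβ : ∀ i, ¬ m ∣ i → coef C χ s (β : C → ℂ) i = (e i : ℂ) := fun i hi => by
    rw [hc i hi, if_pos (hb i hi).symm]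
  have ha0 := mult_spec C.subtype ⟨χ, hχ.irr⟩ β
  set a0 := mult C.subtype ⟨χ, hχ.irr⟩ β
  have hcoef0 : coef C χ s (β : C → ℂ) 0 = (a0 : ℂ) := by
    rw [← ha0, coef]; simp [Function.comp_def]
  -- all even powers have the same sign
  have hchain : ∀ n v : ℕ, m ≤ n + v → 1 ≤ v → ∀ w, v ≤ w → ¬ m ∣ 2 ^ w → e (2 ^ w) = e (2 ^ v) := by
    intro n
    induction n with
    | zero =>
      intro v hmv _ w hvw hw
      induction w, hvw using Nat.le_induction with
      | base => rfl
      | succ w hvw ihw =>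
        have hw' : ¬ m ∣ 2 ^ w := fun h' => hw (h'.trans (pow_dvd_pow 2 (Nat.le_succ w)))
        obtain ⟨f, q, hq, hmq⟩ := Nat.exists_eq_two_pow_mul_odd hm0
        have hfw : f ≤ w := by
          have h1 : f < 2 ^ f := Nat.lt_two_pow_self
          have h2 : 2 ^ f ≤ m := by rw [hmq]; exact Nat.le_mul_of_pos_right _ hq.pos
          omega
        have hk : (2 + q).Coprime m := by
          rw [hmq]
          refine Nat.Coprime.mul_right (Nat.Coprime.pow_right f ?_) ?_
          · exact Nat.coprime_two_right.mpr (by obtain ⟨x, rfl⟩ := hq; exact ⟨x + 1, by ring⟩)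
          · rw [Nat.coprime_add_self_left]; exact Nat.coprime_two_left.mpr hq
        have hcong : 2 ^ w * (2 + q) ≡ 2 ^ (w + 1) [MOD m] := by
          rw [mul_add, ← pow_succ]
          conv_rhs => rw [← add_zero (2 ^ (w + 1))]
          exact Nat.ModEq.add_left _ (Nat.modEq_zero_iff_dvd.mpr
            (hmq ▸ mul_dvd_mul (pow_dvd_pow 2 hfw) dvd_rfl))
        have hnk : ¬ m ∣ 2 ^ w * (2 + q) := fun h' => hw ((hcong.dvd_iff dvd_rfl).mp h')
        rw [← (hmod _ _ hcong hnk).1, hgal _ _ hk hw' hnk]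
        exact ihw hw'
    | succ n ihn =>
      intro v hmv hv w hvw hw
      rcases eq_or_lt_of_le hvw with rfl | hlt
      · rfl
      have hup := ihn (v + 1) (by omega) (by omega)
      rw [hup w hlt hw]
      have hv1 : ¬ m ∣ 2 ^ (v + 1) := fun h' => hw (h'.trans (pow_dvd_pow 2 hlt))
      have hv0 : ¬ m ∣ 2 ^ v := fun h' => hv1 (h'.trans (pow_dvd_pow 2 (Nat.le_succ v)))
      by_cases hdv : 2 ^ (v + 1) ∣ m
      · obtain ⟨r, hr⟩ := hdv
        have hr1 : 1 < r := by
          rcases r with _ | _ | r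
          · simp [hr] at hm0
          · exact absurd (by rw [hr]; simp) hv1
          · omega
        obtain ⟨v', rfl⟩ : ∃ v', v = v' + 1 := ⟨v - 1, by omega⟩
        set d := 2 ^ v' with hd
        have hdk : d * (4 * r) = m := by rw [hr, pow_succ, pow_succ, ← hd]; ring
        have hd0 : 0 < d := Nat.two_pow_pos v'
        -- the values at the multiples of `d`
        have hlt' : ∀ t, 0 < t → t < 4 * r → ¬ m ∣ d * t := fun t h1 h2 h' => by
          have := Nat.le_of_dvd (Nat.mul_pos hd0 h1) h'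
          rw [← hdk] at this
          exact absurd (Nat.le_of_mul_le_mul_left this hd0) (not_le.mpr h2)
        have hvodd : ∀ u, u < r → ∀ c, (c = 1 ∨ c = 3) →
            coef C χ s (β : C → ℂ) (d * (4 * u + c)) = (e d : ℂ) := by
          intro u hu c hc'
          have hn : ¬ m ∣ d * (4 * u + c) := hlt' _ (by omega) (by omega)
          rw [hcoefβ _ hn, hd, hodd _ v' (Nat.odd_iff.mpr (by omega)) hn]
        have hv2 : ∀ u, u < r →
            coef C χ s (β : C → ℂ) (d * (4 * u + 2)) = (e (2 ^ (v' + 1)) : ℂ) := by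
          intro u hu
          have hn : ¬ m ∣ d * (4 * u + 2) := hlt' _ (by omega) (by omega)
          have he' : d * (4 * u + 2) = 2 ^ (v' + 1) * (2 * u + 1) := by rw [pow_succ, ← hd]; ring
          rw [hcoefβ _ hn, he', hodd _ _ ⟨u, rfl⟩ (he' ▸ hn)]
        have hv4 : ∀ u, 0 < u → u < r →
            coef C χ s (β : C → ℂ) (d * (4 * u)) = (e (2 ^ (v' + 1 + 1)) : ℂ) := by
          intro u hu0 hu
          have hn : ¬ m ∣ d * (4 * u) := hlt' _ (by omega) (by omega)
          obtain ⟨a, b', hb', rfl⟩ := Nat.exists_eq_two_pow_mul_odd hu0.ne'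
          have he' : d * (4 * (2 ^ a * b')) = 2 ^ (v' + 1 + 1 + a) * b' := by
            rw [pow_add, pow_succ, pow_succ, ← hd]; ring
          rw [hcoefβ _ hn, he', hodd _ _ hb' (he' ▸ hn),
            hup _ (by omega) (fun h' => hn (he' ▸ h'.mul_right b'))]
        have hsum : ∀ z : ℂ, z ^ (4 * r) = 1 → ∑ t ∈ Finset.range (4 * r),
            coef C χ s (β : C → ℂ) (d * t) * z ^ t =
            (a0 : ℂ) - (e (2 ^ (v' + 1 + 1)) : ℂ) + ((e (2 ^ (v' + 1 + 1)) : ℂ) +
              (e d : ℂ) * (z + z ^ 3) + (e (2 ^ (v' + 1)) : ℂ) * z ^ 2) *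
                ∑ u ∈ Finset.range r, (z ^ 4) ^ u := by
          intro z _
          obtain ⟨r', rfl⟩ : ∃ r', r = r' + 1 := ⟨r - 1, by omega⟩
          rw [sum_range_four, Finset.mul_sum, Finset.sum_range_succ', Finset.sum_range_succ' _ r',
            Finset.sum_congr rfl (fun u hu => by
              rw [hv4 (u + 1) (Nat.succ_pos u) (by have := Finset.mem_range.mp hu; omega),
                hvodd (u + 1) (by have := Finset.mem_range.mp hu; omega) 1 (Or.inl rfl),
                hv2 (u + 1) (by have := Finset.mem_range.mp hu; omega),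
                hvodd (u + 1) (by have := Finset.mem_range.mp hu; omega) 3 (Or.inr rfl)])]
          rw [hvodd 0 (by omega) 1 (Or.inl rfl), hv2 0 (by omega), hvodd 0 (by omega) 3 (Or.inr rfl)]
          simp only [mul_zero, zero_add, hcoef0, pow_zero, ← pow_mul, pow_succ, pow_add]
          rw [← add_assoc]
          ring_nf
        have hw2 : IsPrimitiveRoot (ζ ^ d) (4 * r) :=
          hζ.pow (Nat.pos_of_ne_zero hm0) hdk.symm
        have h4 : IsPrimitiveRoot ((ζ ^ d) ^ 4) r := hw2.pow (by omega) (mul_comm 4 r ▸ mul_comm r 4)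
        have hI : IsPrimitiveRoot ((ζ ^ d) ^ r) 4 := hw2.pow (by omega) (mul_comm 4 r)
        set I := (ζ ^ d) ^ r
        have hI2 : I ^ 2 = -1 := (hI.pow (by norm_num) (by norm_num : 4 = 2 * 2)).eq_neg_one_of_two_right
        obtain ⟨n1, hn1⟩ := h.exists_twisted hχc hβc hdk hw2.pow_eq_one
        obtain ⟨n2, hn2⟩ := h.exists_twisted hχc hβc hdk (w := I)
          (by rw [pow_mul, hI.pow_eq_one, one_pow])
        rw [hsum _ hw2.pow_eq_one, geom_primitive hr1 h4, mul_zero, add_zero] at hn1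
        rw [hsum _ (by rw [pow_mul, hI.pow_eq_one, one_pow]), hI.pow_eq_one,
          Finset.sum_congr rfl (fun u _ => one_pow u), Finset.sum_const, Finset.card_range,
          nsmul_eq_mul, mul_one, show I ^ 3 = I ^ 2 * I by ring, hI2] at hn2
        have hfin : ((r : ℤ) : ℂ) * ((e (2 ^ (v' + 1 + 1)) : ℂ) - (e (2 ^ (v' + 1)) : ℂ)) =
            ((r : ℤ) : ℂ) * (4 * ((n2 : ℂ) - (n1 : ℂ))) := by
          push_cast at hn1 hn2 ⊢
          linear_combination hn2 - hn1
        have hfin' : (r : ℤ) * (e (2 ^ (v' + 1 + 1)) - e (2 ^ (v' + 1))) =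
            (r : ℤ) * (4 * ((n2 : ℤ) - (n1 : ℤ))) := by exact_mod_cast hfin
        have := mul_left_cancel₀ (by omega : (r : ℤ) ≠ 0) hfin'
        rcases he (2 ^ (v' + 1 + 1)) with h1 | h1 <;> rcases he (2 ^ (v' + 1)) with h2 | h2 <;>
          rw [h1, h2] at this ⊢ <;> omega
      · -- the two-part of the order is at most `2 ^ v`
        obtain ⟨f, q, hq, hmq⟩ := Nat.exists_eq_two_pow_mul_odd hm0
        have hfv : f ≤ v := by
          by_contra hfv
          exact hdv (hmq ▸ (pow_dvd_pow 2 (by omega : v + 1 ≤ f)).mul_right q)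
        have hk : (2 + q).Coprime m := by
          rw [hmq]
          refine Nat.Coprime.mul_right (Nat.Coprime.pow_right f ?_) ?_
          · exact Nat.coprime_two_right.mpr (by obtain ⟨x, rfl⟩ := hq; exact ⟨x + 1, by ring⟩)
          · rw [Nat.coprime_add_self_left]; exact Nat.coprime_two_left.mpr hq
        have hcong : 2 ^ v * (2 + q) ≡ 2 ^ (v + 1) [MOD m] := by
          rw [mul_add, ← pow_succ]
          conv_rhs => rw [← add_zero (2 ^ (v + 1))]
          exact Nat.ModEq.add_left _ (Nat.modEq_zero_iff_dvd.mpr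
            (hmq ▸ mul_dvd_mul (pow_dvd_pow 2 hfv) dvd_rfl))
        have hnk : ¬ m ∣ 2 ^ v * (2 + q) := fun h' => hv1 ((hcong.dvd_iff dvd_rfl).mp h')
        rw [← (hmod _ _ hcong hnk).1, hgal _ _ hk hv0 hnk]
  have heven : ∀ i, Even i → ¬ m ∣ i → e i = e 2 := by
    intro i hev hi
    have hi0 : i ≠ 0 := fun h' => hi (h' ▸ dvd_zero m)
    obtain ⟨v, u, hu, rfl⟩ := Nat.exists_eq_two_pow_mul_odd hi0
    have hv : 1 ≤ v := by
      rcases v with _ | v
      · rw [pow_zero, one_mul] at hev; exact absurd hev (Nat.not_even_iff_odd.mpr hu)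
      · omega
    have hn : ¬ m ∣ 2 ^ v := fun h' => hi (h'.mul_right u)
    rw [hodd u v hu hi, hchain m 1 (by omega) le_rfl v hv hn, pow_one]
  have hone : ∀ i, Odd i → ¬ m ∣ i → e i = e 1 := fun i hi hn => by
    simpa using hodd i 0 hi (by simpa using hn)
  -- the sign off the identity and the twisting character
  obtain ⟨ε, hε, μ, hμ2, hμval, hdiv⟩ : ∃ ε : ℤ, (ε = 1 ∨ ε = -1) ∧ ∃ μ : Γ →* ℂˣ,
      (∀ i : ℕ, μ (s ^ i) * μ (s ^ i) = 1) ∧
      (∀ i : ℕ, ¬ m ∣ i → (e i : ℂ) = (ε : ℂ) * (μ (s ^ i) : ℂ)) ∧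
      ∃ n : ℕ, coef C χ s (β : C → ℂ) 0 = (m : ℂ) * n + ε := by
    rcases Nat.even_or_odd m with hmev | hmodd
    · obtain ⟨r, hr⟩ := even_iff_two_dvd.mp hmev
      obtain ⟨l, -, hls⟩ := h.exists_lam hζ
      have hzr : ζ ^ r = -1 :=
        (hζ.pow (Nat.pos_of_ne_zero hm0) (by rw [hr, mul_comm])).eq_neg_one_of_two_right
      have hlr : ∀ i : ℕ, ((l (s ^ i) ^ r : ℂˣ) : ℂ) = (-1) ^ i := fun i => by
        rw [map_pow, Units.val_pow_eq_pow_val, Units.val_pow_eq_pow_val, hls, ← pow_mul,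
          mul_comm, pow_mul, hzr]
      obtain ⟨ε, hεdef⟩ : ∃ ε : ℤ, ε = if m = 2 then 1 else e 2 := ⟨_, rfl⟩
      have hε : ε = 1 ∨ ε = -1 := by
        rw [hεdef]; split_ifs
        · exact Or.inl rfl
        · exact he 2
      refine ⟨ε, hε, if e 1 = ε then 1 else (powMonoidHom r).comp l, fun i => ?_, fun i hi => ?_, ?_⟩
      · split_ifs
        · simp
        · apply Units.ext
          rw [Units.val_mul, Units.val_one]
          show ((l (s ^ i) ^ r : ℂˣ) : ℂ) * ((l (s ^ i) ^ r : ℂˣ) : ℂ) = 1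
          rw [hlr, ← pow_add, ← two_mul, pow_mul, neg_one_sq, one_pow]
      · rcases Nat.even_or_odd i with hev | hod
        · have hm2 : m ≠ 2 := fun h' => hi (h' ▸ even_iff_two_dvd.mp hev)
          have hε2 : ε = e 2 := by rw [hεdef, if_neg hm2]
          rw [heven i hev hi, hε2]
          split_ifs
          · simp
          · show _ = _ * ((l (s ^ i) ^ r : ℂˣ) : ℂ)
            rw [hlr, hev.neg_one_pow, mul_one]
        · rw [hone i hod hi]
          split_ifs with h1
          · simp [h1]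
          · show _ = _ * ((l (s ^ i) ^ r : ℂˣ) : ℂ)
            rw [hlr, hod.neg_one_pow]
            rcases he 1 with e1 | e1 <;> rcases hε with e2 | e2 <;>
              first
                | exact absurd (e1.trans e2.symm) h1
                | (rw [e1, e2]; push_cast; ring)
      · by_cases hm2 : m = 2
        · obtain ⟨n, hn⟩ := h.exists_twisted hχc hβc (d := 1) (k := m) (one_mul m) (w := 1)
            (one_pow m)
          rw [hm2, Finset.sum_range_succ, Finset.sum_range_one, one_mul, one_mul, hcoef0,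
            one_pow, one_pow, mul_one, mul_one, hcoefβ 1 (by rw [hm2]; norm_num)] at hn
          have hn' : (a0 : ℤ) + e 1 = 2 * (n : ℤ) := by exact_mod_cast hn
          refine ⟨(a0 - 1) / 2, ?_⟩
          rw [hcoef0, hm2, hεdef, if_pos hm2]
          have h2 : (a0 : ℤ) = 2 * (((a0 - 1) / 2 : ℕ) : ℤ) + 1 := by
            rcases he 1 with e1 | e1 <;> rw [e1] at hn' <;> omega
          have h3 : a0 = 2 * ((a0 - 1) / 2) + 1 := by omega
          conv_lhs => rw [h3]
          push_cast
          ring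
        · have hr1 : 1 < r := by omega
          obtain ⟨n, hn⟩ := h.exists_twisted hχc hβc (d := 1) (k := m) (one_mul m) (w := ζ)
            hζ.pow_eq_one
          refine ⟨n, ?_⟩
          have hz2 : IsPrimitiveRoot (ζ ^ 2) r := hζ.pow (Nat.pos_of_ne_zero hm0) hr
          rw [hεdef, if_neg hm2, ← hn]
          obtain ⟨r', rfl⟩ : ∃ r', r = r' + 1 := ⟨r - 1, by omega⟩
          rw [Finset.sum_congr (congrArg Finset.range hr) (fun t _ => rfl), sum_range_two,
            Finset.sum_range_succ', Finset.sum_congr rfl (fun u hu => show _ =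
              ((e 2 : ℂ) + (e 1 : ℂ) * ζ) * (ζ ^ 2) ^ (u + 1) by
              have hlt : u + 1 < r' + 1 := by have := Finset.mem_range.mp hu; omega
              rw [one_mul, one_mul, hcoefβ _ (Nat.not_dvd_of_pos_of_lt (by omega) (by omega)),
                hcoefβ _ (Nat.not_dvd_of_pos_of_lt (by omega) (by omega)),
                heven _ (even_two_mul _) (Nat.not_dvd_of_pos_of_lt (by omega) (by omega)),
                hone _ (odd_two_mul_add_one _) (Nat.not_dvd_of_pos_of_lt (by omega) (by omega)),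
                ← pow_mul, pow_succ ζ (2 * (u + 1))]
              ring)]
          rw [mul_zero, zero_add, one_mul, one_mul, pow_zero, pow_one, mul_one, hcoef0,
            hcoefβ 1 (Nat.not_dvd_of_pos_of_lt one_pos (by omega)), ← Finset.mul_sum]
          have hgs := geom_primitive hr1 hz2
          rw [Finset.sum_range_succ', pow_zero] at hgs
          linear_combination -((e 2 : ℂ) + (e 1 : ℂ) * ζ) * hgs
    · have hcop2 : Nat.Coprime 2 m := Nat.coprime_two_left.mpr hmodd
      have hconst : ∀ i, ¬ m ∣ i → e i = e 1 := by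
        intro i
        induction i using Nat.strong_induction_on with
        | _ i ih =>
          intro hi
          rcases Nat.even_or_odd i with ⟨j, rfl⟩ | hod
          · have hj : ¬ m ∣ j := fun h' => hi (dvd_add h' h')
            have hj0 : j ≠ 0 := fun h' => hj (h' ▸ dvd_zero m)
            rw [show j + j = j * 2 by ring] at hi ⊢
            rw [hgal j 2 hcop2 hj hi]
            exact ih j (by omega) hj
          · exact hone i hod hi
      obtain ⟨ε, hεdef⟩ : ∃ ε : ℤ, ε = if m = 1 then 1 else e 1 := ⟨_, rfl⟩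
      refine ⟨ε, ?_, 1, fun i => by simp, fun i hi => ?_, ?_⟩
      · rw [hεdef]; split_ifs
        · exact Or.inl rfl
        · exact he 1
      · have hm1 : m ≠ 1 := fun h' => hi (h' ▸ one_dvd i)
        simp [hεdef, if_neg hm1, hconst i hi]
      · by_cases hm1 : m = 1
        · refine ⟨0, ?_⟩
          rw [hεdef, if_pos hm1, hcoef0]
          have h1 := h.coef_eq_of_values hβ
          rw [coef_mod χ (β : C → ℂ) (show 1 ≡ 0 [MOD orderOf s] by
            rw [← hm, hm1]; exact Nat.modEq_one), hcoef0] at h1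
          have h2 : (a0 : ℤ) = ε₀ := by exact_mod_cast h1
          have h3 : a0 = 1 := by rcases hε₀ with h' | h' <;> rw [h'] at h2 <;> omega
          rw [h3]; simp
        · obtain ⟨n, hn⟩ := h.exists_twisted hχc hβc (d := 1) (k := m) (one_mul m) (w := ζ)
            hζ.pow_eq_one
          refine ⟨n, ?_⟩
          rw [hεdef, if_neg hm1, ← hn]
          obtain ⟨m', hm'⟩ : ∃ m', m = m' + 1 := ⟨m - 1, by omega⟩
          rw [hm', Finset.sum_range_succ', Finset.sum_congr rfl (fun t ht => show _ =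
            (e 1 : ℂ) * ζ ^ (t + 1) by
            have hn' : ¬ m ∣ t + 1 := Nat.not_dvd_of_pos_of_lt (Nat.succ_pos t)
              (by have := Finset.mem_range.mp ht; omega)
            rw [one_mul, hcoefβ _ hn', hconst _ hn'])]
          rw [mul_zero, pow_zero, mul_one, hcoef0, ← Finset.mul_sum]
          have hgs := geom_primitive (by omega) hζ
          rw [hm', Finset.sum_range_succ', pow_zero] at hgs
          linear_combination -(e 1 : ℂ) * hgs
  obtain ⟨n0, hn0⟩ := hdiv
  refine ⟨ε, hε, ⟨μ, hμ2, fun c i hi => ?_⟩, ?_⟩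
  · rw [(hbe i hi).1 c, hb i hi, hμval i hi]
    ring
  · have hother : ∀ φ : Cfsg.IrrCharacter C, φ ≠ β →
        ∃ n : ℕ, coef C χ s (φ : C → ℂ) 0 = (m : ℂ) * n := by
      intro φ hφ
      obtain ⟨n, hn⟩ := h.exists_twisted hχc (Char.isCharacter_irr φ) (d := 1) (k := m) (one_mul m)
        (w := 1) (one_pow m)
      refine ⟨n, ?_⟩
      rw [← hn, Finset.sum_eq_single 0]
      · simp
      · intro t ht ht0
        have hnd : ¬ m ∣ t :=
          Nat.not_dvd_of_pos_of_lt (Nat.pos_of_ne_zero ht0) (Finset.mem_range.mp ht)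
        rw [one_mul, hc t hnd, hb t hnd, if_neg hφ, zero_mul]
      · exact fun h' => absurd (Finset.mem_range.mpr (Nat.pos_of_ne_zero hm0)) h'
    choose n' hn' using hother
    refine ⟨fun φ => if hφ : φ = β then n0 else n' φ hφ, fun φ => ?_⟩
    by_cases hφ : φ = β
    · subst hφ
      simp [hn0]
    · rw [if_neg hφ, add_zero]
      simp only [dif_neg hφ]
      exact hn' φ hφ

end CfsgLib.CharDeep.Glauberman
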