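import Cfsg.Agent.Lib.CharDeep.Glauberman.InvariantLinear
import Cfsg.Agent.Lib.CharDeep.ProjExt
import Cfsg.Agent.Lib.Char.Quotient

/-!
# Invariant characters over an invariant character: solvable outer quotient

The cover attached to an invariant character of the bottom layer reduces the statement to
linear characters.
-/

set_option autoImplicit false

namespace CfsgLib.CharDeep.Glauberman.InvConst

open CfsgLib
open scoped ComplexConjugate

/-- Schur averaging: the mean of `|χ|²` over a coset of an irreducibly represented subgroup. -/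
theorem sum_char_mul_char_inv {H : Type*} [Group H] {d : ℕ} (hd : d ≠ 0)
    (R : Representation ℂ H (Fin d → ℂ)) (A : Subgroup H) [Fintype A]
    [hirr : Representation.IsIrreducible (R.comp A.subtype : Representation ℂ A (Fin d → ℂ))]
    (g : H) :
    ∑ a : A, R.character (g * (a : H)) * R.character (g * (a : H))⁻¹ = (Nat.card A : ℂ) := by
  classical
  let M : H → Matrix (Fin d) (Fin d) ℂ := fun h => LinearMap.toMatrixAlgEquiv' (R h)
  have hmul : ∀ a b, M (a * b) = M a * M b := fun a b => by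
    simp only [M, map_mul]
  have hone : M 1 = 1 := by simp only [M, map_one]
  have htr : ∀ h, R.character h = (M h).trace := fun h => by
    show LinearMap.trace ℂ _ (R h) = _
    rw [LinearMap.trace_eq_matrix_trace ℂ (Pi.basisFun ℂ (Fin d))]
    rfl
  have schur : ∀ X : Matrix (Fin d) (Fin d) ℂ, ∑ a : A, M a * X * M (a⁻¹ : A) =
      ((Nat.card A : ℂ) * X.trace / d) • (1 : Matrix (Fin d) (Fin d) ℂ) := by
    intro X
    set Y := ∑ a : A, M a * X * M (a⁻¹ : A) with hY
    have hcomm : ∀ b : A, M b * Y = Y * M b := by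
      intro b
      rw [hY, Finset.mul_sum, Finset.sum_mul]
      refine Fintype.sum_equiv (Equiv.mulLeft b) _ _ fun a => ?_
      simp only [Equiv.coe_mulLeft, mul_inv_rev, Subgroup.coe_mul, hmul, mul_assoc]
      rw [← hmul ((b⁻¹ : A) : H) b, show ((b⁻¹ : A) : H) * b = 1 from inv_mul_cancel _, hone,
        mul_one]
    obtain ⟨c, hc⟩ := IrrTools.exists_smul_of_commute
      (R.comp A.subtype : Representation ℂ A (Fin d → ℂ))
      ((LinearMap.toMatrixAlgEquiv' (R := ℂ) (n := Fin d)).symm Y) fun b => by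
        apply (LinearMap.toMatrixAlgEquiv' (R := ℂ) (n := Fin d)).injective
        rw [map_mul, map_mul, AlgEquiv.apply_symm_apply]
        first
          | exact hcomm b
          | exact (hcomm b).symm
    have hYc : Y = c • (1 : Matrix (Fin d) (Fin d) ℂ) := by
      have h := congrArg (LinearMap.toMatrixAlgEquiv' (R := ℂ) (n := Fin d)) hc
      rw [AlgEquiv.apply_symm_apply, map_smul, map_one] at h
      exact h
    have h2 : Y.trace = (Nat.card A : ℂ) * X.trace := by
      rw [hY, Matrix.trace_sum, Nat.card_eq_fintype_card, ← nsmul_eq_mul, ← Finset.card_univ,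
        ← Finset.sum_const]
      refine Finset.sum_congr rfl fun a _ => ?_
      rw [Matrix.trace_mul_comm, ← mul_assoc, ← hmul,
        show ((a⁻¹ : A) : H) * a = 1 from inv_mul_cancel _, hone, one_mul]
    rw [← h2, hYc, Matrix.trace_smul, Matrix.trace_one, Fintype.card_fin, smul_eq_mul,
      mul_div_cancel_right₀ c (Nat.cast_ne_zero.mpr hd)]
  have hprod : ∀ P Q : Matrix (Fin d) (Fin d) ℂ, P.trace * Q.trace =
      ∑ i, ∑ j, (P * Matrix.single i j (1 : ℂ) * Q : Matrix (Fin d) (Fin d) ℂ) i j := by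
    intro P Q
    simp only [Matrix.trace, Matrix.diag, Finset.sum_mul_sum]
    refine Finset.sum_congr rfl fun i _ => Finset.sum_congr rfl fun j _ => ?_
    simp [Matrix.mul_apply, Matrix.single, Finset.sum_ite_eq', ite_and]
  calc ∑ a : A, R.character (g * (a : H)) * R.character (g * (a : H))⁻¹
      = ∑ a : A, ∑ i, ∑ j, (M g * (M a * Matrix.single i j (1 : ℂ) * M (a⁻¹ : A)) * M g⁻¹ : Matrix (Fin d) (Fin d) ℂ) i j := by
        refine Finset.sum_congr rfl fun a _ => ?_
        rw [htr, htr, hprod, mul_inv_rev, hmul, hmul]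
        simp only [mul_assoc]
        rfl
    _ = ∑ i, ∑ j, (M g * (∑ a : A, M a * Matrix.single i j (1 : ℂ) * M (a⁻¹ : A)) * M g⁻¹ : Matrix (Fin d) (Fin d) ℂ) i j := by
        rw [Finset.sum_comm]
        refine Finset.sum_congr rfl fun i _ => ?_
        rw [Finset.sum_comm]
        refine Finset.sum_congr rfl fun j _ => ?_
        simp only [Finset.mul_sum, Finset.sum_mul, Matrix.sum_apply]
    _ = (Nat.card A : ℂ) := by
        simp only [schur, Matrix.mul_smul, Matrix.smul_mul, mul_one, ← hmul, mul_inv_cancel, hone,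
          Matrix.smul_apply, smul_eq_mul, Matrix.one_apply, Matrix.trace, Matrix.diag,
          Matrix.single]
        simp [Finset.sum_ite_eq', ite_and, Nat.cast_ne_zero.mpr hd, mul_div_assoc]
        field_simp

/-- An invariant character of the bottom layer lies under an invariant character if the outer
quotient is solvable. -/
theorem exists_invariant_of_solvable_top {Γ : Type*} [Group Γ] [Fintype Γ] (G N : Subgroup Γ)
    [hG : G.Normal] [hN : N.Normal] [Fintype G] [Fintype N] (hNG : N ≤ G)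
    (hcop : G.index.Coprime (N.relIndex G)) [hsolv : Group.IsSolvable (Γ ⧸ G)]
    (θ : Cfsg.IrrCharacter N) (hθ : ∀ x : Γ, Char.conjG (θ : N → ℂ) x = θ) :
    ∃ χ : Cfsg.IrrCharacter G,
      Cfsg.classInner ((χ : G → ℂ) ∘ Subgroup.inclusion hNG) (θ : N → ℂ) ≠ 0 ∧
      ∀ x : Γ, Char.conjG (χ : G → ℂ) x = χ := by
  classical
  obtain ⟨d, ρ, hρ, hρθ⟩ := θ.2
  haveI := hρ
  have hinv : ProjExt.Invariant ρ := fun g n => by
    rw [hρθ]
    have h := congrFun (hθ g) n
    rw [Char.conjG_eq_comp] at h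
    exact h
  let π := ProjExt.proj ρ
  have hπ : Function.Surjective π := ProjExt.proj_surjective ρ hinv
  haveI : Fintype (ProjExt.cover ρ) := Fintype.ofFinite _
  let Gs : Subgroup (ProjExt.cover ρ) := G.comap π
  let A : Subgroup (ProjExt.cover ρ) := ProjExt.pre ρ
  have hAG : A ≤ Gs := Subgroup.comap_mono hNG
  haveI : Fintype Gs := Fintype.ofFinite _
  haveI : Fintype A := Fintype.ofFinite _
  haveI hGs : Gs.Normal := hG.comap π
  haveI hAn : A.Normal := hN.comap π
  have hcop' : Gs.index.Coprime (A.relIndex Gs) := by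
    rw [Subgroup.index_comap_of_surjective _ hπ, Subgroup.relIndex_comap,
      Subgroup.map_comap_eq_self_of_surjective hπ]
    exact hcop
  haveI : Group.IsSolvable ((ProjExt.cover ρ) ⧸ Gs) := by
    refine Group.isSolvable_of_isSolvable_injective
      (f := QuotientGroup.map Gs G π le_rfl) ?_
    intro a b
    induction a using QuotientGroup.induction_on
    induction b using QuotientGroup.induction_on
    intro h
    rw [QuotientGroup.map_mk, QuotientGroup.map_mk, QuotientGroup.eq, ← map_inv, ← map_mul] at h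
    exact QuotientGroup.eq.mpr h
  obtain ⟨lam, hlam⟩ : ∃ lam : A →* ℂˣ, ∀ y, lam y = (ProjExt.scalar ρ y)⁻¹ :=
    ⟨(ProjExt.scalar ρ)⁻¹, fun _ => rfl⟩
  obtain ⟨η, hη, hηinv, hηA⟩ := exists_inv_over_linear Gs A hAG hcop' lam fun x y => by
    rw [hlam, hlam]
    exact congrArg (·⁻¹) (ProjExt.scalar_conj ρ x y)
  let R : Representation ℂ (ProjExt.cover ρ) (Fin d → ℂ) :=
    (Units.coeHom (Module.End ℂ (Fin d → ℂ))).comp (ProjExt.lin ρ)
  have hRA : ∀ a : A, R a = (ProjExt.scalar ρ a : ℂ) • ρ ⟨π a, a.2⟩ := fun a =>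
    ProjExt.scalar_spec ρ a
  haveI : Nontrivial (Fin d → ℂ) := IrrTools.apply_ne_zero_of_isIrreducible ρ
  have hd : d ≠ 0 := fun h => by
    subst h
    exact not_nontrivial (Fin 0 → ℂ) inferInstance
  haveI : Representation.IsIrreducible (R.comp A.subtype : Representation ℂ A (Fin d → ℂ)) := by
    refine IrrTools.isIrreducible_of_forall _ fun U hU =>
      IrrTools.eq_bot_or_top_of_invariant ρ U fun n u hu => ?_
    obtain ⟨γ, hγ⟩ := hπ n
    have hγA : γ ∈ A := by show π γ ∈ N; rw [hγ]; exact n.2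
    have h := U.smul_mem ((ProjExt.scalar ρ ⟨γ, hγA⟩ : ℂ))⁻¹ (hU ⟨γ, hγA⟩ u hu)
    rw [show (R.comp A.subtype : Representation ℂ A (Fin d → ℂ)) ⟨γ, hγA⟩ = R γ from rfl,
      hRA ⟨γ, hγA⟩, LinearMap.smul_apply, smul_smul, inv_mul_cancel₀ (Units.ne_zero _),
      one_smul] at h
    rwa [show (⟨π (⟨γ, hγA⟩ : A), hγA⟩ : N) = n from Subtype.ext hγ] at h
  -- the character of the cover
  obtain ⟨Φ, hΦdef⟩ : ∃ Φ : Gs → ℂ, ∀ g : Gs, Φ g = R.character g * η g := ⟨_, fun _ => rfl⟩
  have hΦc : Cfsg.IsCharacter Gs Φ := by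
    rw [show Φ = fun g : Gs => R.character g * η g from funext hΦdef]
    exact Char.IsCharacter.mul (Char.IsCharacter.comp (Char.isCharacter_of_rep R) Gs.subtype)
      (Char.IsIrrCharacter.isCharacter hη)
  have hRchar : ∀ a : A, R.character a = (ProjExt.scalar ρ a : ℂ) * (θ : N → ℂ) ⟨π a, a.2⟩ :=
    fun a => by
      show LinearMap.trace ℂ _ (R a) = _
      rw [hRA, map_smul, smul_eq_mul, ← hρθ]
      rfl
  have hΦA : ∀ a : A, Φ ⟨a, hAG a.2⟩ = η 1 * (θ : N → ℂ) ⟨π a, a.2⟩ := fun a => by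
    rw [hΦdef]
    show R.character a * η ⟨a, hAG a.2⟩ = _
    rw [hRchar, hηA, hlam, Units.val_inv_eq_inv_val]
    field_simp
  -- translation of `η` by `A`
  obtain ⟨e, σ, hσ, hσeq⟩ := hη
  have hσA : ∀ (g : Gs) (a : A), η (g * ⟨a, hAG a.2⟩) = (lam a : ℂ) * η g := by
    intro g a
    haveI := hσ
    have h1 : η 1 = (Module.finrank ℂ (Fin e → ℂ) : ℂ) := by rw [← hσeq, Representation.char_one]
    have hn : ‖σ.character ⟨a, hAG a.2⟩‖ = (Module.finrank ℂ (Fin e → ℂ) : ℝ) := by
      rw [hσeq, hηA, h1, norm_mul, Complex.norm_natCast,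
        Char.norm_eq_one_of_pow_orderOf (g := a) (by
          rw [← Units.val_pow_eq_pow_val, ← map_pow, pow_orderOf_eq_one, map_one, Units.val_one]),
        mul_one]
    obtain ⟨w, -, hw, hc⟩ := Char.exists_scalar_of_norm_char_eq σ ⟨a, hAG a.2⟩ hn
    have hne : (Module.finrank ℂ (Fin e → ℂ) : ℂ) ≠ 0 :=
      h1 ▸ Char.IsIrrCharacter.apply_one_ne_zero ⟨e, σ, hσ, hσeq⟩
    have hw2 : w = (lam a : ℂ) := by
      rw [hσeq, hηA, h1] at hc
      exact (mul_left_cancel₀ hne hc).symm
    rw [← hσeq]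
    show LinearMap.trace ℂ _ (σ (g * ⟨a, hAG a.2⟩)) = _
    rw [map_mul, hw, hw2, mul_smul_comm, map_smul, smul_eq_mul]
    congr 1
  have hnorm : Cfsg.classInner Φ Φ = 1 := by
    have hlamn : ∀ a : A, (lam a : ℂ) * conj (lam a : ℂ) = 1 := fun a => by
      rw [Complex.mul_conj, Complex.normSq_eq_norm_sq,
        Char.norm_eq_one_of_pow_orderOf (g := a) (by
          rw [← Units.val_pow_eq_pow_val, ← map_pow, pow_orderOf_eq_one, map_one, Units.val_one])]
      simp
    have hconjR : ∀ x, conj (R.character x) = R.character x⁻¹ := fun x =>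
      (Char.char_inv_eq_conj R x).symm
    have key : ∀ g : Gs, ∑ a : A, Φ (g * ⟨a, hAG a.2⟩) * conj (Φ (g * ⟨a, hAG a.2⟩)) =
        (Nat.card A : ℂ) * (η g * conj (η g)) := fun g => by
      rw [← sum_char_mul_char_inv hd R A (g : ProjExt.cover ρ), Finset.sum_mul]
      refine Finset.sum_congr rfl fun a _ => ?_
      simp only [hΦdef, map_mul, hσA, hconjR, Subgroup.coe_mul]
      linear_combination
        (R.character ((g : ProjExt.cover ρ) * a) * R.character ((g : ProjExt.cover ρ) * a)⁻¹ *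
          (η g * conj (η g))) * hlamn a
    have hη1 : Cfsg.classInner η η = 1 := Char.classInner_irr_self ⟨e, σ, hσ, hσeq⟩
    have hS : (Nat.card A : ℂ) * ∑ g : Gs, Φ g * conj (Φ g) =
        (Nat.card A : ℂ) * ∑ g : Gs, η g * conj (η g) := by
      conv_rhs => rw [Finset.mul_sum, Finset.sum_congr rfl fun g _ => (key g).symm, Finset.sum_comm]
      have htrans : ∀ a : A, ∑ g : Gs, Φ (g * ⟨a, hAG a.2⟩) * conj (Φ (g * ⟨a, hAG a.2⟩)) =
          ∑ g : Gs, Φ g * conj (Φ g) := fun a =>
        Equiv.sum_comp (Equiv.mulRight (⟨a, hAG a.2⟩ : Gs)) fun g => Φ g * conj (Φ g)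
      rw [Finset.sum_congr rfl fun (a : A) _ => htrans a,
        Finset.sum_const, Finset.card_univ, nsmul_eq_mul, Nat.card_eq_fintype_card]
    rw [← hη1]
    unfold Cfsg.classInner
    rw [mul_left_cancel₀ (Char.card_ne_zero (G := A)) hS]
  -- the projection to `G`
  let π' : Gs →* G := π.subgroupComap G
  have hπ' : Function.Surjective π' := π.subgroupComap_surjective_of_surjective G hπ
  have hΦ1 : ∀ z ∈ π'.ker, Φ z = Φ 1 := fun z hz => by
    have hz' : π (z : ProjExt.cover ρ) = 1 := congrArg Subtype.val (MonoidHom.mem_ker.mp hz)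
    have hzA : (z : ProjExt.cover ρ) ∈ A := by show π _ ∈ N; rw [hz']; exact one_mem N
    have h1 := hΦA ⟨z, hzA⟩
    have h2 := hΦA 1
    refine h1.trans (Eq.trans ?_ h2.symm)
    exact congrArg (fun n : N => η 1 * (θ : N → ℂ) n) (Subtype.ext (hz'.trans (map_one π).symm))
  obtain ⟨ψ, hψ, hψΦ⟩ := Char.IsCharacter.exists_deflate hΦc π'.ker hΦ1
  let E := QuotientGroup.quotientKerEquivOfSurjective π' hπ'
  let χ₀ : G → ℂ := ψ ∘ E.symm
  have hχΦ : Φ = χ₀ ∘ π' := by
    rw [hψΦ]
    funext g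
    show ψ (QuotientGroup.mk' _ g) = ψ (E.symm (π' g))
    congr 1
    rw [MulEquiv.eq_symm_apply]
    rfl
  have hχ₀ : Cfsg.IsIrrCharacter G χ₀ := by
    refine Char.IsCharacter.isIrrCharacter_of_norm_one
      (Char.IsCharacter.comp hψ E.symm.toMonoidHom) ?_
    show Cfsg.classInner χ₀ χ₀ = 1
    rw [← Char.classInner_comp_surjective π' hπ', ← hχΦ, hnorm]
  refine ⟨⟨χ₀, hχ₀⟩, ?_, fun x => ?_⟩
  · rw [show χ₀ ∘ Subgroup.inclusion hNG = η 1 • (θ : N → ℂ) from funext fun n => ?_,
      Char.classInner_smul_left, Char.classInner_irr_self θ.2, mul_one]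
    · exact Char.IsIrrCharacter.apply_one_ne_zero ⟨e, σ, hσ, hσeq⟩
    · obtain ⟨γ, hγ⟩ := hπ n
      have hγA : γ ∈ A := by show π γ ∈ N; rw [hγ]; exact n.2
      have h := hΦA ⟨γ, hγA⟩
      rw [hχΦ] at h
      show χ₀ (Subgroup.inclusion hNG n) = η 1 * (θ : N → ℂ) n
      refine Eq.trans (Eq.trans ?_ h) ?_
      · exact congrArg χ₀ (Subtype.ext hγ.symm)
      · exact congrArg (fun n : N => η 1 * (θ : N → ℂ) n) (Subtype.ext hγ)
  · funext g
    obtain ⟨γ, rfl⟩ := hπ' g
    obtain ⟨x', rfl⟩ := hπ x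
    have h := congrFun (hηinv x') γ
    rw [Char.conjG_apply] at h ⊢
    have e2 : Φ ⟨x' * γ * x'⁻¹, hGs.conj_mem γ γ.2 x'⟩ = Φ γ := by
      rw [hΦdef, hΦdef]
      show R.character (x' * γ * x'⁻¹) * _ = R.character γ * _
      rw [h, Char.IsCharacter.isClassFunction (Char.isCharacter_of_rep R)]
    rw [hχΦ] at e2
    refine Eq.trans (congrArg χ₀ (Subtype.ext ?_)) e2
    show π x' * π γ * (π x')⁻¹ = π (x' * γ * x'⁻¹)
    rw [map_mul, map_mul, map_inv]

end CfsgLib.CharDeep.Glauberman.InvConst
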