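import Cfsg.Agent.Lib.CharDeep.Glauberman.InvariantSolvable
import Cfsg.Agent.Lib.CharDeep.Glauberman.InvariantProjective

/-!
# Invariant constituents of induced characters in coprime layers
-/

set_option autoImplicit false

namespace CfsgLib.CharDeep.Glauberman.InvConst

open CfsgLib
open scoped commutatorElement

/-- A solvable proper layer has an abelian bottom. -/
theorem exists_abelian_layer {Γ : Type*} [Group Γ] [Finite Γ] (G N : Subgroup Γ) [G.Normal]
    [N.Normal] (hNG : N ≤ G) (hne : N ≠ G) [Group.IsSolvable (G ⧸ N.subgroupOf G)] :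
    ∃ M : Subgroup Γ, M.Normal ∧ N ≤ M ∧ M ≤ G ∧ N ≠ M ∧
      ∀ a ∈ M, ∀ b ∈ M, (b * a)⁻¹ * (a * b) ∈ N := by
  let mk := QuotientGroup.mk' N
  haveI : (G.map mk).Normal :=
    (inferInstance : G.Normal).map mk (QuotientGroup.mk'_surjective N)
  have hGb : G.map mk ≠ ⊥ := fun h => hne (le_antisymm hNG (by
    have := (Subgroup.map_eq_bot_iff G).mp h
    rwa [QuotientGroup.ker_mk'] at this))
  obtain ⟨T, hTn, hT, hTle, hmin⟩ := Solvable.Basic.exists_minimal_normal_le hGb
  haveI := hTn
  haveI : Group.IsSolvable T := by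
    let f : G →* G.map mk := mk.subgroupMap G
    have hk : N.subgroupOf G ≤ f.ker := fun g hg => MonoidHom.mem_ker.mpr
      (Subtype.ext ((QuotientGroup.eq_one_iff _).mpr hg))
    haveI : Group.IsSolvable (G.map mk) :=
      Group.isSolvable_of_surjective (f := QuotientGroup.lift _ f hk)
        (QuotientGroup.lift_surjective_of_surjective _ f (mk.subgroupMap_surjective G) hk)
    exact Group.isSolvable_of_isSolvable_injective (f := Subgroup.inclusion hTle)
      (Subgroup.inclusion_injective hTle)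
  obtain ⟨hc, -⟩ := Solvable.Basic.minimal_normal_solvable T hT hmin
  refine ⟨T.comap mk, Subgroup.Normal.comap hTn mk, QuotientGroup.le_comap_mk' N T, ?_, ?_, ?_⟩
  · refine (Subgroup.comap_mono hTle).trans ?_
    rw [Subgroup.comap_map_eq, QuotientGroup.ker_mk', sup_eq_left.mpr hNG]
  · intro h
    refine hT ?_
    rw [← Subgroup.map_comap_eq_self_of_surjective (QuotientGroup.mk'_surjective N) T, ← h,
      Subgroup.map_eq_bot_iff, QuotientGroup.ker_mk']
  · intro a ha b hb
    rw [← QuotientGroup.eq, QuotientGroup.mk_mul, QuotientGroup.mk_mul]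
    exact ((Solvable.Basic.isMulCommutative_subgroup_iff.mp hc) _ ha _ hb).symm

/-- An invariant character of the bottom layer lies under an invariant character if the middle
layer is solvable. -/
theorem exists_invariant_of_solvable_mid.{u} (n : ℕ) :
    ∀ {Γ : Type u} [Group Γ] [Fintype Γ] (G N : Subgroup Γ) [G.Normal] [N.Normal] [Fintype G]
      [Fintype N] (hNG : N ≤ G), N.relIndex G = n → G.index.Coprime n →
      Group.IsSolvable (G ⧸ N.subgroupOf G) → ∀ θ : Cfsg.IrrCharacter N,
      (∀ x : Γ, Char.conjG (θ : N → ℂ) x = θ) → ∃ χ : Cfsg.IrrCharacter G,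
        Cfsg.classInner ((χ : G → ℂ) ∘ Subgroup.inclusion hNG) (θ : N → ℂ) ≠ 0 ∧
        ∀ x : Γ, Char.conjG (χ : G → ℂ) x = χ := by
  induction n using Nat.strong_induction_on with
  | _ n ih =>
  intro Γ _ _ G N hGn hNn _ _ hNG hn hcop hsolv θ hθ
  classical
  by_cases hne : N = G
  · subst hne
    refine ⟨θ, ?_, hθ⟩
    rw [show (θ : N → ℂ) ∘ Subgroup.inclusion hNG = θ from rfl]
    intro h
    exact one_ne_zero ((Char.classInner_irr_self θ.2).symm.trans (Eq.trans (by congr; exact Subsingleton.elim _ _) h))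
  obtain ⟨M, hMn, hNM, hMG, hNMne, hab⟩ := exists_abelian_layer G N hNG hne
  haveI := hMn
  haveI : Fintype M := Fintype.ofFinite M
  obtain ⟨ψ, hψθ, hψG⟩ := exists_stab_sup_eq_top G M N hNM hMG hab (by rw [hn]; exact hcop) θ hθ
  set Γ' := Char.stab (ψ : M → ℂ) with hΓ'
  have hMΓ' : M ≤ Γ' := Char.le_stab (Char.IsIrrCharacter.isClassFunction ψ.2)
  haveI : Fintype Γ' := Fintype.ofFinite _
  let G' := G.subgroupOf Γ'
  let M' := M.subgroupOf Γ'
  haveI : G'.Normal := Subgroup.Normal.subgroupOf inferInstance Γ'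
  haveI : M'.Normal := Subgroup.Normal.subgroupOf inferInstance Γ'
  haveI : Fintype G' := Fintype.ofFinite _
  haveI : Fintype M' := Fintype.ofFinite _
  have hM'G' : M' ≤ G' := fun x hx => hMG hx
  have hidx' : G'.index = G.index := by
    show G.relIndex Γ' = _
    rw [← Subgroup.relIndex_sup_right, hψG, Subgroup.relIndex_top_right]
  have hlt : M'.relIndex G' < n ∧ M'.relIndex G' ∣ n := by
    have h0 : M'.relIndex G' = M.relIndex (G ⊓ Γ') := by
      show (M.comap Γ'.subtype).relIndex (G.subgroupOf Γ') = _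
      rw [Subgroup.relIndex_comap, Subgroup.subgroupOf_map_subtype]
    have h1 := Subgroup.relIndex_mul_relIndex M (G ⊓ Γ') G (le_inf hMG hMΓ') inf_le_left
    have h2 := Subgroup.relIndex_mul_relIndex N M G hNM hMG
    have h3 : N.relIndex M ≠ 1 := fun h => hNMne (le_antisymm hNM (Subgroup.relIndex_eq_one.mp h))
    have h4 : 0 < n := hn ▸ Nat.pos_of_ne_zero Subgroup.index_ne_zero_of_finite
    rw [hn, ← h1, ← h0] at h2
    refine ⟨?_, ⟨N.relIndex M * (G ⊓ Γ').relIndex G, by rw [← h2]; ring⟩⟩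
    · have hp : 0 < N.relIndex M * (M'.relIndex G' * (G ⊓ Γ').relIndex G) := h2.symm ▸ h4
      have ha := Nat.pos_of_mul_pos_right hp
      have hb := Nat.pos_of_mul_pos_left hp
      have hx := Nat.pos_of_mul_pos_right hb
      have hy := Nat.pos_of_mul_pos_left hb
      have h5 : 2 * M'.relIndex G' ≤ n := by
        rw [← h2]
        exact Nat.mul_le_mul (by omega) (Nat.le_mul_of_pos_right _ hy)
      omega
  have hsolv' : Group.IsSolvable (G' ⧸ M'.subgroupOf G') := by
    haveI := hsolv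
    let f : G' →* G ⧸ N.subgroupOf G := (QuotientGroup.mk' _).comp (Γ'.subtype.subgroupComap G)
    haveI : Group.IsSolvable (G' ⧸ f.ker) :=
      Group.isSolvable_of_isSolvable_injective (f := QuotientGroup.kerLift f)
        (QuotientGroup.kerLift_injective f)
    have hle : f.ker ≤ (M'.subgroupOf G').comap (MonoidHom.id G') := fun g hg =>
      hNM ((QuotientGroup.eq_one_iff (Γ'.subtype.subgroupComap G g)).mp (MonoidHom.mem_ker.mp hg))
    exact Group.isSolvable_of_surjective (f := QuotientGroup.map f.ker _ (MonoidHom.id G') hle)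
      fun q => by
        induction q using QuotientGroup.induction_on
        rename_i g
        exact ⟨g, rfl⟩
  let E := Subgroup.subgroupOfEquivOfLe hMΓ'
  obtain ⟨η, hηψ, hηinv⟩ := ih _ hlt.1 G' M' hM'G' rfl
    (by rw [hidx']; exact hcop.of_dvd_right hlt.2) hsolv'
    ⟨(ψ : M → ℂ) ∘ E, Char.IsIrrCharacter.comp_equiv ψ.2 E⟩
    (fun x => funext fun m => congrFun (Char.mem_stab.mp x.2) (E m))
  -- induce to `G`
  let T : Subgroup G := Γ'.subgroupOf G
  let MG : Subgroup G := M.subgroupOf G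
  haveI : MG.Normal := Subgroup.Normal.subgroupOf inferInstance G
  haveI : Fintype T := Fintype.ofFinite _
  haveI : Fintype MG := Fintype.ofFinite _
  let e₂ : T ≃* G' :=
    { toFun := fun t => ⟨⟨((t : G) : Γ), t.2⟩, (t : G).2⟩
      invFun := fun t => ⟨⟨((t : Γ') : Γ), t.2⟩, (t : Γ').2⟩
      left_inv := fun _ => rfl
      right_inv := fun _ => rfl
      map_mul' := fun _ _ => rfl }
  let e₃ : MG ≃* M := Subgroup.subgroupOfEquivOfLe hMG
  have hMT : MG ≤ T := fun g hg => hMΓ' hg
  have hT : ∀ g : G, g ∈ T ↔ Char.conjG ((ψ : M → ℂ) ∘ e₃) g = (ψ : M → ℂ) ∘ e₃ := fun g => by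
    show (g : Γ) ∈ Γ' ↔ _
    rw [hΓ', Char.mem_stab]
    constructor
    · intro h
      funext m
      exact congrFun h (e₃ m)
    · intro h
      funext m
      obtain ⟨m', rfl⟩ := e₃.surjective m
      exact congrFun h m'
  obtain ⟨hirr, hover⟩ := isIrrCharacter_indFun_stab MG
    (Char.IsIrrCharacter.comp_equiv ψ.2 e₃) T hT hMT (Char.IsIrrCharacter.comp_equiv η.2 e₂) (by
      let e₄ : MG ≃* M' := e₃.trans E.symm
      rw [← Char.classInner_reindex e₄ ((η : G' → ℂ) ∘ Subgroup.inclusion hM'G')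
        ((ψ : M → ℂ) ∘ E)] at hηψ
      refine fun h => hηψ (Eq.trans ?_ h)
      congr 1)
  set χ₀ := Cfsg.indFun T ((η : G' → ℂ) ∘ e₂) with hχ₀
  refine ⟨⟨χ₀, hirr⟩, ?_, fun x => ?_⟩
  · have hres : Cfsg.classInner (χ₀ ∘ Subgroup.inclusion hMG) (ψ : M → ℂ) ≠ 0 := by
      rw [← Char.classInner_reindex e₃ (χ₀ ∘ Subgroup.inclusion hMG) (ψ : M → ℂ)]
      exact hover
    exact Clifford.classInner_ne_zero_trans
      (Char.IsCharacter.comp (Char.IsIrrCharacter.isCharacter hirr) (Subgroup.inclusion hMG)) ψ.2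
      hres (Subgroup.inclusion hNM) (Char.IsIrrCharacter.isCharacter θ.2) hψθ
  · obtain ⟨a, ha, g, hg, rfl⟩ := Subgroup.mem_sup_of_normal_right.mp
      (show x ∈ Γ' ⊔ G by rw [hψG]; trivial)
    rw [← Char.conjG_mul]
    have hfix : Char.conjG χ₀ a = χ₀ := by
      funext y
      rw [Char.conjG_eq_comp]
      refine indFun_apply_equiv T _ (MulAut.conjNormal a) (fun t ht => ?_) (fun t t' h => ?_) y
      · show ((MulAut.conjNormal a t : G) : Γ) ∈ Γ'
        rw [MulAut.conjNormal_apply]
        exact Γ'.mul_mem (Γ'.mul_mem ha ht) (Γ'.inv_mem ha)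
      · have h2 := congrFun (hηinv ⟨a, ha⟩) (e₂ t)
        rw [Char.conjG_apply] at h2
        refine Eq.trans (congrArg (η : G' → ℂ) (Subtype.ext (Subtype.ext ?_))) h2
        show ((t' : G) : Γ) = a * ((t : G) : Γ) * a⁻¹
        rw [h, MulAut.conjNormal_apply]
    show Char.conjG (Char.conjG χ₀ a) g = χ₀
    rw [hfix, Char.conjG_of_mem (Char.IsIrrCharacter.isClassFunction hirr) hg]

/-- Invariant constituents above an invariant character in coprime layers. -/
theorem exists_invariant_constituent {Γ : Type*} [Group Γ] [Fintype Γ] (G N : Subgroup Γ)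
    [G.Normal] [N.Normal] [Fintype G] [Fintype N] (hNG : N ≤ G)
    (hcop : G.index.Coprime (N.relIndex G))
    (hsolv : Group.IsSolvable (Γ ⧸ G) ∨ Group.IsSolvable (G ⧸ N.subgroupOf G))
    (θ : Cfsg.IrrCharacter N) (hθ : ∀ x : Γ, Char.conjG (θ : N → ℂ) x = θ) :
    ∃ χ : Cfsg.IrrCharacter G,
      Cfsg.classInner ((χ : G → ℂ) ∘ Subgroup.inclusion hNG) (θ : N → ℂ) ≠ 0 ∧
      ∀ x : Γ, Char.conjG (χ : G → ℂ) x = χ := by
  rcases hsolv with h | h
  · haveI := h
    exact exists_invariant_of_solvable_top G N hNG hcop θ hθ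
  · exact exists_invariant_of_solvable_mid _ G N hNG rfl hcop h θ hθ

end CfsgLib.CharDeep.Glauberman.InvConst
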