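import Cfsg.Agent.Lib.CharDeep.Glauberman.InvariantLinear
import Cfsg.Agent.Lib.CharDeep.Clifford
import Cfsg.Agent.Lib.Solvable.Basic
import Mathlib.GroupTheory.FiniteAbelian.Duality
import Mathlib.RingTheory.RootsOfUnity.AlgebraicallyClosed

/-!
# Invariant characters over an invariant character: solvable middle layer

Induction on the index: an abelian layer has a character over the given one whose stabiliser
covers the outer quotient, and Clifford's correspondence carries the result down to it.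
-/

set_option autoImplicit false

namespace CfsgLib.CharDeep.Glauberman.InvConst

open CfsgLib
open scoped ComplexConjugate

section Induced

variable {G : Type*} [Group G] [Fintype G]

/-- A character of the stabiliser over the stabilised character induces irreducibly. -/
theorem isIrrCharacter_indFun_stab (H : Subgroup G) [H.Normal] [Fintype H] {ϑ : H → ℂ}
    (hϑ : Cfsg.IsIrrCharacter H ϑ) (T : Subgroup G) [Fintype T]
    (hT : ∀ g : G, g ∈ T ↔ Char.conjG ϑ g = ϑ) (hHT : H ≤ T) {ψ : T → ℂ}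
    (hψ : Cfsg.IsIrrCharacter T ψ)
    (hcon : Cfsg.classInner (ψ ∘ Subgroup.inclusion hHT) ϑ ≠ 0) :
    Cfsg.IsIrrCharacter G (Cfsg.indFun T ψ) ∧
      Cfsg.classInner (Cfsg.indFun T ψ ∘ H.subtype) ϑ ≠ 0 := by
  classical
  have hψc := Char.IsIrrCharacter.isCharacter hψ
  have hϑc := Char.IsIrrCharacter.isCharacter hϑ
  have hI : Cfsg.IsCharacter G (Cfsg.indFun T ψ) := Char.IsCharacter.indFun T hψc
  have hI0 : Cfsg.indFun T ψ ≠ 0 := fun h => by
    have h' := congrFun h 1
    rw [Char.indFun_one] at h'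
    exact mul_ne_zero (Nat.cast_ne_zero.mpr Subgroup.index_ne_zero_of_finite)
      (Char.IsIrrCharacter.apply_one_ne_zero hψ) h'
  obtain ⟨χ, hχ, hne⟩ := Char.IsCharacter.exists_constituent hI hI0
  have hTc := Char.IsCharacter.restrict (Char.IsIrrCharacter.isCharacter hχ) T
  have hψ1 : Cfsg.classInner (fun t : T => χ t) ψ ≠ 0 := by
    rw [← Char.IsCharacter.classInner_comm hψc hTc,
      ← Char.classInner_indFun T ψ (Char.IsIrrCharacter.isClassFunction hχ)]
    exact hne
  have hχH : Cfsg.classInner (fun n : H => χ n) ϑ ≠ 0 :=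
    Clifford.classInner_ne_zero_trans hTc hψ hψ1 (Subgroup.inclusion hHT) hϑc hcon
  -- compare degrees
  obtain ⟨e, he⟩ := Char.IsCharacter.classInner_nat
    (Char.IsCharacter.restrict (Char.IsIrrCharacter.isCharacter hχ) H) hϑc
  obtain ⟨e', he'⟩ := Char.IsCharacter.classInner_nat
    (Char.IsCharacter.comp hψc (Subgroup.inclusion hHT)) hϑc
  let E := Subgroup.subgroupOfEquivOfLe hHT
  haveI : (H.subgroupOf T).Normal := Subgroup.Normal.subgroupOf inferInstance T
  have hϑ' : Cfsg.IsIrrCharacter (H.subgroupOf T) (ϑ ∘ E) :=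
    Char.IsIrrCharacter.comp_surjective hϑ E.toMonoidHom E.surjective
  haveI : Fintype (H.subgroupOf T) := Fintype.ofFinite _
  have he'' : Cfsg.classInner (fun n : H.subgroupOf T => ψ n) (ϑ ∘ E) = e' := by
    rw [← he', ← Char.classInner_reindex E (ψ ∘ Subgroup.inclusion hHT) ϑ]
    rfl
  have hψdeg : ψ 1 = (e' : ℂ) * ϑ 1 := by
    have hne' : Cfsg.classInner (fun n : H.subgroupOf T => ψ n) (ϑ ∘ E) ≠ 0 := by
      rw [he'', ← he']; exact hcon
    have h := Clifford.apply_one_eq (N := H.subgroupOf T) hψ hϑ' hne' ⊤ (fun g => by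
      simp only [Subgroup.mem_top, true_iff]
      intro n
      refine Eq.trans ?_ (congrFun ((hT g).1 g.2) (E n))
      exact congrArg ϑ (Subtype.ext rfl))
    rw [Subgroup.index_top, Nat.cast_one, one_mul, he''] at h
    simpa using h
  have hle : e' ≤ e := by
    have h1 := Clifford.isCharacter_sub_of_constituent hTc hψ hψ1
    obtain ⟨a, ha⟩ := Char.IsCharacter.classInner_nat
      (Char.IsCharacter.comp h1 (Subgroup.inclusion hHT)) hϑc
    have h2 : (fun n : H => χ n) = ψ ∘ Subgroup.inclusion hHT +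
        ((fun t : T => χ t) - ψ) ∘ Subgroup.inclusion hHT :=
      funext fun n => by simp
    rw [h2, Char.classInner_add_left, he', ha, ← Nat.cast_add, Nat.cast_inj] at he
    omega
  obtain ⟨r, hr⟩ := Char.IsCharacter.apply_one_eq
    (Clifford.isCharacter_sub_of_constituent hI hχ hne)
  obtain ⟨d, hdd⟩ := Char.IsCharacter.apply_one_eq hϑc
  have hχ1 : χ 1 = (T.index : ℂ) * e * ϑ 1 := by
    rw [← he]
    exact Clifford.apply_one_eq hχ hϑ hχH T fun g => (hT g).trans funext_iff
  rw [Pi.sub_apply, Char.indFun_one, hψdeg, hχ1, hdd] at hr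
  have hr' : T.index * (e' * d) = T.index * e * d + r := by
    have h : (T.index : ℂ) * ((e' : ℂ) * d) = (T.index : ℂ) * e * d + r := by
      linear_combination hr
    exact_mod_cast h
  have hee : e' = e := by
    refine le_antisymm hle ?_
    by_contra hlt
    push_neg at hlt
    have hd0 : 0 < d := Nat.pos_of_ne_zero fun h0 =>
      Char.IsIrrCharacter.apply_one_ne_zero hϑ (by rw [hdd, h0, Nat.cast_zero])
    have hT0 : 0 < T.index := Nat.pos_of_ne_zero Subgroup.index_ne_zero_of_finite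
    have : T.index * (e' * d) < T.index * (e * d) :=
      Nat.mul_lt_mul_of_pos_left (Nat.mul_lt_mul_of_pos_right hlt hd0) hT0
    rw [mul_assoc T.index e d] at hr'
    omega
  have heq : Cfsg.indFun T ψ = χ :=
    Clifford.eq_of_constituent_of_apply_one_eq hI hχ hne
      (by rw [Char.indFun_one, hψdeg, hχ1, hee, mul_assoc])
  rw [heq]
  exact ⟨hχ, hχH⟩

/-- An induced function is fixed by an automorphism fixing the inducing data. -/
theorem indFun_apply_equiv (T : Subgroup G) (ψ : T → ℂ) (α : G ≃* G)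
    (hα : ∀ g, g ∈ T → α g ∈ T) (hψ : ∀ t t' : T, (t' : G) = α t → ψ t' = ψ t) (g : G) :
    Cfsg.indFun T ψ (α g) = Cfsg.indFun T ψ g := by
  classical
  have hmap : T.map α.toMonoidHom = T := Subgroup.eq_of_le_of_card_ge
    (fun y hy => by obtain ⟨t, ht, rfl⟩ := hy; exact hα t ht)
    (Nat.card_congr (T.equivMapOfInjective α.toMonoidHom α.injective).toEquiv).le
  have hiff : ∀ y, α y ∈ T ↔ y ∈ T := fun y => by
    refine ⟨fun h => ?_, hα y⟩
    rw [← hmap] at h
    exact (Subgroup.mem_map_iff_mem α.injective).mp h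
  have hext : ∀ y, Cfsg.extendByZero T ψ (α y) = Cfsg.extendByZero T ψ y := fun y => by
    by_cases hy : y ∈ T
    · rw [Char.extendByZero_apply_mem T ψ hy, Char.extendByZero_apply_mem T ψ (hα y hy)]
      exact hψ ⟨y, hy⟩ ⟨α y, hα y hy⟩ rfl
    · rw [Char.extendByZero_apply_notMem T ψ hy,
        Char.extendByZero_apply_notMem T ψ fun h => hy ((hiff y).mp h)]
  rw [Char.indFun_def, Char.indFun_def]
  congr 1
  refine (Fintype.sum_equiv α.toEquiv _ _ fun x => ?_).symm
  rw [← hext (x⁻¹ * g * x)]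
  simp

end Induced

/-- Averaging a cocycle of coprime order, modulo a subgroup. -/
theorem exists_average {D K : Type*} [CommGroup D] [Group K] [Fintype K] (L : Subgroup D)
    (α : K → (D →* D)) (c : K → D) (hcoc : ∀ a b, (α b (c a) * c b)⁻¹ * c (a * b) ∈ L)
    (hcop : (Fintype.card K).Coprime (Nat.card D)) :
    ∃ P, ∀ b, (α b P * c b)⁻¹ * P ∈ L := by
  obtain ⟨k, hk⟩ : ∃ k : ℕ, ∀ d : D, (d ^ Fintype.card K) ^ k = d := by
    obtain h0 | h1 | h1 : Nat.card D = 0 ∨ Nat.card D = 1 ∨ 1 < Nat.card D := by omega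
    · rw [h0, Nat.coprime_zero_right] at hcop
      exact ⟨1, fun d => by rw [hcop, pow_one, pow_one]⟩
    · exact ⟨0, fun d => (Nat.card_eq_one_iff_unique.mp h1).1.elim _ _⟩
    · obtain ⟨k, -, hk⟩ := Nat.exists_mul_mod_eq_one_of_coprime hcop h1
      refine ⟨k, fun d => ?_⟩
      rw [← pow_mul, ← pow_mod_natCard, hk, pow_one]
  refine ⟨(∏ a, c a) ^ k, fun b => ?_⟩
  have h := L.pow_mem (Subgroup.prod_mem L fun a (_ : a ∈ Finset.univ) => hcoc a b) k
  rw [Finset.prod_mul_distrib, Finset.prod_inv_distrib, Finset.prod_mul_distrib,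
    Finset.prod_const, Finset.card_univ, ← map_prod] at h
  rwa [show ∏ a, c (a * b) = ∏ a, c a from Equiv.prod_comp (Equiv.mulRight b) c, mul_pow,
    inv_pow, mul_pow, hk, ← map_pow] at h

variable {Γ : Type*} [Group Γ] [Fintype Γ]

/-- Over an invariant character, an abelian layer has a character whose stabiliser covers the
outer quotient of coprime order. -/
theorem exists_stab_sup_eq_top (G M N : Subgroup Γ) [hG : G.Normal] [hM : M.Normal]
    [hN : N.Normal] [Fintype M] [Fintype N] (hNM : N ≤ M) (hMG : M ≤ G)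
    (hab : ∀ a ∈ M, ∀ b ∈ M, (b * a)⁻¹ * (a * b) ∈ N)
    (hcop : G.index.Coprime (N.relIndex G)) (θ : Cfsg.IrrCharacter N)
    (hθ : ∀ x : Γ, Char.conjG (θ : N → ℂ) x = θ) :
    ∃ ψ : Cfsg.IrrCharacter M,
      Cfsg.classInner ((ψ : M → ℂ) ∘ Subgroup.inclusion hNM) (θ : N → ℂ) ≠ 0 ∧
      Char.stab (ψ : M → ℂ) ⊔ G = ⊤ := by
  classical
  haveI hNn : (N.subgroupOf M).Normal := Subgroup.Normal.subgroupOf inferInstance M
  set Nm := N.subgroupOf M with hNm
  haveI : Fintype Nm := Fintype.ofFinite _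
  let E := Subgroup.subgroupOfEquivOfLe hNM
  let θ' : Nm → ℂ := (θ : N → ℂ) ∘ E
  have hθ' : Cfsg.IsIrrCharacter Nm θ' :=
    Char.IsIrrCharacter.comp_surjective θ.2 E.toMonoidHom E.surjective
  have hθ'inv : ∀ (g : M) (n : Nm),
      θ' ⟨g * n * g⁻¹, hNn.conj_mem (n : M) n.2 g⟩ = θ' n :=
    fun g n => congrFun (hθ g) (E n)
  have hover : ∀ f : M → ℂ, Cfsg.classInner (fun n : Nm => f n) θ' =
      Cfsg.classInner (f ∘ Subgroup.inclusion hNM) (θ : N → ℂ) := fun f => by
    rw [← Char.classInner_reindex E (f ∘ Subgroup.inclusion hNM) (θ : N → ℂ)]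
    rfl
  -- a constituent over `θ`
  obtain ⟨ψ₀, hψ₀, hψ₀θ⟩ : ∃ ψ₀ : M → ℂ, Cfsg.IsIrrCharacter M ψ₀ ∧
      Cfsg.classInner (fun n : Nm => ψ₀ n) θ' ≠ 0 := by
    have hI := Char.IsCharacter.indFun Nm (Char.IsIrrCharacter.isCharacter hθ')
    have h0 : Cfsg.indFun Nm θ' ≠ 0 := fun h => by
      have h' := congrFun h 1
      rw [Char.indFun_one] at h'
      exact mul_ne_zero (Nat.cast_ne_zero.mpr Subgroup.index_ne_zero_of_finite)
        (Char.IsIrrCharacter.apply_one_ne_zero hθ') h'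
    obtain ⟨χ, hχ, hne⟩ := Char.IsCharacter.exists_constituent hI h0
    refine ⟨χ, hχ, ?_⟩
    rwa [Char.classInner_indFun Nm _ (Char.IsIrrCharacter.isClassFunction hχ),
      Char.IsCharacter.classInner_comm (Char.IsIrrCharacter.isCharacter hθ')
        (Char.IsCharacter.restrict (Char.IsIrrCharacter.isCharacter hχ) Nm)] at hne
  -- the dual of the layer
  let Q := M ⧸ Nm
  have hQc : ∀ x y : Q, x * y = y * x := fun x y => by
    induction x using QuotientGroup.induction_on
    induction y using QuotientGroup.induction_on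
    rename_i a b
    rw [← QuotientGroup.mk_mul, ← QuotientGroup.mk_mul, eq_comm, QuotientGroup.eq]
    exact hab a a.2 b b.2
  haveI : Finite (Q →* ℂˣ) := by
    letI : CommGroup Q := { (inferInstance : Group Q) with mul_comm := hQc }
    exact Finite.of_equiv Q
      (CommGroup.monoidHom_mulEquiv_of_hasEnoughRootsOfUnity Q ℂ).some.toEquiv.symm
  haveI : Fintype (Q →* ℂˣ) := Fintype.ofFinite _
  have hcardD : Nat.card (Q →* ℂˣ) = N.relIndex M := by
    letI : CommGroup Q := { (inferInstance : Group Q) with mul_comm := hQc }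
    exact CommGroup.card_monoidHom_of_hasEnoughRootsOfUnity Q ℂ
  have hsep : ∀ q : Q, q ≠ 1 → ∃ φ : Q →* ℂˣ, φ q ≠ 1 := by
    letI : CommGroup Q := { (inferInstance : Group Q) with mul_comm := hQc }
    intro q hq
    exact CommGroup.exists_apply_ne_one_of_hasEnoughRootsOfUnity Q ℂ hq
  obtain ⟨tw, htw⟩ : ∃ tw : (Q →* ℂˣ) → (M → ℂ) → M → ℂ,
      ∀ l f x, tw l f x = (l (QuotientGroup.mk' Nm x) : ℂ) * f x := ⟨_, fun _ _ _ => rfl⟩
  have tw_mul : ∀ l l' f, tw l (tw l' f) = tw (l * l') f := fun l l' f => funext fun x => by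
    rw [htw, htw, htw, MonoidHom.mul_apply, Units.val_mul, mul_assoc]
  have tw_irr : ∀ l f, Cfsg.IsIrrCharacter M f → Cfsg.IsIrrCharacter M (tw l f) := fun l f hf => by
    rw [show tw l f = fun x => ((l.comp (QuotientGroup.mk' Nm)) x : ℂ) * f x from
      funext (htw l f)]
    exact isIrrCharacter_hom_mul _ hf
  have sum_dual : ∀ q : Q, ∑ l : Q →* ℂˣ, conj (l q : ℂ) =
      if q = 1 then (Nat.card Q : ℂ) else 0 := by
    intro q
    split_ifs with hq
    · subst hq
      simp only [map_one, Units.val_one, map_one, Finset.sum_const, Finset.card_univ,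
        nsmul_eq_mul, mul_one]
      rw [← Nat.card_eq_fintype_card, hcardD]
      rfl
    · obtain ⟨φ, hφ⟩ := hsep q hq
      have h1 : ∑ l : Q →* ℂˣ, conj (l q : ℂ) =
          conj (φ q : ℂ) * ∑ l : Q →* ℂˣ, conj (l q : ℂ) := by
        rw [Finset.mul_sum, ← Equiv.sum_comp (Equiv.mulLeft φ) fun l : Q →* ℂˣ => conj (l q : ℂ)]
        refine Finset.sum_congr rfl fun l _ => ?_
        rw [Equiv.coe_mulLeft, MonoidHom.mul_apply, Units.val_mul, map_mul]
      by_contra h0
      refine hφ (Units.ext ?_)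
      have h2 := (mul_eq_right₀ h0).mp h1.symm
      rw [← Complex.conj_conj (φ q : ℂ), h2, map_one, Units.val_one]
  -- the twists are transitive over `θ`
  have trans : ∀ f : M → ℂ, Cfsg.IsIrrCharacter M f →
      Cfsg.classInner (fun n : Nm => f n) θ' ≠ 0 → ∃ l, tw l ψ₀ = f := by
    intro f hf hfθ
    obtain ⟨e, he0, -, he⟩ := Clifford.restrict_eq_smul Nm hf hθ' hfθ hθ'inv
    obtain ⟨e₀, he₀0, -, he₀⟩ := Clifford.restrict_eq_smul Nm hψ₀ hθ' hψ₀θ hθ'inv
    by_contra hno
    push Not at hno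
    have hz : ∑ l, Cfsg.classInner f (tw l ψ₀) = 0 :=
      Finset.sum_eq_zero fun l _ =>
        Char.classInner_irr_ne hf (tw_irr l _ hψ₀) fun h => hno l h.symm
    have hz2 : ∑ x : M, f x * conj (ψ₀ x) *
        ∑ l : Q →* ℂˣ, conj (l (QuotientGroup.mk' Nm x) : ℂ) = 0 := by
      have h := hz
      unfold Cfsg.classInner at h
      rw [← Finset.mul_sum, mul_eq_zero] at h
      rw [← h.resolve_left (inv_ne_zero Char.card_ne_zero), Finset.sum_comm]
      refine Finset.sum_congr rfl fun x _ => ?_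
      rw [Finset.mul_sum]
      refine Finset.sum_congr rfl fun l _ => ?_
      rw [htw, map_mul]
      ring
    simp only [sum_dual, QuotientGroup.mk'_apply, QuotientGroup.eq_one_iff, mul_ite,
      mul_zero] at hz2
    rw [Finset.sum_ite, Finset.sum_const_zero, add_zero, ← Finset.sum_mul,
      ← Finset.sum_subtype_eq_sum_filter, mul_eq_zero] at hz2
    have hθ1 := Char.classInner_irr_self hθ'
    unfold Cfsg.classInner at hθ1
    rcases hz2 with h | h
    · have hs : ∑ n : Nm, f n * conj (ψ₀ n) = ((e : ℂ) * e₀) * ∑ n, θ' n * conj (θ' n) := by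
        rw [Finset.mul_sum]
        refine Finset.sum_congr rfl fun n _ => ?_
        rw [show f n = _ from congrFun he n, show ψ₀ n = _ from congrFun he₀ n, Pi.smul_apply,
          Pi.smul_apply, smul_eq_mul, smul_eq_mul, map_mul, Complex.conj_natCast]
        ring
      have h' : ∑ n : Nm, f n * conj (ψ₀ n) = 0 := by
        rw [← h]
        refine Finset.sum_bij' (fun n _ => ⟨(n : M), (QuotientGroup.eq_one_iff _).mpr n.2⟩)
          (fun n _ => ⟨n.1, (QuotientGroup.eq_one_iff _).mp n.2⟩) ?_ ?_ ?_ ?_ ?_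
          <;> simp
      rw [hs, mul_eq_zero] at h'
      rcases h' with h' | h'
      · exact mul_ne_zero (Nat.cast_ne_zero.mpr he0) (Nat.cast_ne_zero.mpr he₀0) h'
      · rw [h', mul_zero] at hθ1
        exact zero_ne_one hθ1
    · exact Char.card_ne_zero (G := Q) h
  -- a complement of `G` modulo `M`
  let mk := QuotientGroup.mk' M
  haveI : (G.map mk).Normal := hG.map mk (QuotientGroup.mk'_surjective M)
  have hidx : (G.map mk).index = G.index := Subgroup.index_map_eq (H := G)
    (QuotientGroup.mk'_surjective M) (by rw [QuotientGroup.ker_mk']; exact hMG)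
  have hcard : Nat.card (G.map mk) = M.relIndex G := by
    rw [← Subgroup.relIndex_ker, QuotientGroup.ker_mk']
  have hmul := Subgroup.relIndex_mul_relIndex N M G hNM hMG
  obtain ⟨Kc, hKc⟩ := Subgroup.exists_left_complement'_of_coprime (N := G.map mk) (by
    rw [hcard, hidx]
    exact (hcop.of_dvd_right (Dvd.intro_left _ hmul)).symm)
  have hKcard : Nat.card Kc = G.index := by rw [← hKc.index_eq_card, hidx]
  haveI : Fintype Kc := Fintype.ofFinite _
  obtain ⟨r, hr⟩ : ∃ r : Kc → Γ, ∀ a, mk (r a) = a :=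
    ⟨fun a => (a : Γ ⧸ M).out, fun a => QuotientGroup.out_eq' _⟩
  have hψ₀r : ∀ a b : Kc, Char.conjG ψ₀ (r (a * b)) = Char.conjG (Char.conjG ψ₀ (r a)) (r b) := by
    intro a b
    have hm : r (a * b) * (r a * r b)⁻¹ ∈ M := by
      rw [← QuotientGroup.eq_one_iff]
      show mk (r (a * b) * (r a * r b)⁻¹) = 1
      rw [map_mul, map_inv, map_mul, hr, hr, hr, Subgroup.coe_mul, mul_inv_cancel]
    rw [Char.conjG_mul]
    conv_lhs => rw [show r (a * b) = r (a * b) * (r a * r b)⁻¹ * (r a * r b) by group,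
      ← Char.conjG_mul, Char.conjG_of_mem (Char.IsIrrCharacter.isClassFunction hψ₀) hm]
  have hconjθ : ∀ (f : M → ℂ) (x : Γ),
      Cfsg.classInner (Char.conjG f x ∘ Subgroup.inclusion hNM) (θ : N → ℂ) =
        Cfsg.classInner (f ∘ Subgroup.inclusion hNM) (θ : N → ℂ) := fun f x => by
    conv_lhs => rw [← hθ x]
    exact Char.classInner_conjG (f ∘ Subgroup.inclusion hNM) (θ : N → ℂ) x
  have hc : ∀ a : Kc, ∃ l, tw l ψ₀ = Char.conjG ψ₀ (r a) := fun a =>
    trans _ (Char.IsIrrCharacter.conjG hψ₀ _) (by rw [hover, hconjθ, ← hover]; exact hψ₀θ)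
  choose c hc using hc
  -- conjugation on the dual
  have hcq : ∀ x : Γ, Nm ≤ Nm.comap (MulAut.conjNormal x : MulAut M).toMonoidHom := fun x n hn => by
    show x * ((n : M) : Γ) * x⁻¹ ∈ N
    exact hN.conj_mem _ hn x
  let act : Γ → (Q →* ℂˣ) → (Q →* ℂˣ) := fun x l => l.comp (QuotientGroup.map Nm Nm _ (hcq x))
  have act_mul : ∀ x l l', act x (l * l') = act x l * act x l' := fun x l l' =>
    MonoidHom.ext fun q => rfl
  have act_one : ∀ x, act x 1 = 1 := fun x => MonoidHom.ext fun q => rfl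
  have conj_tw : ∀ x l f, Char.conjG (tw l f) x = tw (act x l) (Char.conjG f x) := fun x l f =>
    funext fun y => by
      rw [Char.conjG_apply, htw, htw, Char.conjG_apply]
      rfl
  let L : Subgroup (Q →* ℂˣ) :=
    { carrier := {l | tw l ψ₀ = ψ₀}
      one_mem' := funext fun x => by rw [htw, MonoidHom.one_apply, Units.val_one, one_mul]
      mul_mem' := fun {l l'} (h : tw l ψ₀ = ψ₀) (h' : tw l' ψ₀ = ψ₀) => by
        show tw (l * l') ψ₀ = ψ₀
        rw [← tw_mul, h', h]
      inv_mem' := fun {l} (h : tw l ψ₀ = ψ₀) => by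
        show tw l⁻¹ ψ₀ = ψ₀
        conv_lhs => rw [← h]
        rw [tw_mul, show l⁻¹ * l = 1 from MonoidHom.ext fun q => by
          rw [MonoidHom.mul_apply, MonoidHom.inv_apply, inv_mul_cancel, MonoidHom.one_apply]]
        exact funext fun x => by rw [htw, MonoidHom.one_apply, Units.val_one, one_mul] }
  have hcoc : ∀ a b : Kc, (act (r b) (c a) * c b)⁻¹ * c (a * b) ∈ L := fun a b => by
    show tw _ ψ₀ = ψ₀
    have h : tw (act (r b) (c a) * c b) ψ₀ = tw (c (a * b)) ψ₀ := by
      rw [← tw_mul, hc, ← conj_tw, hc, hc, hψ₀r]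
    rw [← tw_mul, ← h, tw_mul]
    exact funext fun x => by
      rw [htw, MonoidHom.mul_apply, MonoidHom.inv_apply, inv_mul_cancel, Units.val_one, one_mul]
  -- averaging
  have hco : (G.index).Coprime (Nat.card (Q →* ℂˣ)) :=
    hcardD ▸ hcop.of_dvd_right (Dvd.intro _ hmul)
  let α : Kc → ((Q →* ℂˣ) →* (Q →* ℂˣ)) := fun b =>
    { toFun := act (r b), map_one' := act_one _, map_mul' := act_mul _ }
  obtain ⟨P, hP⟩ := exists_average L α c hcoc (by rw [← Nat.card_eq_fintype_card, hKcard]; exact hco)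
  have hfix : ∀ b : Kc, Char.conjG (tw P ψ₀) (r b) = tw P ψ₀ := fun b => by
    have h : tw ((α b P * c b)⁻¹ * P) ψ₀ = ψ₀ := hP b
    rw [conj_tw, ← hc, tw_mul]
    conv_rhs => rw [show P = α b P * c b * ((α b P * c b)⁻¹ * P) from (mul_inv_cancel_left (α b P * c b) P).symm,
      ← tw_mul, h]
    rfl
  refine ⟨⟨tw P ψ₀, tw_irr _ _ hψ₀⟩, ?_, ?_⟩
  · rw [hover] at hψ₀θ
    convert hψ₀θ using 2
    funext n
    show tw P ψ₀ (Subgroup.inclusion hNM n) = ψ₀ (Subgroup.inclusion hNM n)
    rw [htw, show QuotientGroup.mk' Nm (Subgroup.inclusion hNM n) = 1 from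
      (QuotientGroup.eq_one_iff _).mpr n.2, map_one, Units.val_one, one_mul]
  · rw [eq_top_iff]
    intro x _
    have hx : mk x ∈ G.map mk ⊔ Kc := by rw [sup_comm, hKc.sup_eq_top]; trivial
    obtain ⟨g', hg', s, hs, hgs⟩ := Subgroup.mem_sup_of_normal_left.mp hx
    obtain ⟨g, hg, rfl⟩ := hg'
    have hmem : r ⟨s, hs⟩ ∈ Char.stab (tw P ψ₀) := hfix _
    have hm : g⁻¹ * x * (r ⟨s, hs⟩)⁻¹ ∈ M := by
      rw [← QuotientGroup.eq_one_iff]
      show mk (g⁻¹ * x * (r ⟨s, hs⟩)⁻¹) = 1
      rw [map_mul, map_mul, map_inv, map_inv, hr, ← hgs]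
      group
    have hm' : g⁻¹ * x * (r ⟨s, hs⟩)⁻¹ ∈ Char.stab (tw P ψ₀) :=
      Char.le_stab (Char.IsIrrCharacter.isClassFunction (tw_irr _ _ hψ₀)) hm
    rw [show x = g * (g⁻¹ * x * (r ⟨s, hs⟩)⁻¹ * r ⟨s, hs⟩) by group]
    exact Subgroup.mul_mem _ (Subgroup.mem_sup_right hg)
      (Subgroup.mem_sup_left (Subgroup.mul_mem _ hm' hmem))

end CfsgLib.CharDeep.Glauberman.InvConst
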