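import Cfsg.Agent.Lib.Char.Integral
import Mathlib.GroupTheory.PGroup
import Mathlib.Data.Int.ModEq
import Mathlib.Tactic.LinearCombination

/-!
# Congruences of algebraic integers modulo a prime, and sums over orbits of a `p`-group
-/

set_option autoImplicit false

namespace CfsgLib.CharDeep.Glauberman

/-- `x` and `y` differ by `p` times an algebraic integer. -/
def Cong (p : ℕ) (x y : ℂ) : Prop := ∃ z : ℂ, IsIntegral ℤ z ∧ x - y = p * z

namespace Cong

variable {p : ℕ} {x y z x' y' : ℂ}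

protected theorem refl (x : ℂ) : Cong p x x := ⟨0, isIntegral_zero, by ring⟩

protected theorem symm (h : Cong p x y) : Cong p y x := by
  obtain ⟨w, hw, e⟩ := h
  exact ⟨-w, hw.neg, by linear_combination -e⟩

protected theorem trans (h : Cong p x y) (h' : Cong p y z) : Cong p x z := by
  obtain ⟨w, hw, e⟩ := h
  obtain ⟨w', hw', e'⟩ := h'
  exact ⟨w + w', hw.add hw', by linear_combination e + e'⟩

protected theorem add (h : Cong p x y) (h' : Cong p x' y') : Cong p (x + x') (y + y') := by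
  obtain ⟨w, hw, e⟩ := h
  obtain ⟨w', hw', e'⟩ := h'
  exact ⟨w + w', hw.add hw', by linear_combination e + e'⟩

protected theorem sub (h : Cong p x y) (h' : Cong p x' y') : Cong p (x - x') (y - y') := by
  obtain ⟨w, hw, e⟩ := h
  obtain ⟨w', hw', e'⟩ := h'
  exact ⟨w - w', hw.sub hw', by linear_combination e - e'⟩

theorem mul_right {a : ℂ} (h : Cong p x y) (ha : IsIntegral ℤ a) : Cong p (x * a) (y * a) := by
  obtain ⟨w, hw, e⟩ := h
  exact ⟨w * a, hw.mul ha, by linear_combination a * e⟩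

theorem mul_left {a : ℂ} (h : Cong p x y) (ha : IsIntegral ℤ a) : Cong p (a * x) (a * y) := by
  rw [mul_comm a, mul_comm a]
  exact h.mul_right ha

theorem sum {ι : Type*} (s : Finset ι) {f g : ι → ℂ} (h : ∀ i ∈ s, Cong p (f i) (g i)) :
    Cong p (∑ i ∈ s, f i) (∑ i ∈ s, g i) := by
  classical
  induction s using Finset.induction with
  | empty => exact Cong.refl _
  | @insert a t ha ih =>
    rw [Finset.sum_insert ha, Finset.sum_insert ha]
    exact (h a (Finset.mem_insert_self a t)).add (ih fun i hi => h i (Finset.mem_insert_of_mem hi))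

theorem of_eq_mul {w : ℂ} (hw : IsIntegral ℤ w) (h : x - y = p * w) : Cong p x y := ⟨w, hw, h⟩

theorem int_iff (hp : p ≠ 0) (a b : ℤ) : Cong p (a : ℂ) (b : ℂ) ↔ (a : ℤ) ≡ b [ZMOD p] := by
  constructor
  · rintro ⟨w, hw, e⟩
    have hp' : (p : ℂ) ≠ 0 := Nat.cast_ne_zero.mpr hp
    obtain ⟨n, hn⟩ := Char.exists_int_of_isIntegral_rat hw (q := ((a - b : ℤ) : ℚ) / (p : ℚ))
      (by push_cast; field_simp; linear_combination -e)
    rw [hn, ← Int.cast_natCast (R := ℂ), ← Int.cast_sub, ← Int.cast_mul, Int.cast_inj] at e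
    exact (Int.modEq_iff_dvd.mpr ⟨-n, by linear_combination -e⟩)
  · intro h
    obtain ⟨n, hn⟩ := Int.modEq_iff_dvd.mp h
    refine ⟨-(n : ℂ), ((isIntegral_algebraMap (R := ℤ) (A := ℂ) (x := n))).neg, ?_⟩
    have h' := congrArg (Int.cast : ℤ → ℂ) hn
    push_cast at h'
    linear_combination -h'

theorem nat_iff (hp : p ≠ 0) (a b : ℕ) : Cong p (a : ℂ) (b : ℂ) ↔ a ≡ b [MOD p] := by
  rw [← Int.natCast_modEq_iff, ← int_iff hp]
  simp

theorem nat_zero_iff (hp : p ≠ 0) (a : ℕ) : Cong p (a : ℂ) 0 ↔ p ∣ a := by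
  rw [← Nat.cast_zero, nat_iff hp, Nat.modEq_zero_iff_dvd]

end Cong

theorem isIntegral_natCast (n : ℕ) : IsIntegral ℤ (n : ℂ) := by
  simpa using isIntegral_algebraMap (R := ℤ) (A := ℂ) (x := (n : ℤ))

section Orbit

variable {P : Type*} [Group P] {p : ℕ} [Fact p.Prime] (hP : IsPGroup p P) {X : Type*}
  (π : P →* Equiv.Perm X)
include hP

theorem cong_sum_invariant (f : X → ℂ) (hint : ∀ x, IsIntegral ℤ (f x))
    (hinv : ∀ s x, f (π s x) = f x) [DecidablePred fun x => ∀ s, π s x = x] :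
    ∀ t : Finset X, (∀ s, ∀ x ∈ t, π s x ∈ t) →
      Cong p (∑ x ∈ t, f x) (∑ x ∈ t with (∀ s, π s x = x), f x) := by
  classical
  intro t
  induction t using Finset.strongInduction with
  | H t ih =>
    intro ht
    by_cases hall : ∀ x ∈ t, ∀ s, π s x = x
    · rw [Finset.filter_true_of_mem hall]
      exact Cong.refl _
    push Not at hall
    obtain ⟨x₀, hx₀, s₀, hs₀⟩ := hall
    letI : MulAction P X := MulAction.compHom X π
    have hsub : ∀ y ∈ MulAction.orbit P x₀, y ∈ t := by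
      rintro y ⟨s, rfl⟩
      exact ht s x₀ hx₀
    let O : Finset X := t.filter fun y => y ∈ MulAction.orbit P x₀
    have hO : ∀ y, y ∈ O ↔ y ∈ MulAction.orbit P x₀ := fun y => by
      simp only [O, Finset.mem_filter]
      exact ⟨fun h => h.2, fun h => ⟨hsub y h, h⟩⟩
    haveI : Finite (MulAction.orbit P x₀) :=
      Finite.of_injective (fun y => (⟨y.1, (hO y.1).mpr y.2⟩ : O)) fun a b h =>
        Subtype.ext (congrArg (fun z : O => (z : X)) h)
    obtain ⟨k, hk⟩ := hP.card_orbit x₀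
    have hcard : O.card = p ^ k := by
      rw [← hk, ← Nat.card_eq_finsetCard]
      exact Nat.card_congr (Equiv.subtypeEquivRight hO)
    have hk0 : k ≠ 0 := by
      rintro rfl
      rw [pow_zero, Finset.card_eq_one] at hcard
      obtain ⟨a, ha⟩ := hcard
      have h1 : x₀ = a := Finset.mem_singleton.mp (ha ▸ (hO x₀).mpr (MulAction.mem_orbit_self x₀))
      have h2 : π s₀ x₀ = a :=
        Finset.mem_singleton.mp (ha ▸ (hO _).mpr (MulAction.mem_orbit x₀ s₀))
      exact hs₀ (h2.trans h1.symm)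
    have hOsum : ∑ y ∈ O, f y = (p : ℂ) * ((p : ℂ) ^ (k - 1) * f x₀) := by
      rw [Finset.sum_congr rfl fun y hy => show f y = f x₀ by
        obtain ⟨s, rfl⟩ := (hO y).mp hy
        exact hinv s x₀, Finset.sum_const, hcard, nsmul_eq_mul, ← mul_assoc, ← pow_succ',
        Nat.sub_add_cancel (Nat.pos_of_ne_zero hk0), Nat.cast_pow]
    have hlt : t \ O ⊂ t := Finset.sdiff_ssubset (Finset.filter_subset _ _)
      ⟨x₀, (hO x₀).mpr (MulAction.mem_orbit_self x₀)⟩
    have hinvt : ∀ s, ∀ y ∈ t \ O, π s y ∈ t \ O := by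
      intro s y hy
      simp only [Finset.mem_sdiff, hO] at hy ⊢
      exact ⟨ht s y hy.1, fun h => hy.2 (MulAction.orbit_eq_iff.mpr h ▸ by
        exact (MulAction.mem_orbit_symm.mp (MulAction.mem_orbit y s)))⟩
    have hfilt : (t \ O).filter (fun y => ∀ s, π s y = y) = t.filter fun y => ∀ s, π s y = y := by
      ext y
      simp only [Finset.mem_filter, Finset.mem_sdiff, hO]
      refine ⟨fun h => ⟨h.1.1, h.2⟩, fun h => ⟨⟨h.1, ?_⟩, h.2⟩⟩
      rintro ⟨s, rfl⟩
      refine hs₀ ?_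
      have hx : π s x₀ = x₀ := by
        have h' := h.2 s⁻¹
        change π s⁻¹ (π s x₀) = π s x₀ at h'
        rw [← Equiv.Perm.mul_apply, ← map_mul, inv_mul_cancel, map_one, Equiv.Perm.one_apply] at h'
        exact h'.symm
      have h'' := h.2 s₀
      change π s₀ (π s x₀) = π s x₀ at h''
      rwa [hx] at h''
    rw [← Finset.sum_sdiff (Finset.filter_subset _ _ : O ⊆ t), ← hfilt]
    refine ((ih _ hlt hinvt).add (Cong.refl _)).trans ?_
    rw [hOsum]
    exact Cong.of_eq_mul ((isIntegral_natCast p).pow (k - 1) |>.mul (hint x₀)) (by ring)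

theorem cong_sum_fixed [Fintype X] [DecidablePred fun x => ∀ s, π s x = x] (f : X → ℂ)
    (hint : ∀ x, IsIntegral ℤ (f x)) (hinv : ∀ s x, f (π s x) = f x) :
    Cong p (∑ x, f x) (∑ x with (∀ s, π s x = x), f x) :=
  cong_sum_invariant hP π f hint hinv Finset.univ fun _ _ _ => Finset.mem_univ _

/-- An invariant weight with total prime to `p` is prime to `p` at some fixed point. -/
theorem exists_fixed_weight [Fintype X] (w : X → ℕ) (hinv : ∀ s x, w (π s x) = w x)
    (h : ¬ p ∣ ∑ x, w x) : ∃ x, (∀ s, π s x = x) ∧ ¬ p ∣ w x := by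
  classical
  by_contra hc
  push Not at hc
  apply h
  have h1 := cong_sum_fixed hP π (fun x => (w x : ℂ)) (fun x => isIntegral_natCast _)
    (fun s x => by rw [hinv])
  rw [← Nat.cast_sum, ← Nat.cast_sum, Cong.nat_iff (Fact.out : p.Prime).ne_zero] at h1
  exact Nat.modEq_zero_iff_dvd.mp (h1.trans (Nat.modEq_zero_iff_dvd.mpr
    (Finset.dvd_sum fun x hx => hc x (Finset.mem_filter.mp hx).2)))

end Orbit

end CfsgLib.CharDeep.Glauberman
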