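import Cfsg.Agent.Lib.CharDeep.Glauberman.Correspondence
import Cfsg.Agent.Lib.CharDeep.Clifford
import Cfsg.Agent.Lib.Solvable.Basic

/-!
# Solvable groups of operators of coprime order

The number of invariant characters is the number of invariant classes, and an invariant character
of an invariant normal subgroup lies under an invariant character of the group.
-/

set_option autoImplicit false

namespace CfsgLib.CharDeep.Glauberman

open CfsgLib
open scoped ComplexConjugate

universe u v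

variable {S : Type v} {G : Type u} [Group S] [Group G]

/-- The fixed points of the operators. -/
def fixSub (φ : S →* MulAut G) : Subgroup G where
  carrier := {g | ∀ s, φ s g = g}
  one_mem' := fun s => map_one (φ s)
  mul_mem' := fun {a b} ha hb s => by rw [map_mul, ha s, hb s]
  inv_mem' := fun {a} ha s => by rw [map_inv, ha s]

theorem mem_fixSub {φ : S →* MulAut G} {g : G} : g ∈ fixSub φ ↔ ∀ s, φ s g = g := Iff.rfl

/-- The restriction of the operators to an invariant subgroup. -/
def resAut (φ : S →* MulAut G) (N : Subgroup G) (h : ∀ s, ∀ g ∈ N, φ s g ∈ N) : S →* MulAut N where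
  toFun s :=
    { toFun := fun n => ⟨φ s n, h s n n.2⟩
      invFun := fun n => ⟨φ s⁻¹ n, h s⁻¹ n n.2⟩
      left_inv := fun n => Subtype.ext (by simp)
      right_inv := fun n => Subtype.ext (by simp)
      map_mul' := fun a b => Subtype.ext (by simp) }
  map_one' := MulEquiv.ext fun n => Subtype.ext (by simp)
  map_mul' s t := MulEquiv.ext fun n => Subtype.ext (by simp)

theorem resAut_apply (φ : S →* MulAut G) (N : Subgroup G) (h : ∀ s, ∀ g ∈ N, φ s g ∈ N) (s : S)
    (n : N) : ((resAut φ N h s n : N) : G) = φ s n := rfl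

theorem fixSub_invariant (φ : S →* MulAut G) (T : Subgroup S) [hT : T.Normal] :
    ∀ s, ∀ g ∈ fixSub (φ.comp T.subtype), φ s g ∈ fixSub (φ.comp T.subtype) := by
  intro s g hg t
  show φ (t : S) (φ s g) = φ s g
  have h : φ (s⁻¹ * t * s) g = g := hg ⟨s⁻¹ * t * s, hT.conj_mem' _ t.2 s⟩
  calc φ (t : S) (φ s g) = φ (s * (s⁻¹ * t * s)) g := by
        rw [← MulAut.mul_apply, ← map_mul]; congr 2; group
    _ = φ s g := by rw [map_mul, MulAut.mul_apply, h]

/-- The action induced on the fixed points of a normal subgroup of operators. -/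
def quotAut (φ : S →* MulAut G) (T : Subgroup S) [T.Normal] :
    S ⧸ T →* MulAut (fixSub (φ.comp T.subtype)) :=
  QuotientGroup.lift T (resAut φ _ (fixSub_invariant φ T)) fun t ht =>
    MulEquiv.ext fun g => Subtype.ext (g.2 ⟨t, ht⟩)

theorem quotAut_mk (φ : S →* MulAut G) (T : Subgroup S) [T.Normal] (s : S)
    (g : fixSub (φ.comp T.subtype)) : quotAut φ T s g = resAut φ _ (fixSub_invariant φ T) s g :=
  rfl

theorem setup_fixSub [Finite G] {p : ℕ} (hp : p.Prime) (φ : S →* MulAut G) {T : Subgroup S}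
    (hT : IsPGroup p T) (hnd : ¬ p ∣ Nat.card G) :
    Setup p (φ.comp T.subtype) (fixSub (φ.comp T.subtype)).subtype where
  prime := hp
  pgroup := hT
  inj := Subtype.val_injective
  range_iff g := ⟨fun h => ⟨⟨g, h⟩, rfl⟩, by rintro ⟨c, rfl⟩; exact c.2⟩
  not_dvd := hnd

/-- A class is invariant under the operators. -/
def InvClass (φ : S →* MulAut G) (K : ConjClasses G) : Prop :=
  ∀ s g, ConjClasses.mk g = K → ConjClasses.mk (φ s g) = K

theorem invClass_mk {φ : S →* MulAut G} {g : G} :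
    InvClass φ (ConjClasses.mk g) ↔ ∀ s, IsConj (φ s g) g := by
  refine ⟨fun h s => ConjClasses.mk_eq_mk_iff_isConj.mp (h s g rfl), fun h s x hx => ?_⟩
  rw [ConjClasses.mk_eq_mk_iff_isConj] at hx ⊢
  exact ((φ s).toMonoidHom.map_isConj hx).trans (h s)

/-- The data of a step in the induction on the group of operators. -/
theorem exists_step [Finite S] [Finite G] [Group.IsSolvable S] (φ : S →* MulAut G)
    (hcop : (Nat.card G).Coprime (Nat.card S)) (hS : Nat.card S ≠ 1) :
    ∃ (T : Subgroup S) (p : ℕ), T.Normal ∧ Nat.card (S ⧸ T) < Nat.card S ∧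
      Setup p (φ.comp T.subtype) (fixSub (φ.comp T.subtype)).subtype ∧
      (Nat.card (fixSub (φ.comp T.subtype))).Coprime (Nat.card (S ⧸ T)) := by
  have htop : (⊤ : Subgroup S) ≠ ⊥ := fun h => hS (by
    rw [← Subgroup.card_top (G := S), h, Subgroup.card_bot])
  obtain ⟨T, p, hp, hTn, hT, -, -, hTp, -⟩ :=
    Solvable.Basic.exists_minimal_normal_pgroup (H := (⊤ : Subgroup S)) htop
  haveI := hTn
  refine ⟨T, p, hTn, Solvable.Basic.card_quotient_lt T hT, setup_fixSub hp φ hTp fun hd => ?_, ?_⟩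
  · haveI : Fact p.Prime := ⟨hp⟩
    haveI : Nontrivial T := (Subgroup.nontrivial_iff_ne_bot T).mpr hT
    obtain ⟨n, hn0, hn⟩ := IsPGroup.nontrivial_iff_card hTp |>.mp inferInstance
    have hdS : p ∣ Nat.card S :=
      (hn ▸ dvd_pow_self p hn0.ne' : p ∣ Nat.card T).trans (Subgroup.card_subgroup_dvd_card T)
    exact hp.not_dvd_one (hcop.gcd_eq_one ▸ Nat.dvd_gcd hd hdS)
  · exact (hcop.of_dvd_left (Subgroup.card_subgroup_dvd_card _)).of_dvd_right
      ((Subgroup.index_eq_card T) ▸ T.index_dvd_card)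

/-- The correspondent is natural in the operators. -/
theorem corr_natural [Fintype G] {p : ℕ} {φ : S →* MulAut G} {T : Subgroup S} [T.Normal]
    [Fintype (fixSub (φ.comp T.subtype))]
    (hs : Setup p (φ.comp T.subtype) (fixSub (φ.comp T.subtype)).subtype)
    {χ : Cfsg.IrrCharacter G} (hχ : Inv (φ.comp T.subtype) (χ : G → ℂ))
    {β : Cfsg.IrrCharacter (fixSub (φ.comp T.subtype))}
    (h : ¬ p ∣ mult (fixSub (φ.comp T.subtype)).subtype χ β) :
    Inv φ (χ : G → ℂ) ↔
      Inv (quotAut φ T) (β : fixSub (φ.comp T.subtype) → ℂ) := by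
  have hT : T.Normal := inferInstance
  have key : ∀ s : S, ¬ p ∣ mult (fixSub (φ.comp T.subtype)).subtype
      ⟨(χ : G → ℂ) ∘ (φ s), Char.IsIrrCharacter.comp_equiv χ.2 (φ s)⟩
      ⟨(β : (fixSub (φ.comp T.subtype)) → ℂ) ∘ (resAut φ (fixSub (φ.comp T.subtype)) (fixSub_invariant φ T) s),
        Char.IsIrrCharacter.comp_equiv β.2 _⟩ := by
    intro s
    rwa [mult_comp_equiv (φ s) (resAut φ (fixSub (φ.comp T.subtype)) (fixSub_invariant φ T) s) (fun c => rfl) (χ := χ)
      (β := β) (fun g => rfl) (fun c => rfl)]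
  constructor
  · intro hinv
    intro q
    induction q using QuotientGroup.induction_on with
    | H s =>
      intro c
      have h1 := key s
      rw [show (⟨(χ : G → ℂ) ∘ (φ s), Char.IsIrrCharacter.comp_equiv χ.2 (φ s)⟩ :
        Cfsg.IrrCharacter G) = χ from Subtype.ext (funext fun g => hinv s g)] at h1
      have h2 := congrArg (fun b : Cfsg.IrrCharacter (fixSub (φ.comp T.subtype)) => (b : (fixSub (φ.comp T.subtype)) → ℂ) c) (hs.mult_unique hχ h1 h)
      exact h2
  · intro hinv s g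
    have h1 := key s
    rw [show (⟨(β : (fixSub (φ.comp T.subtype)) → ℂ) ∘ (resAut φ (fixSub (φ.comp T.subtype)) (fixSub_invariant φ T) s),
      Char.IsIrrCharacter.comp_equiv β.2 _⟩ : Cfsg.IrrCharacter (fixSub (φ.comp T.subtype))) = β from
      Subtype.ext (funext fun c => hinv (s : S ⧸ T) c)] at h1
    have hinv' : Inv (φ.comp T.subtype) ((χ : G → ℂ) ∘ (φ s)) := fun t g => by
      show (χ : G → ℂ) (φ s (φ (t : S) g)) = (χ : G → ℂ) (φ s g)
      have : φ s (φ (t : S) g) = φ (s * t * s⁻¹) (φ s g) := by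
        rw [← MulAut.mul_apply, ← MulAut.mul_apply, ← map_mul, ← map_mul]; congr 2; group
      rw [this]
      exact hχ ⟨s * t * s⁻¹, hT.conj_mem _ t.2 s⟩ _
    exact congrArg (fun b : Cfsg.IrrCharacter G => (b : G → ℂ) g) (hs.inv_unique
      (χ := ⟨(χ : G → ℂ) ∘ (φ s), Char.IsIrrCharacter.comp_equiv χ.2 (φ s)⟩) hinv' hχ h1 h)

theorem card_inv_aux (n : ℕ) : ∀ (S : Type v) [Group S] [Finite S] [Group.IsSolvable S],
    Nat.card S = n → ∀ (G : Type u) [Group G] [Fintype G] (φ : S →* MulAut G),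
      (Nat.card G).Coprime (Nat.card S) →
      Nat.card {χ : Cfsg.IrrCharacter G // Inv φ (χ : G → ℂ)} =
        Nat.card {K : ConjClasses G // InvClass φ K} := by
  induction n using Nat.strong_induction_on with
  | _ n ih =>
  intro S _ _ _ hn G _ _ φ hcop
  by_cases hS : Nat.card S = 1
  · haveI : Subsingleton S := (Nat.card_eq_one_iff_unique.mp hS).1
    have htriv : ∀ s g, φ s g = g := fun s g => by
      rw [Subsingleton.elim s 1, map_one]; rfl
    rw [Nat.card_congr (Equiv.subtypeUnivEquiv (p := fun χ : Cfsg.IrrCharacter G => Inv φ (χ : G → ℂ))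
        fun χ => fun s g => by rw [htriv]),
      Nat.card_congr (Equiv.subtypeUnivEquiv (p := fun K : ConjClasses G => InvClass φ K)
        fun K => fun s g hg => by rw [htriv]; exact hg), Char.card_irrCharacter]
  obtain ⟨T, p, hTn, hlt, hs, hcop'⟩ := exists_step φ hcop hS
  haveI := hTn
  set C := fixSub (φ.comp T.subtype) with hC
  haveI : Fintype C := Fintype.ofFinite C
  have h1 := ih _ (hn ▸ hlt) (S ⧸ T) rfl C (quotAut φ T) hcop'
  have hTinv : ∀ χ : Cfsg.IrrCharacter G, Inv φ (χ : G → ℂ) →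
      Inv (φ.comp T.subtype) (χ : G → ℂ) := fun χ h t => h t
  have hirr : Nat.card {χ : Cfsg.IrrCharacter G // Inv φ (χ : G → ℂ)} =
      Nat.card {β : Cfsg.IrrCharacter C // Inv (quotAut φ T) (β : C → ℂ)} := by
    refine Nat.card_congr (Equiv.ofBijective (fun χ => ⟨hs.corr χ.1,
      (corr_natural hs (hTinv χ.1 χ.2) (hs.corr_spec χ.1)).mp χ.2⟩) ⟨fun a b h => ?_, fun β => ?_⟩)
    · have h' : hs.corr a.1 = hs.corr b.1 := congrArg Subtype.val h
      exact Subtype.ext (hs.inv_unique (hTinv _ a.2) (hTinv _ b.2) (hs.corr_spec a.1)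
        (h' ▸ hs.corr_spec b.1))
    · obtain ⟨χ, hχ, hm⟩ := hs.exists_inv_mult β.1
      exact ⟨⟨χ, (corr_natural hs hχ hm).mpr β.2⟩,
        Subtype.ext (hs.mult_unique hχ (hs.corr_spec χ) hm)⟩
  have hcls : Nat.card {K : ConjClasses C // InvClass (quotAut φ T) K} =
      Nat.card {K : ConjClasses G // InvClass φ K} := by
    have hmap : ∀ K : ConjClasses C, InvClass (quotAut φ T) K →
        InvClass φ (ConjClasses.map C.subtype K) := by
      intro K
      induction K using Quotient.inductionOn with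
      | h c =>
        intro h
        show InvClass φ (ConjClasses.mk (c : G))
        rw [invClass_mk]
        intro s
        exact C.subtype.map_isConj (invClass_mk.mp h (s : S ⧸ T))
    refine Nat.card_congr (Equiv.ofBijective (fun K => ⟨_, hmap K.1 K.2⟩) ⟨?_, ?_⟩)
    · rintro ⟨a, ha⟩ ⟨b, hb⟩ h
      induction a using Quotient.inductionOn with
      | h a =>
        induction b using Quotient.inductionOn with
        | h b =>
          have h' : ConjClasses.mk (a : G) = ConjClasses.mk (b : G) := congrArg Subtype.val h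
          exact Subtype.ext (ConjClasses.mk_eq_mk_iff_isConj.mpr
            (hs.isConj_of_isConj (ConjClasses.mk_eq_mk_iff_isConj.mp h')))
    · rintro ⟨K, hK⟩
      induction K using Quotient.inductionOn with
      | h g =>
        have hK' : InvClass φ (ConjClasses.mk g) := hK
        obtain ⟨c, hc⟩ := hs.exists_of_fixed_class fun t => invClass_mk.mp hK' (t : S)
        refine ⟨⟨ConjClasses.mk c, ?_⟩, Subtype.ext (ConjClasses.mk_eq_mk_iff_isConj.mpr hc)⟩
        rw [invClass_mk]
        intro q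
        induction q using QuotientGroup.induction_on with
        | H s =>
          exact hs.isConj_of_isConj
            (((φ s).toMonoidHom.map_isConj hc).trans ((invClass_mk.mp hK' s).trans hc.symm))
  rw [hirr, h1, hcls]

/-- As many invariant characters as invariant classes. -/
theorem card_inv [Finite S] [Group.IsSolvable S] [Fintype G] (φ : S →* MulAut G)
    (hcop : (Nat.card G).Coprime (Nat.card S)) :
    Nat.card {χ : Cfsg.IrrCharacter G // Inv φ (χ : G → ℂ)} =
      Nat.card {K : ConjClasses G // InvClass φ K} :=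
  card_inv_aux _ S rfl G φ hcop

/-- Multiplicities compose. -/
theorem mult_comp {A B D : Type*} [Group A] [Group B] [Group D] [Fintype A] [Fintype B] [Fintype D]
    (ι : B →* A) (j : D →* B) (χ : Cfsg.IrrCharacter A) (δ : Cfsg.IrrCharacter D) :
    mult (ι.comp j) χ δ = ∑ β : Cfsg.IrrCharacter B, mult ι χ β * mult j β δ := by
  apply Nat.cast_injective (R := ℂ)
  rw [← mult_spec, Nat.cast_sum]
  rw [show (χ : A → ℂ) ∘ (ι.comp j) =
      ∑ β : Cfsg.IrrCharacter B, (mult ι χ β : ℂ) • ((β : B → ℂ) ∘ j) from funext fun d => by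
    rw [Finset.sum_apply]; exact comp_eq_sum ι χ (j d), Char.classInner_sum_left]
  exact Finset.sum_congr rfl fun β _ => by
    rw [Char.classInner_smul_left, mult_spec, Nat.cast_mul]

theorem exists_inv_over_aux (n : ℕ) : ∀ (S : Type v) [Group S] [Finite S] [Group.IsSolvable S],
    Nat.card S = n → ∀ (G : Type u) [Group G] [Fintype G] (φ : S →* MulAut G),
      (Nat.card G).Coprime (Nat.card S) → ∀ (N : Subgroup G) [N.Normal] [Fintype N],
      (∀ s, ∀ g ∈ N, φ s g ∈ N) → ∀ θ : Cfsg.IrrCharacter N,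
      (∀ s (a b : N), (b : G) = φ s a → (θ : N → ℂ) b = (θ : N → ℂ) a) →
      ∃ χ : Cfsg.IrrCharacter G, Inv φ (χ : G → ℂ) ∧ mult N.subtype χ θ ≠ 0 := by
  induction n using Nat.strong_induction_on with
  | _ n ih =>
  intro S _ _ _ hn G _ _ φ hcop N _ _ hN θ hθ
  classical
  by_cases hS : Nat.card S = 1
  · haveI : Subsingleton S := (Nat.card_eq_one_iff_unique.mp hS).1
    have hI : Cfsg.IsCharacter G (Cfsg.indFun N (θ : N → ℂ)) :=
      Char.IsCharacter.indFun N (Char.isCharacter_irr θ)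
    have h0 : Cfsg.indFun N (θ : N → ℂ) ≠ 0 := fun h => by
      have h' := congrFun h 1
      rw [Char.indFun_one] at h'
      exact mul_ne_zero (Nat.cast_ne_zero.mpr Subgroup.index_ne_zero_of_finite)
        (Char.IsIrrCharacter.apply_one_ne_zero θ.2) h'
    obtain ⟨χ₀, hirr, hχ⟩ := Char.IsCharacter.exists_constituent hI h0
    let χ : Cfsg.IrrCharacter G := ⟨χ₀, hirr⟩
    refine ⟨χ, fun s g => by rw [Subsingleton.elim s 1, map_one]; rfl, fun h => hχ ?_⟩
    rw [Char.classInner_indFun N _ (Char.IsIrrCharacter.isClassFunction χ.2),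
      Char.IsCharacter.classInner_comm (Char.isCharacter_irr θ)
        (Char.IsCharacter.restrict (Char.isCharacter_irr χ) N)]
    exact (mult_spec N.subtype χ θ).trans (by rw [h, Nat.cast_zero])
  obtain ⟨T, p, hTn, hlt, hs, hcop'⟩ := exists_step φ hcop hS
  haveI := hTn
  haveI : Fact p.Prime := ⟨hs.prime⟩
  set C := fixSub (φ.comp T.subtype) with hC
  haveI : Fintype C := Fintype.ofFinite C
  let NC : Subgroup C := N.subgroupOf C
  haveI : NC.Normal := Subgroup.Normal.subgroupOf inferInstance C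
  haveI : Fintype NC := Fintype.ofFinite NC
  let ιN : NC →* N :=
    { toFun := fun x => ⟨((x : C) : G), x.2⟩
      map_one' := rfl
      map_mul' := fun _ _ => rfl }
  let φN := resAut φ N hN
  have hsN : Setup p (φN.comp T.subtype) ιN :=
    { prime := hs.prime
      pgroup := hs.pgroup
      inj := fun a b h => Subtype.ext (Subtype.ext (congrArg (fun z : N => (z : G)) h))
      range_iff := fun g => by
        refine ⟨fun h => ⟨⟨⟨(g : G), fun t => congrArg (fun z : N => (z : G)) (h t)⟩, g.2⟩, rfl⟩, ?_⟩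
        rintro ⟨c, rfl⟩ t
        exact Subtype.ext (c.1.2 t)
      not_dvd := fun h => hs.not_dvd (h.trans (Subgroup.card_subgroup_dvd_card N)) }
  have hθT : Inv (φN.comp T.subtype) (θ : N → ℂ) := fun t a => hθ (t : S) a _ rfl
  set γ := hsN.corr θ with hγ
  have hψ : ∀ q, ∀ c ∈ NC, quotAut φ T q c ∈ NC := by
    intro q
    induction q using QuotientGroup.induction_on with
    | H s => exact fun c hc => hN s c hc
  have hγinv : ∀ q (a b : NC), (b : C) = quotAut φ T q a →
      (γ : NC → ℂ) b = (γ : NC → ℂ) a := by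
    intro q
    induction q using QuotientGroup.induction_on with
    | H s =>
      intro a b hab
      let α' : MulAut NC := resAut (quotAut φ T) NC hψ (s : S ⧸ T)
      let γ' : Cfsg.IrrCharacter NC := ⟨(γ : NC → ℂ) ∘ α', Char.IsIrrCharacter.comp_equiv γ.2 α'⟩
      have h1 : mult ιN θ γ' = mult ιN θ γ :=
        mult_comp_equiv (φN s) α' (fun c => rfl) (fun g => (hθ s g _ rfl).symm) (fun c => rfl)
      have h2 : γ' = γ := hsN.mult_unique hθT (h1.symm ▸ hsN.corr_spec θ) (hsN.corr_spec θ)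
      rw [show b = α' a from Subtype.ext hab]
      exact congrArg (fun z : Cfsg.IrrCharacter NC => (z : NC → ℂ) a) h2
  obtain ⟨β, hβ, hβγ⟩ := ih _ (hn ▸ hlt) (S ⧸ T) rfl C (quotAut φ T) hcop' NC hψ γ hγinv
  obtain ⟨χ, hχT, hm⟩ := hs.exists_inv_mult β
  have hχ : Inv φ (χ : G → ℂ) := (corr_natural hs hχT hm).mpr hβ
  refine ⟨χ, hχ, ?_⟩
  -- a constituent of the restriction fixed by the operators in `T`
  have hdeg : ∀ δ : Cfsg.IrrCharacter N, ∃ d : ℕ, (δ : N → ℂ) 1 = d := fun δ =>
    Char.IsCharacter.apply_one_eq (Char.isCharacter_irr δ)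
  choose d hd using hdeg
  have hw : ∀ (t : T) (δ : Cfsg.IrrCharacter N),
      mult N.subtype χ (irrPerm (φN.comp T.subtype) t δ) = mult N.subtype χ δ ∧
        d (irrPerm (φN.comp T.subtype) t δ) = d δ := fun t δ => by
    refine ⟨mult_comp_equiv (φ (t : S)).symm (φN (t : S)).symm (fun c => by
      show φ (t : S)⁻¹ (c : G) = _
      rw [map_inv]; rfl) (χ := χ)
      (fun g => ?_) (fun c => rfl), Nat.cast_injective (R := ℂ) ?_⟩
    · conv_lhs => rw [← MulEquiv.apply_symm_apply (φ (t : S)) g]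
      exact hχT t _
    · rw [← hd, ← hd, irrPerm_apply, map_one]
  have hsum : ¬ p ∣ ∑ δ : Cfsg.IrrCharacter N, mult N.subtype χ δ * d δ := by
    obtain ⟨m, hm1, hm2⟩ := Char.IsIrrCharacter.apply_one_dvd_card χ.2
    have h : (χ : G → ℂ) (N.subtype 1) = ∑ δ : Cfsg.IrrCharacter N,
        (mult N.subtype χ δ : ℂ) * (δ : N → ℂ) 1 := comp_eq_sum N.subtype χ 1
    rw [map_one, hm1] at h
    simp only [hd, ← Nat.cast_mul, ← Nat.cast_sum, Nat.cast_inj] at h
    exact fun hdv => hs.not_dvd ((h ▸ hdv).trans hm2)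
  obtain ⟨θ₁, hθ₁f, hθ₁⟩ := exists_fixed_weight hs.pgroup (irrPerm (φN.comp T.subtype))
    (fun δ => mult N.subtype χ δ * d δ) (fun t δ => by rw [(hw t δ).1, (hw t δ).2]) hsum
  have hθ₁T : Inv (φN.comp T.subtype) (θ₁ : N → ℂ) := irrPerm_fixed_iff.mp hθ₁f
  have he : ¬ p ∣ mult N.subtype χ θ₁ := fun h => hθ₁ (h.mul_right _)
  -- its correspondent lies under `β`
  set γ₁ := hsN.corr θ₁ with hγ₁
  have hγ₁β : mult NC.subtype β γ₁ ≠ 0 := by
    intro h0
    have h1 : p ∣ mult (N.subtype.comp ιN) χ γ₁ := by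
      rw [show N.subtype.comp ιN = C.subtype.comp NC.subtype from rfl, mult_comp]
      refine Finset.dvd_sum fun β' _ => ?_
      by_cases h : p ∣ mult C.subtype χ β'
      · exact h.mul_right _
      · rw [hs.mult_unique hχT h hm, h0, mul_zero]
        exact dvd_zero p
    rw [mult_comp, ← Nat.modEq_zero_iff_dvd] at h1
    have h2 := cong_sum_fixed hs.pgroup (irrPerm (φN.comp T.subtype))
      (fun δ => ((mult N.subtype χ δ * mult ιN δ γ₁ : ℕ) : ℂ)) (fun δ => isIntegral_natCast _)
      (fun t δ => by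
        rw [(hw t δ).1, mult_comp_equiv (χ := δ) (β := γ₁) (φN (t : S)).symm (MulEquiv.refl NC)
          (fun c => (hsN.symm_fixed t c).symm) (χ' := irrPerm (φN.comp T.subtype) t δ)
          (fun g => rfl) (fun c => rfl)])
    rw [← Nat.cast_sum, ← Nat.cast_sum, Cong.nat_iff hs.prime.ne_zero,
      ← Finset.sum_erase_add _ _ (Finset.mem_filter.mpr ⟨Finset.mem_univ θ₁, hθ₁f⟩)] at h2
    have h3 := (h1.symm.trans h2).symm
    rw [Nat.modEq_zero_iff_dvd] at h3
    have h4 : p ∣ mult N.subtype χ θ₁ * mult ιN θ₁ γ₁ := by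
      refine (Nat.dvd_add_right (Finset.dvd_sum fun δ hδ => ?_)).mp h3
      simp only [Finset.mem_erase, Finset.mem_filter] at hδ
      exact Dvd.dvd.mul_left (by_contra fun h => hδ.1 (hsN.inv_unique
        (irrPerm_fixed_iff.mp hδ.2.2) hθ₁T h (hsN.corr_spec θ₁))) _
    exact (hs.prime.dvd_mul.mp h4).elim he (hsN.corr_spec θ₁)
  -- so it is conjugate to the correspondent of `θ`
  obtain ⟨c, hc⟩ := Clifford.exists_conj_of_constituent NC β.2 γ₁.2 γ.2
    (fun h => hγ₁β (Nat.cast_injective (R := ℂ)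
      (((mult_spec NC.subtype β γ₁).symm.trans h).trans Nat.cast_zero.symm)))
    (fun h => hβγ (Nat.cast_injective (R := ℂ)
      (((mult_spec NC.subtype β γ).symm.trans h).trans Nat.cast_zero.symm)))
  let θ₂ : Cfsg.IrrCharacter N :=
    ⟨Clifford.conjFun N (c : G) θ₁, Clifford.isIrrCharacter_conjFun N _ θ₁.2⟩
  have h2T : Inv (φN.comp T.subtype) (θ₂ : N → ℂ) := by
    intro t x
    show (θ₁ : N → ℂ) (MulAut.conjNormal (c : G) (φN (t : S) x)) =
      (θ₁ : N → ℂ) (MulAut.conjNormal (c : G) x)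
    rw [show MulAut.conjNormal (c : G) (φN (t : S) x) = φN (t : S) (MulAut.conjNormal (c : G) x) from
      Subtype.ext (by
        show (c : G) * φ (t : S) x * (c : G)⁻¹ = φ (t : S) ((c : G) * x * (c : G)⁻¹)
        have hct : φ (t : S) (c : G) = c := c.2 t
        rw [map_mul, map_mul, map_inv, hct])]
    exact hθ₁T t _
  have h2m : ¬ p ∣ mult ιN θ₂ γ := by
    rw [mult_comp_equiv (MulAut.conjNormal (c : G)) (MulAut.conjNormal c) (χ := θ₁) (χ' := θ₂)
      (β := γ₁) (β' := γ) (fun x => Subtype.ext rfl) (fun g => rfl)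
      (fun x => congrFun hc x)]
    exact hsN.corr_spec θ₁
  have hθ2 : θ₂ = θ := hsN.inv_unique h2T hθT h2m (hsN.corr_spec θ)
  intro h0
  refine he ?_
  rw [show mult N.subtype χ θ₁ = 0 from Nat.cast_injective (R := ℂ) ?_]
  · exact dvd_zero p
  · rw [← mult_spec, ← h0, ← mult_spec]
    show Cfsg.classInner (fun x : N => (χ : G → ℂ) x) (θ₁ : N → ℂ) = _
    rw [← Clifford.classInner_restrict_conjFun N (c : G) (Char.IsIrrCharacter.isClassFunction χ.2)]
    exact congrArg (Cfsg.classInner _) (congrArg Subtype.val hθ2)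

/-- An invariant character of an invariant normal subgroup lies under an invariant character. -/
theorem exists_inv_over [Finite S] [Group.IsSolvable S] [Fintype G] (φ : S →* MulAut G)
    (hcop : (Nat.card G).Coprime (Nat.card S)) (N : Subgroup G) [N.Normal] [Fintype N]
    (hN : ∀ s, ∀ g ∈ N, φ s g ∈ N) (θ : Cfsg.IrrCharacter N)
    (hθ : ∀ s (a b : N), (b : G) = φ s a → (θ : N → ℂ) b = (θ : N → ℂ) a) :
    ∃ χ : Cfsg.IrrCharacter G, Inv φ (χ : G → ℂ) ∧ mult N.subtype χ θ ≠ 0 :=
  exists_inv_over_aux _ S rfl G φ hcop N hN θ hθ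

end CfsgLib.CharDeep.Glauberman
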