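import Cfsg.Agent.Lib.CharDeep.Glauberman.Gallagher
import Cfsg.Agent.Lib.CharDeep.Glauberman.Operators
import Cfsg.Agent.Lib.CharDeep.Relative

/-!
# The relative correspondence over a normal Sylow subgroup

A `p`-group `P` acts on `K`, whose Sylow `p`-subgroup `Q` is normal, and `C / Q` consists of the
fixed points of `P` on `K / Q`.  Invariant characters of `K` and of `C` correspond: the stabiliser
`T` of an invariant character `θ` of `Q` has the invariant canonical extension, so Gallagher and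
Clifford reduce the multiplicities to those of the coprime action on `T / Q`.
-/

set_option autoImplicit false
set_option linter.unusedSectionVars false

namespace CfsgLib.CharDeep.Glauberman

open CfsgLib
open scoped ComplexConjugate Classical

theorem detOrder_comp_equiv {G H : Type*} [Group G] [Group H] [Finite G] [Finite H] (α : H ≃* G)
    {χ : G → ℂ} (hχ : Cfsg.IsIrrCharacter G χ) :
    Cfsg.detOrder (χ ∘ α) = Cfsg.detOrder χ := by
  obtain ⟨n, ρ, hρ, rfl⟩ := id hχ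
  unfold Cfsg.detOrder
  rw [Galois.detChar_of_rep (ρ.comp α.toMonoidHom) (ρ.character ∘ α)
      (Char.IsCharacter.comp (Char.IsIrrCharacter.isCharacter hχ) α.toMonoidHom) rfl,
    Galois.detChar_of_rep ρ _ (Char.IsIrrCharacter.isCharacter hχ) rfl]
  refine orderOf_eq_orderOf_iff.mpr fun k => ?_
  simp only [funext_iff, Pi.pow_apply, Pi.one_apply]
  exact ⟨fun h g => by
    have h1 := h (α.symm g)
    rwa [show (ρ.comp α.toMonoidHom) (α.symm g) = ρ g from congrArg ρ (α.apply_symm_apply g)] at h1,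
    fun h g => h (α g)⟩

/-- Induction commutes with an automorphism preserving the subgroup. -/
theorem indFun_comp_equiv {G : Type*} [Group G] [Fintype G] (T : Subgroup G) (ψ ψ' : T → ℂ)
    (α : G ≃* G) (hα : ∀ g, α g ∈ T ↔ g ∈ T) (hψ : ∀ t t' : T, (t' : G) = α t → ψ' t = ψ t')
    (g : G) : Cfsg.indFun T ψ' g = Cfsg.indFun T ψ (α g) := by
  have hext : ∀ y, Cfsg.extendByZero T ψ' y = Cfsg.extendByZero T ψ (α y) := fun y => by
    by_cases hy : y ∈ T
    · rw [Char.extendByZero_apply_mem T ψ' hy, Char.extendByZero_apply_mem T ψ ((hα y).mpr hy)]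
      exact hψ ⟨y, hy⟩ ⟨α y, (hα y).mpr hy⟩ rfl
    · rw [Char.extendByZero_apply_notMem T ψ' hy,
        Char.extendByZero_apply_notMem T ψ fun h => hy ((hα y).mp h)]
  rw [Char.indFun_def, Char.indFun_def]
  congr 1
  refine Fintype.sum_equiv α.toEquiv _ _ fun x => ?_
  rw [hext]
  simp

variable {K P : Type*} [Group K] [Group P] [Fintype K]

/-- A `p`-group of operators on a group with normal Sylow `p`-subgroup `Q`; `C` is the preimage of
the fixed points on the quotient by `Q`. -/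
structure NSetup (p : ℕ) (φ : P →* MulAut K) (Q C : Subgroup K) : Prop where
  prime : p.Prime
  pgroup : IsPGroup p P
  qgroup : IsPGroup p Q
  qinv : ∀ s, ∀ q ∈ Q, φ s q ∈ Q
  not_dvd : ¬ p ∣ Q.index
  mem_iff : ∀ k, k ∈ C ↔ ∀ s, φ s k * k⁻¹ ∈ Q

variable {p : ℕ} {φ : P →* MulAut K} {Q C : Subgroup K} (hs : NSetup p φ Q C)
include hs

theorem NSetup.le : Q ≤ C := fun q hq =>
  (hs.mem_iff q).mpr fun s => Q.mul_mem (hs.qinv s q hq) (Q.inv_mem hq)

theorem NSetup.map_mem (s : P) : ∀ k ∈ C, φ s k ∈ C := by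
  intro k hk
  have h1 : φ s k * k⁻¹ ∈ C := hs.le ((hs.mem_iff k).mp hk s)
  simpa using C.mul_mem h1 hk

variable [hQn : Q.Normal]

/-- The operators on `C`. -/
def NSetup.actC : P →* MulAut C := resAut φ C hs.map_mem

/-- The fixed points of the operators on the characters of `Q`. -/
def NSetup.QInv (θ : Q → ℂ) : Prop := ∀ s (q : Q), θ ⟨φ s q, hs.qinv s q q.2⟩ = θ q

theorem NSetup.index_pos_coprime {T : Subgroup K} (hQT : Q ≤ T) :
    (Q.subgroupOf T).index.Coprime (Nat.card (Q.subgroupOf T)) := by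
  haveI : Fact p.Prime := ⟨hs.prime⟩
  obtain ⟨a, ha⟩ := IsPGroup.iff_card.mp hs.qgroup
  rw [Nat.card_congr (Subgroup.subgroupOfEquivOfLe hQT).toEquiv, ha]
  refine Nat.Coprime.pow_right a ((hs.prime.coprime_iff_not_dvd.mpr fun h => ?_).symm)
  exact hs.not_dvd (h.trans (Subgroup.relIndex_dvd_index_of_normal Q T))

variable [Fintype C] [Fintype Q] [Fintype (Q.subgroupOf C)]

/-- The restriction to `Q`, seen inside `C`. -/
theorem classInner_subgroupOf_eq (hQC : Q ≤ C) (f : Q → ℂ) (θ : Q → ℂ) :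
    Cfsg.classInner (f ∘ Subgroup.subgroupOfEquivOfLe hQC)
      (θ ∘ Subgroup.subgroupOfEquivOfLe hQC) = Cfsg.classInner f θ :=
  Char.classInner_reindex (Subgroup.subgroupOfEquivOfLe hQC) f θ

/-- The layer over one invariant character of `Q`. -/
theorem NSetup.layer {θ : Q → ℂ} (hθ : Cfsg.IsIrrCharacter Q θ) (hinv : hs.QInv θ) :
    (∀ χ : Cfsg.IrrCharacter K, Inv φ (χ : K → ℂ) →
      Cfsg.classInner (fun q : Q => (χ : K → ℂ) q) θ ≠ 0 →
      ∃ ξ : Cfsg.IrrCharacter C, Inv hs.actC (ξ : C → ℂ) ∧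
        ¬ p ∣ mult C.subtype χ ξ ∧
        ((mult C.subtype χ ξ : ℤ) ≡ 1 [ZMOD p] ∨ (mult C.subtype χ ξ : ℤ) ≡ -1 [ZMOD p]) ∧
        ∀ ξ' : Cfsg.IrrCharacter C,
          Cfsg.classInner (fun q : Q.subgroupOf C => (ξ' : C → ℂ) q)
            (θ ∘ Subgroup.subgroupOfEquivOfLe hs.le) ≠ 0 →
          ¬ p ∣ mult C.subtype χ ξ' → ξ' = ξ) ∧
    (∀ ξ : Cfsg.IrrCharacter C,
      Cfsg.classInner (fun q : Q.subgroupOf C => (ξ : C → ℂ) q)
        (θ ∘ Subgroup.subgroupOfEquivOfLe hs.le) ≠ 0 →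
      ∃ χ : Cfsg.IrrCharacter K, Inv φ (χ : K → ℂ) ∧ ¬ p ∣ mult C.subtype χ ξ ∧
        ∀ χ' : Cfsg.IrrCharacter K, Inv φ (χ' : K → ℂ) →
          Cfsg.classInner (fun q : Q => (χ' : K → ℂ) q) θ ≠ 0 →
          ¬ p ∣ mult C.subtype χ' ξ → χ' = χ) := by
  haveI : Fact p.Prime := ⟨hs.prime⟩
  -- the stabiliser and its invariant canonical extension
  set T : Subgroup K := Char.stab θ with hTdef
  have hQT : Q ≤ T := Char.le_stab (Char.IsIrrCharacter.isClassFunction hθ)
  have hTin : Char.IsInertia θ T := Char.isInertia_stab θ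
  have hTmem : ∀ s k, k ∈ T → φ s k ∈ T := fun s k hk => (hTin _).mpr fun q => by
    have h1 := (hTin k).mp hk ⟨φ s⁻¹ q, hs.qinv _ _ q.2⟩
    rw [← hinv s, ← hinv s ⟨φ s⁻¹ q, hs.qinv _ _ q.2⟩] at h1
    have e : φ s (φ s⁻¹ (q : K)) = q := by
      rw [← MulAut.mul_apply, ← map_mul, mul_inv_cancel, map_one]
      rfl
    refine Eq.trans ?_ (h1.trans (congrArg θ (Subtype.ext e)))
    refine congrArg θ (Subtype.ext ?_)
    show φ s k * q * (φ s k)⁻¹ = φ s (k * φ s⁻¹ q * k⁻¹)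
    rw [map_mul, map_mul, e, map_inv]
  have hTiff : ∀ s k, φ s k ∈ T ↔ k ∈ T := fun s k => ⟨fun h => by
    have h1 := hTmem s⁻¹ _ h
    simpa [← MulAut.mul_apply, ← map_mul] using h1, hTmem s k⟩
  haveI : Fintype T := Fintype.ofFinite _
  let φT := resAut φ T hTmem
  set N : Subgroup T := Q.subgroupOf T with hNdef
  haveI : Fintype N := Fintype.ofFinite _
  let θT : N → ℂ := fun x => θ ⟨(x : T), Subgroup.mem_subgroupOf.mp x.2⟩
  have hθT : Cfsg.IsIrrCharacter N θT :=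
    Char.IsIrrCharacter.comp_equiv hθ (Subgroup.subgroupOfEquivOfLe hQT)
  have hcop : N.index.Coprime (Nat.card N) := hs.index_pos_coprime hQT
  obtain ⟨E, hE, hEres, hEd⟩ := Galois.exists_canonical hcop hθT fun g n =>
    (hTin g).mp g.2 ⟨((n : T) : K), Subgroup.mem_subgroupOf.mp n.2⟩
  have hEinv : ∀ s t, E (φT s t) = E t := fun s => congrFun (Galois.canonical_unique hcop
    (Char.IsIrrCharacter.comp_equiv hE (φT s)) hE hθT (fun n => by
      have h1 : φT s n ∈ N := Subgroup.mem_subgroupOf.mpr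
        (hs.qinv s _ (Subgroup.mem_subgroupOf.mp n.2))
      show E (φT s n) = θT n
      rw [show E (φT s n) = θT ⟨φT s n, h1⟩ from hEres ⟨φT s n, h1⟩]
      exact hinv s ⟨((n : T) : K), Subgroup.mem_subgroupOf.mp n.2⟩)
    hEres ((detOrder_comp_equiv (φT s) hE).symm ▸ hEd) hEd)
  -- the quotient
  haveI : Fintype (T ⧸ N) := Fintype.ofFinite _
  let π : T →* T ⧸ N := QuotientGroup.mk' N
  have hπ : Function.Surjective π := QuotientGroup.mk'_surjective N
  have hker : π.ker = N := QuotientGroup.ker_mk' N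
  have hmap : ∀ s, N ≤ N.comap (φT s).toMonoidHom := fun s n hn =>
    Subgroup.mem_subgroupOf.mpr (hs.qinv s _ (Subgroup.mem_subgroupOf.mp hn))
  let φR : P →* MulAut (T ⧸ N) :=
    { toFun := fun s =>
        { toFun := QuotientGroup.map N N (φT s).toMonoidHom (hmap s)
          invFun := QuotientGroup.map N N (φT s⁻¹).toMonoidHom (hmap s⁻¹)
          left_inv := fun x => by
            obtain ⟨x, rfl⟩ := hπ x
            show π (φT s⁻¹ (φT s x)) = π x
            rw [← MulAut.mul_apply, ← map_mul, inv_mul_cancel, map_one]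
            rfl
          right_inv := fun x => by
            obtain ⟨x, rfl⟩ := hπ x
            show π (φT s (φT s⁻¹ x)) = π x
            rw [← MulAut.mul_apply, ← map_mul, mul_inv_cancel, map_one]
            rfl
          map_mul' := map_mul _ }
      map_one' := MulEquiv.ext fun x => by
        obtain ⟨x, rfl⟩ := hπ x
        show π (φT 1 x) = π x
        rw [map_one]
        rfl
      map_mul' := fun s t => MulEquiv.ext fun x => by
        obtain ⟨x, rfl⟩ := hπ x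
        show π (φT (s * t) x) = π (φT s (φT t x))
        rw [map_mul]
        rfl }
  have hφR : ∀ s t, φR s (π t) = π (φT s t) := fun _ _ => rfl
  let F := fixSub φR
  haveI : Fintype F := Fintype.ofFinite _
  have hG : Setup p φR F.subtype :=
    ⟨hs.prime, hs.pgroup, Subtype.val_injective,
      fun g => ⟨fun h => ⟨⟨g, h⟩, rfl⟩, by rintro ⟨c, rfl⟩; exact c.2⟩, fun h =>
        hs.not_dvd (h.trans (by
          rw [← Subgroup.index_eq_card]
          exact Subgroup.relIndex_dvd_index_of_normal Q T))⟩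
  -- the stabiliser inside `C`
  set θC : Q.subgroupOf C → ℂ := θ ∘ Subgroup.subgroupOfEquivOfLe hs.le with hθCdef
  have hθC : Cfsg.IsIrrCharacter (Q.subgroupOf C) θC :=
    Char.IsIrrCharacter.comp_equiv hθ (Subgroup.subgroupOfEquivOfLe hs.le)
  set S : Subgroup C := T.subgroupOf C with hSdef
  haveI : Fintype S := Fintype.ofFinite _
  have hQS : (Q.subgroupOf C) ≤ S := fun x hx =>
    Subgroup.mem_subgroupOf.mpr (hQT (Subgroup.mem_subgroupOf.mp hx))
  have hSin : Char.IsInertia θC S := fun g => by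
    rw [hSdef, Subgroup.mem_subgroupOf, hTin]
    exact ⟨fun h q => h ⟨((q : C) : K), Subgroup.mem_subgroupOf.mp q.2⟩,
      fun h q => h ⟨⟨q, hs.le q.2⟩, Subgroup.mem_subgroupOf.mpr q.2⟩⟩
  let j : S →* T :=
    { toFun := fun x => ⟨((x : C) : K), Subgroup.mem_subgroupOf.mp x.2⟩
      map_one' := rfl
      map_mul' := fun _ _ => rfl }
  have hmk : ∀ a b : T, π a = π b ↔ (b : K) * (a : K)⁻¹ ∈ Q := fun a b => by
    show (a : T ⧸ N) = (b : T ⧸ N) ↔ _
    rw [QuotientGroup.eq, hNdef, Subgroup.mem_subgroupOf, Subgroup.coe_mul, Subgroup.coe_inv]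
    exact hQn.mem_comm_iff
  have hjF : ∀ x, π (j x) ∈ F := fun x s => by
    rw [hφR]
    exact ((hmk _ _).mpr ((hs.mem_iff _).mp (x : C).2 s)).symm
  let ρ : S →* F := (π.comp j).codRestrict F hjF
  have hρ : Function.Surjective ρ := by
    rintro ⟨r, hr⟩
    obtain ⟨t, rfl⟩ := hπ r
    have htC : (t : K) ∈ C := (hs.mem_iff _).mpr fun s =>
      (hmk t (φT s t)).mp ((hr s).symm.trans (hφR s t))
    exact ⟨⟨⟨t, htC⟩, Subgroup.mem_subgroupOf.mpr t.2⟩, Subtype.ext rfl⟩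
  set M : Subgroup S := (Q.subgroupOf C).subgroupOf S with hMdef
  haveI : Fintype M := Fintype.ofFinite _
  have hρker : ρ.ker = M := by
    refine Subgroup.ext fun x => ?_
    rw [MonoidHom.mem_ker, Subtype.ext_iff, hMdef, Subgroup.mem_subgroupOf,
      Subgroup.mem_subgroupOf]
    show (j x : T ⧸ N) = 1 ↔ _
    rw [QuotientGroup.eq_one_iff, hNdef, Subgroup.mem_subgroupOf]
    rfl
  let θS : M → ℂ := fun x => θC ⟨(x : S), Subgroup.mem_subgroupOf.mp x.2⟩
  have hθS : Cfsg.IsIrrCharacter M θS :=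
    Char.IsIrrCharacter.comp_equiv hθC (Subgroup.subgroupOfEquivOfLe hQS)
  have hEjres : ∀ m : M, E (j m) = θS m := fun m => hEres
    ⟨j m, Subgroup.mem_subgroupOf.mpr (Subgroup.mem_subgroupOf.mp (Subgroup.mem_subgroupOf.mp m.2))⟩
  have hEj : Cfsg.IsIrrCharacter S (E ∘ j) := Relative.irr_of_comp_irr M.subtype
    (Char.IsCharacter.comp (Char.IsIrrCharacter.isCharacter hE) j)
    ((funext hEjres : (E ∘ j) ∘ M.subtype = θS) ▸ hθS)
  -- the parametrisations
  let upT : Cfsg.IrrCharacter (T ⧸ N) → T → ℂ := fun β => E * ((β : T ⧸ N → ℂ) ∘ π)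
  let upS : Cfsg.IrrCharacter F → S → ℂ := fun γ => (E ∘ j) * ((γ : F → ℂ) ∘ ρ)
  have hupT := isIrr_ext_mul hπ hker hE hθT hEres
  have hupS := isIrr_ext_mul hρ hρker hEj hθS hEjres
  have hovT : ∀ β, Cfsg.classInner (Char.resLe hQT (upT β)) θ ≠ 0 := fun β => by
    rw [← Char.classInner_resLe hQT, classInner_ext_mul_restrict hπ hker hE hθT hEres]
    exact Char.IsIrrCharacter.apply_one_ne_zero β.2
  have hovS : ∀ γ, Cfsg.classInner (Char.resLe hQS (upS γ)) θC ≠ 0 := fun γ => by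
    rw [← Char.classInner_resLe hQS, classInner_ext_mul_restrict hρ hρker hEj hθS hEjres]
    exact Char.IsIrrCharacter.apply_one_ne_zero γ.2
  let chiOf : Cfsg.IrrCharacter (T ⧸ N) → Cfsg.IrrCharacter K := fun β =>
    ⟨Cfsg.indFun T (upT β), (Char.indFun_inertia hQT hθ hTin (hupT β) (hovT β)).1⟩
  let xiOf : Cfsg.IrrCharacter F → Cfsg.IrrCharacter C := fun γ =>
    ⟨Cfsg.indFun S (upS γ), (Char.indFun_inertia hQS hθC hSin (hupS γ) (hovS γ)).1⟩
  have hchi_inv : ∀ β : Cfsg.IrrCharacter (T ⧸ N), Inv φR (β : T ⧸ N → ℂ) → Inv φ (chiOf β : K → ℂ) := fun β hβ s g =>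
    (indFun_comp_equiv T (upT β) (upT β) (φ s) (hTiff s) (fun t t' e => by
      rw [show t' = φT s t from Subtype.ext e]
      show E t * (β : T ⧸ N → ℂ) (π t) = E (φT s t) * (β : T ⧸ N → ℂ) (π (φT s t))
      rw [hEinv, ← hφR, hβ]) g).symm
  have hchi_surj : ∀ χ : Cfsg.IrrCharacter K, Inv φ (χ : K → ℂ) →
      Cfsg.classInner (fun q : Q => (χ : K → ℂ) q) θ ≠ 0 →
      ∃ β : Cfsg.IrrCharacter (T ⧸ N), Inv φR (β : T ⧸ N → ℂ) ∧ chiOf β = χ := by
    intro χ hχ hov
    obtain ⟨ψ, hψ, hψov, hψe⟩ := Char.exists_eq_indFun_inertia hQT hθ hTin χ.2 hov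
    obtain ⟨β, rfl⟩ := exists_ext_mul hπ hker hE hθT hEres hψ
      ((Char.classInner_resLe hQT ψ θ).trans_ne hψov)
    refine ⟨β, irrPerm_fixed_iff.mp fun s => ?_, Subtype.ext hψe.symm⟩
    refine (ext_mul_injective hπ hker hE hθT hEres
      (Char.indFun_inertia_inj hQT hθ hTin (hupT _) (hovT _) (hupT _) (hovT _) ?_)).symm
    funext g
    show Cfsg.indFun T (upT β) g = Cfsg.indFun T (upT (irrPerm φR s β)) g
    rw [indFun_comp_equiv T (upT β) (upT (irrPerm φR s β)) (φ s⁻¹) (hTiff s⁻¹) (fun t t' e => by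
      rw [show t' = φT s⁻¹ t from Subtype.ext e]
      show E t * (β : T ⧸ N → ℂ) ((φR s).symm (π t)) =
        E (φT s⁻¹ t) * (β : T ⧸ N → ℂ) (π (φT s⁻¹ t))
      rw [hEinv]
      rfl) g, ← hψe]
    exact (hχ s⁻¹ g).symm
  have hxi_inv : ∀ γ : Cfsg.IrrCharacter F, Inv hs.actC (xiOf γ : C → ℂ) := fun γ s g =>
    (indFun_comp_equiv S (upS γ) (upS γ) (hs.actC s) (fun x => by
      rw [hSdef, Subgroup.mem_subgroupOf, Subgroup.mem_subgroupOf]
      exact hTiff s x) (fun t t' e => by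
      have e' : j t' = φT s (j t) := Subtype.ext (congrArg Subtype.val e :)
      show E (j t) * (γ : F → ℂ) (ρ t) = E (j t') * (γ : F → ℂ) (ρ t')
      rw [e', hEinv, show ρ t' = ρ t from Subtype.ext (by
        show π (j t') = π (j t)
        rw [e', ← hφR]
        exact hjF t s)]) g).symm
  have hxi_surj : ∀ ξ : Cfsg.IrrCharacter C,
      Cfsg.classInner (fun q : (Q.subgroupOf C) => (ξ : C → ℂ) q) θC ≠ 0 → ∃ γ, xiOf γ = ξ := by
    intro ξ hov
    obtain ⟨ψ, hψ, hψov, hψe⟩ := Char.exists_eq_indFun_inertia hQS hθC hSin ξ.2 hov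
    obtain ⟨γ, rfl⟩ := exists_ext_mul hρ hρker hEj hθS hEjres hψ
      ((Char.classInner_resLe hQS ψ θC).trans_ne hψov)
    exact ⟨γ, Subtype.ext hψe.symm⟩
  have hm : ∀ β γ, mult C.subtype (chiOf β) (xiOf γ) = mult F.subtype β γ := by
    intro β γ
    apply Nat.cast_injective (R := ℂ)
    rw [← mult_spec]
    show Cfsg.classInner ((chiOf β : K → ℂ) ∘ C.subtype) (Cfsg.indFun S (upS γ)) = _
    rw [Char.classInner_indFun_right S _ (Char.IsCharacter.isClassFunction
      (Char.IsCharacter.comp (Char.isCharacter_irr _) C.subtype))]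
    set χT : T → ℂ := fun t => (chiOf β : K → ℂ) t with hχT
    have hχTc : Cfsg.IsCharacter T χT := Char.IsCharacter.restrict (Char.isCharacter_irr _) T
    have hψχ : Cfsg.classInner χT (upT β) ≠ 0 := by
      have h1 := Char.classInner_indFun T (upT β)
        (Char.IsIrrCharacter.isClassFunction (chiOf β).2)
      rw [Char.IsCharacter.classInner_comm hχTc (Char.IsIrrCharacter.isCharacter (hupT β)),
        hχT, ← h1]
      exact (Char.classInner_irr_self (chiOf β).2).trans_ne one_ne_zero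
    have hD := Clifford.isCharacter_sub_of_constituent hχTc (hupT β) hψχ
    have hD0 : Cfsg.classInner (Char.resLe hQT (χT - upT β)) θ = 0 := by
      rw [show Char.resLe hQT (χT - upT β) = Char.resLe hQT χT - Char.resLe hQT (upT β) from rfl,
        Char.classInner_sub_left, sub_eq_zero]
      exact (Char.indFun_inertia hQT hθ hTin (hupT β) (hovT β)).2
    have hD1 : Cfsg.classInner ((χT - upT β) ∘ j) (upS γ) = 0 := by
      by_contra hne
      have h2 := Clifford.classInner_ne_zero_trans (Char.IsCharacter.comp hD j) (hupS γ) hne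
        M.subtype (Char.IsIrrCharacter.isCharacter hθS)
        ((Char.classInner_resLe hQS (upS γ) θC).trans_ne (hovS γ))
      refine h2 ((Char.classInner_resLe hQS ((χT - upT β) ∘ j) θC).trans ?_)
      exact (classInner_subgroupOf_eq hs hs.le (Char.resLe hQT (χT - upT β)) θ).trans hD0
    rw [show (fun x : S => ((chiOf β : K → ℂ) ∘ C.subtype) x) =
        upT β ∘ j + (χT - upT β) ∘ j from funext fun x => by
      simp only [Pi.add_apply, Function.comp_apply, Pi.sub_apply, add_sub_cancel]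
      rfl,
      Char.classInner_add_left, hD1, add_zero]
    exact classInner_ext_mul_comp hπ hker hE hθT hEres hρ hρker (fun _ => rfl) hθS hEjres hEj β γ
  refine ⟨fun χ hχ hov => ?_, fun ξ hov => ?_⟩
  · obtain ⟨β, hβ, rfl⟩ := hchi_surj χ hχ hov
    refine ⟨xiOf (hG.corr β), hxi_inv _, ?_, ?_, fun ξ' hξ' hp' => ?_⟩
    · rw [hm]; exact hG.corr_spec β
    · rw [hm]; exact hG.mult_sign hβ (hG.corr_spec β)
    · obtain ⟨γ, rfl⟩ := hxi_surj ξ' hξ'
      rw [hm] at hp'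
      rw [hG.mult_unique hβ hp' (hG.corr_spec β)]
  · obtain ⟨γ, rfl⟩ := hxi_surj ξ hov
    obtain ⟨β, hβ, hp'⟩ := hG.exists_inv_mult γ
    refine ⟨chiOf β, hchi_inv β hβ, by rw [hm]; exact hp', fun χ' hχ' hov' hp'' => ?_⟩
    obtain ⟨β', hβ', rfl⟩ := hchi_surj χ' hχ' hov'
    rw [hm] at hp''
    rw [hG.inv_unique hβ' hβ hp'' hp']

omit hs hQn [Fintype C] [Fintype Q] [Fintype (Q.subgroupOf C)]

/-- An invariant character has an invariant constituent on an invariant normal subgroup of index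
prime to `p`. -/
theorem exists_inv_constituent_of_index {G : Type*} [Group G] [Fintype G] (hp : p.Prime)
    (hP : IsPGroup p P) (ψ : P →* MulAut G) (N : Subgroup G) [N.Normal] [Fintype N]
    (hN : ∀ s, ∀ n ∈ N, ψ s n ∈ N) (hidx : ¬ p ∣ N.index) (χ : Cfsg.IrrCharacter G)
    (hχ : Inv ψ (χ : G → ℂ)) :
    ∃ θ : Cfsg.IrrCharacter N, (∀ s (n : N), (θ : N → ℂ) ⟨ψ s n, hN s n n.2⟩ = (θ : N → ℂ) n) ∧
      Cfsg.classInner (fun n : N => (χ : G → ℂ) n) (θ : N → ℂ) ≠ 0 := by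
  haveI : Fact p.Prime := ⟨hp⟩
  set w : Cfsg.IrrCharacter N → ℕ := fun θ => mult N.subtype χ θ with hw
  have hwinv : ∀ s θ, w (irrPerm (resAut ψ N hN) s θ) = w θ := fun s θ =>
    mult_comp_equiv (ψ s).symm (resAut ψ N hN s).symm
      (fun n => by
        rw [MulEquiv.eq_symm_apply]
        exact congrArg Subtype.val ((resAut ψ N hN s).apply_symm_apply n))
      (fun g => by
        have := hχ s ((ψ s).symm g)
        rwa [MulEquiv.apply_symm_apply] at this)
      (fun _ => rfl)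
  obtain ⟨θ₀, hθ₀⟩ : ∃ θ, w θ ≠ 0 := by
    by_contra h0
    push Not at h0
    refine Char.IsIrrCharacter.apply_one_ne_zero χ.2 ?_
    have h1 := comp_eq_sum N.subtype χ 1
    rw [map_one] at h1
    rw [h1]
    exact Finset.sum_eq_zero fun θ _ => by
      rw [show mult N.subtype χ θ = 0 from h0 θ, Nat.cast_zero, zero_mul]
  have hne : ∀ θ, w θ ≠ 0 → Cfsg.classInner (fun n : N => (χ : G → ℂ) n) (θ : N → ℂ) ≠ 0 :=
    fun θ h => (mult_spec N.subtype χ θ).trans_ne (Nat.cast_ne_zero.mpr h)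
  obtain ⟨d, hd, hdvd⟩ := Relative.degree_ratio_dvd χ.2 N θ₀.2 (hne θ₀ hθ₀)
  have hsum : (χ : G → ℂ) 1 = ((∑ θ, w θ : ℕ) : ℂ) * (θ₀ : N → ℂ) 1 := by
    have h1 := comp_eq_sum N.subtype χ 1
    rw [map_one] at h1
    rw [h1, Nat.cast_sum, Finset.sum_mul]
    refine Finset.sum_congr rfl fun θ _ => ?_
    rcases eq_or_ne (w θ) 0 with h | h
    · rw [show mult N.subtype χ θ = 0 from h, show w θ = 0 from h]
      simp
    · obtain ⟨g, hg⟩ := Clifford.exists_conj_of_constituent N χ.2 θ₀.2 θ.2 (hne θ₀ hθ₀) (hne θ h)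
      rw [hg, show Clifford.conjFun N g (θ₀ : N → ℂ) 1 = (θ₀ : N → ℂ) 1 from by
        rw [Clifford.conjFun, Function.comp_apply, map_one]]
  rw [hd] at hsum
  have hd' : d = ∑ θ, w θ :=
    Nat.cast_injective (R := ℂ) (mul_right_cancel₀ (Char.IsIrrCharacter.apply_one_ne_zero θ₀.2) hsum)
  obtain ⟨θ, hfix, hθ⟩ := exists_fixed_weight hP (irrPerm (resAut ψ N hN)) w hwinv
    fun h => hidx ((hd' ▸ h).trans hdvd)
  refine ⟨θ, fun s n => ?_, hne θ fun h => hθ (h ▸ dvd_zero p)⟩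
  exact irrPerm_fixed_iff.mp hfix s n

variable [hQn : Q.Normal] [Fintype C] [Fintype Q]
include hs

/-- Invariant constituents of one invariant character are conjugate under `C`. -/
theorem NSetup.exists_conj_mem {χ : Cfsg.IrrCharacter K} {θ θ' : Q → ℂ}
    (hθ : Cfsg.IsIrrCharacter Q θ) (hθ' : Cfsg.IsIrrCharacter Q θ') (hi : hs.QInv θ)
    (hi' : hs.QInv θ') (h : Cfsg.classInner (fun q : Q => (χ : K → ℂ) q) θ ≠ 0)
    (h' : Cfsg.classInner (fun q : Q => (χ : K → ℂ) q) θ' ≠ 0) :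
    ∃ c ∈ C, θ' = Clifford.conjFun Q c θ := by
  haveI : Fact p.Prime := ⟨hs.prime⟩
  obtain ⟨g₀, hg₀⟩ := Clifford.exists_conj_of_constituent Q χ.2 hθ hθ' h h'
  let π : K →* K ⧸ Q := QuotientGroup.mk' Q
  let A : Set K := {g | Clifford.conjFun Q g θ = θ'}
  have hA : ∀ s g, g ∈ A → φ s g ∈ A := by
    intro s g hg
    funext q
    have e : φ s (φ s⁻¹ (q : K)) = q := by
      rw [← MulAut.mul_apply, ← map_mul, mul_inv_cancel, map_one]
      rfl
    have h1 := congrFun hg ⟨φ s⁻¹ q, hs.qinv _ _ q.2⟩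
    rw [Clifford.conjFun_apply] at h1 ⊢
    rw [← hi s, ← hi' s ⟨φ s⁻¹ q, hs.qinv _ _ q.2⟩] at h1
    refine Eq.trans ?_ (h1.trans (congrArg θ' (Subtype.ext e)))
    refine congrArg θ (Subtype.ext ?_)
    show φ s g * q * (φ s g)⁻¹ = φ s (g * φ s⁻¹ q * g⁻¹)
    rw [map_mul, map_mul, e, map_inv]
  have hmap : ∀ s, Q ≤ Q.comap (φ s).toMonoidHom := fun s q hq => hs.qinv s q hq
  let X := π '' A
  letI : SMul P X := ⟨fun s x => ⟨QuotientGroup.map Q Q (φ s).toMonoidHom (hmap s) x.1, by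
    obtain ⟨g, hg, e⟩ := x.2
    exact ⟨φ s g, hA s g hg, by rw [← e]; rfl⟩⟩⟩
  letI : MulAction P X :=
    { one_smul := fun x => Subtype.ext (by
        obtain ⟨g, hg, e⟩ := x.2
        show QuotientGroup.map Q Q (φ 1).toMonoidHom (hmap 1) x.1 = x.1
        rw [← e]
        show π (φ 1 g) = π g
        rw [map_one]
        rfl)
      mul_smul := fun s t x => Subtype.ext (by
        obtain ⟨g, hg, e⟩ := x.2
        show QuotientGroup.map Q Q (φ (s * t)).toMonoidHom (hmap _) x.1 =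
          QuotientGroup.map Q Q (φ s).toMonoidHom (hmap s)
            (QuotientGroup.map Q Q (φ t).toMonoidHom (hmap t) x.1)
        rw [← e]
        show π (φ (s * t) g) = π (φ s (φ t g))
        rw [map_mul]
        rfl) }
  let U : Subgroup (K ⧸ Q) := (Char.stab θ).map π
  have hmemA : ∀ t, t * g₀ ∈ A ↔ t ∈ Char.stab θ := by
    intro t
    have e : ∀ g, Clifford.conjFun Q g θ = Char.conjG θ g := fun g =>
      funext fun q => Clifford.conjFun_apply Q g θ q
    show Clifford.conjFun Q (t * g₀) θ = θ' ↔ Char.conjG θ t = θ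
    rw [e, hg₀, e, ← Char.conjG_mul]
    refine ⟨fun h1 => ?_, fun h1 => by rw [h1]⟩
    have h2 := congrArg (fun f => Char.conjG f g₀⁻¹) h1
    simpa [Char.conjG_mul, Char.conjG_one] using h2
  have hcard : Nat.card X = Nat.card U := Nat.card_congr
    { toFun := fun x => ⟨x.1 * (π g₀)⁻¹, by
        obtain ⟨g, hg, e⟩ := x.2
        exact ⟨g * g₀⁻¹, (hmemA _).mp (by rwa [inv_mul_cancel_right]), by
          rw [← e, map_mul, map_inv]⟩⟩
      invFun := fun x => ⟨x.1 * π g₀, by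
        obtain ⟨t, ht, e⟩ := x.2
        exact ⟨t * g₀, (hmemA t).mpr ht, by rw [← e, map_mul]⟩⟩
      left_inv := fun x => Subtype.ext (inv_mul_cancel_right _ _)
      right_inv := fun x => Subtype.ext (mul_inv_cancel_right _ _) }
  obtain ⟨x, hx⟩ := hs.pgroup.nonempty_fixed_point_of_prime_not_dvd_card X fun hd =>
    hs.not_dvd (by
      rw [Subgroup.index_eq_card]
      exact (hcard ▸ hd).trans U.card_subgroup_dvd_card)
  obtain ⟨g, hg, e⟩ := x.2
  refine ⟨g, (hs.mem_iff g).mpr fun s => ?_, hg.symm⟩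
  have h1 : π (φ s g) = π g := by
    have h2 : QuotientGroup.map Q Q (φ s).toMonoidHom (hmap s) x.1 = x.1 :=
      congrArg Subtype.val (hx s)
    rw [← e] at h2
    exact h2
  rw [← QuotientGroup.eq_one_iff]
  show π (φ s g * g⁻¹) = 1
  rw [map_mul, map_inv, h1, mul_inv_cancel]

variable [Fintype (Q.subgroupOf C)]

theorem NSetup.over_of_mult_ne_zero {χ : Cfsg.IrrCharacter K} {ξ : Cfsg.IrrCharacter C} {θ : Q → ℂ}
    (hθ : Cfsg.IsIrrCharacter Q θ) (hm : mult C.subtype χ ξ ≠ 0)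
    (hov : Cfsg.classInner (fun q : Q.subgroupOf C => (ξ : C → ℂ) q)
      (θ ∘ Subgroup.subgroupOfEquivOfLe hs.le) ≠ 0) :
    Cfsg.classInner (fun q : Q => (χ : K → ℂ) q) θ ≠ 0 := by
  have h1 := Clifford.classInner_ne_zero_trans
    (Char.IsCharacter.comp (Char.isCharacter_irr χ) C.subtype) ξ.2
    ((mult_spec C.subtype χ ξ).trans_ne (Nat.cast_ne_zero.mpr hm)) (Q.subgroupOf C).subtype
    (Char.IsCharacter.comp (Char.IsIrrCharacter.isCharacter hθ)
      (Subgroup.subgroupOfEquivOfLe hs.le).toMonoidHom) hov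
  exact (classInner_subgroupOf_eq hs hs.le (fun q : Q => (χ : K → ℂ) q) θ).symm.trans_ne h1

theorem NSetup.exists_inv_under (ξ : Cfsg.IrrCharacter C) (hξ : Inv hs.actC (ξ : C → ℂ)) :
    ∃ θ : Q → ℂ, Cfsg.IsIrrCharacter Q θ ∧ hs.QInv θ ∧
      Cfsg.classInner (fun q : Q.subgroupOf C => (ξ : C → ℂ) q)
        (θ ∘ Subgroup.subgroupOfEquivOfLe hs.le) ≠ 0 := by
  obtain ⟨θ₁, hi, hne⟩ := exists_inv_constituent_of_index hs.prime hs.pgroup hs.actC
    (Q.subgroupOf C)
    (fun s n hn => Subgroup.mem_subgroupOf.mpr (hs.qinv s _ (Subgroup.mem_subgroupOf.mp hn)))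
    (fun h => hs.not_dvd (h.trans (Subgroup.relIndex_dvd_index_of_normal Q C))) ξ hξ
  refine ⟨(θ₁ : Q.subgroupOf C → ℂ) ∘ (Subgroup.subgroupOfEquivOfLe hs.le).symm,
    Char.IsIrrCharacter.comp_equiv θ₁.2 (Subgroup.subgroupOfEquivOfLe hs.le).symm,
    fun s q => ?_, ?_⟩
  · exact hi s ((Subgroup.subgroupOfEquivOfLe hs.le).symm q)
  · rwa [Function.comp_assoc, show (Subgroup.subgroupOfEquivOfLe hs.le).symm ∘
      Subgroup.subgroupOfEquivOfLe hs.le = id from funext fun x => MulEquiv.symm_apply_apply _ x,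
      Function.comp_id]

theorem NSetup.forward (χ : Cfsg.IrrCharacter K) (hχ : Inv φ (χ : K → ℂ)) :
    ∃ ξ : Cfsg.IrrCharacter C, Inv hs.actC (ξ : C → ℂ) ∧ ¬ p ∣ mult C.subtype χ ξ ∧
      ((mult C.subtype χ ξ : ℤ) ≡ 1 [ZMOD p] ∨ (mult C.subtype χ ξ : ℤ) ≡ -1 [ZMOD p]) ∧
      ∀ ξ' : Cfsg.IrrCharacter C, Inv hs.actC (ξ' : C → ℂ) →
        ¬ p ∣ mult C.subtype χ ξ' → ξ' = ξ := by
  obtain ⟨θ, hi, hov⟩ := exists_inv_constituent_of_index hs.prime hs.pgroup φ Q hs.qinv hs.not_dvd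
    χ hχ
  obtain ⟨ξ, h1, h2, h3, h4⟩ := (hs.layer θ.2 hi).1 χ hχ hov
  refine ⟨ξ, h1, h2, h3, fun ξ' hξ' hp' => h4 ξ' ?_ hp'⟩
  obtain ⟨θ', hθ', hi', hov'⟩ := hs.exists_inv_under ξ' hξ'
  have hm : mult C.subtype χ ξ' ≠ 0 := fun h => hp' (h ▸ dvd_zero p)
  obtain ⟨c, hc, rfl⟩ := hs.exists_conj_mem θ.2 hθ' hi hi' hov (hs.over_of_mult_ne_zero hθ' hm hov')
  rw [← Clifford.classInner_restrict_conjFun (Q.subgroupOf C) (⟨c, hc⟩ : C)
    (Char.IsIrrCharacter.isClassFunction ξ'.2)]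
  refine (congrArg (Cfsg.classInner _) (funext fun x => ?_)).trans_ne hov'
  simp only [Function.comp_apply, Clifford.conjFun_apply]
  rfl

theorem NSetup.backward (ξ : Cfsg.IrrCharacter C) (hξ : Inv hs.actC (ξ : C → ℂ)) :
    ∃ χ : Cfsg.IrrCharacter K, Inv φ (χ : K → ℂ) ∧ ¬ p ∣ mult C.subtype χ ξ ∧
      ∀ χ' : Cfsg.IrrCharacter K, Inv φ (χ' : K → ℂ) →
        ¬ p ∣ mult C.subtype χ' ξ → χ' = χ := by
  obtain ⟨θ, hθ, hi, hov⟩ := hs.exists_inv_under ξ hξ
  obtain ⟨χ, h1, h2, h3⟩ := (hs.layer hθ hi).2 ξ hov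
  exact ⟨χ, h1, h2, fun χ' hχ' hp' => h3 χ' hχ'
    (hs.over_of_mult_ne_zero hθ (fun h => hp' (h ▸ dvd_zero p)) hov) hp'⟩

/-- The degree of the correspondent, up to sign, modulo `p`. -/
theorem NSetup.degree_cong {χ : Cfsg.IrrCharacter K} (hχ : Inv φ (χ : K → ℂ))
    {ξ : Cfsg.IrrCharacter C} (hξ : Inv hs.actC (ξ : C → ℂ))
    (huniq : ∀ ξ' : Cfsg.IrrCharacter C, Inv hs.actC (ξ' : C → ℂ) → ξ' ≠ ξ →
      p ∣ mult C.subtype χ ξ') :
    Cong p ((χ : K → ℂ) 1) ((mult C.subtype χ ξ : ℂ) * (ξ : C → ℂ) 1) := by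
  haveI : Fact p.Prime := ⟨hs.prime⟩
  have hint : ∀ η : Cfsg.IrrCharacter C, IsIntegral ℤ ((η : C → ℂ) 1) := fun η =>
    Char.IsCharacter.isIntegral (Char.isCharacter_irr η) 1
  have h1 := cong_sum_fixed hs.pgroup (irrPerm hs.actC)
    (fun η : Cfsg.IrrCharacter C => (mult C.subtype χ η : ℂ) * (η : C → ℂ) 1)
    (fun η => (isIntegral_natCast _).mul (hint η))
    (fun s η => by
      rw [mult_comp_equiv (χ := χ) (χ' := χ) (β := η) (β' := irrPerm hs.actC s η) (φ s).symm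
        (hs.actC s).symm
        (fun c => by
          rw [MulEquiv.eq_symm_apply]
          exact congrArg Subtype.val ((hs.actC s).apply_symm_apply c))
        (fun g => by
          have := hχ s ((φ s).symm g)
          rwa [MulEquiv.apply_symm_apply] at this)
        (fun _ => rfl), irrPerm_apply, map_one])
  have h2 := comp_eq_sum C.subtype χ 1
  rw [map_one] at h2
  rw [h2]
  refine h1.trans ?_
  rw [← Finset.add_sum_erase _ _
    (Finset.mem_filter.mpr ⟨Finset.mem_univ ξ, irrPerm_fixed_iff.mpr hξ⟩)]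
  conv_rhs => rw [← add_zero ((mult C.subtype χ ξ : ℂ) * (ξ : C → ℂ) 1)]
  refine (Cong.refl _).add ?_
  have h3 := Cong.sum (p := p) ((Finset.univ.filter fun η : Cfsg.IrrCharacter C =>
      ∀ s, irrPerm hs.actC s η = η).erase ξ) (g := fun _ => (0 : ℂ))
    (f := fun η => (mult C.subtype χ η : ℂ) * (η : C → ℂ) 1) fun η hη => by
      simp only [Finset.mem_erase, Finset.mem_filter] at hη
      have := ((Cong.nat_zero_iff hs.prime.ne_zero _).mpr
        (huniq η (irrPerm_fixed_iff.mp hη.2.2) hη.1)).mul_right (hint η)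
      simpa using this
  simpa using h3

end CfsgLib.CharDeep.Glauberman
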