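import Cfsg.Agent.Lib.CharDeep.Glauberman.Correspondence
import Cfsg.Agent.Lib.CharDeep.Glauberman.Subgroups
import Cfsg.Agent.Lib.Char.Perm

/-!
# Glauberman's correspondence and real characters
-/

set_option autoImplicit false

universe u v

namespace CfsgLib.CharDeep.Glauberman

open scoped ComplexConjugate

variable {P : Type v} {G C : Type u} [Group P] [Group G] [Group C] [Fintype G] [Fintype C]
  {p : ℕ} {φ : P →* MulAut G} {ι : C →* G}

/-- The complex conjugate of an irreducible character. -/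
noncomputable def conjIrr (χ : Cfsg.IrrCharacter G) : Cfsg.IrrCharacter G :=
  ⟨fun g => conj ((χ : G → ℂ) g), Char.IsIrrCharacter.conj' χ.2⟩

theorem conjIrr_eq_iff (χ : Cfsg.IrrCharacter G) :
    conjIrr χ = χ ↔ ∀ g, ((χ : G → ℂ) g).im = 0 := by
  refine ⟨fun h g => Complex.conj_eq_iff_im.1
    (congrArg (fun ψ : Cfsg.IrrCharacter G => (ψ : G → ℂ) g) h), fun h =>
    Subtype.ext (funext fun g => Complex.conj_eq_iff_im.2 (h g))⟩

theorem inv_conjIrr {χ : Cfsg.IrrCharacter G} (h : Inv φ (χ : G → ℂ)) :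
    Inv φ (conjIrr χ : G → ℂ) := fun s g => congrArg conj (h s g)

theorem mult_conjIrr (ι : C →* G) (χ : Cfsg.IrrCharacter G) (β : Cfsg.IrrCharacter C) :
    mult ι (conjIrr χ) (conjIrr β) = mult ι χ β := by
  apply Nat.cast_injective (R := ℂ)
  rw [← mult_spec, ← Complex.conj_natCast (mult ι χ β), ← mult_spec]
  simp only [Cfsg.classInner, conjIrr, Function.comp, map_mul, map_sum, map_inv₀,
    Complex.conj_natCast]

theorem Setup.real_iff (hs : Setup p φ ι) {χ : Cfsg.IrrCharacter G} (hχ : Inv φ (χ : G → ℂ)) :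
    (∀ g, ((χ : G → ℂ) g).im = 0) ↔ ∀ c, ((hs.corr χ : C → ℂ) c).im = 0 := by
  rw [← conjIrr_eq_iff, ← conjIrr_eq_iff]
  have h1 := hs.corr_spec χ
  rw [← mult_conjIrr] at h1
  refine ⟨fun h => ?_, fun h => ?_⟩
  · rw [h] at h1
    exact hs.mult_unique hχ h1 (hs.corr_spec χ)
  · rw [h] at h1
    exact hs.inv_unique (inv_conjIrr hχ) hχ h1 (hs.corr_spec χ)

/-- The real classes. -/
def RealCl (G : Type u) [Group G] (c : ConjClasses G) : Prop :=
  ∀ g : G, ConjClasses.mk g = c → IsConj g g⁻¹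

theorem Setup.card_real_inv (hs : Setup p φ ι) :
    Nat.card {χ : Cfsg.IrrCharacter G // (∀ g, ((χ : G → ℂ) g).im = 0) ∧ Inv φ (χ : G → ℂ)}
      = Nat.card {c : ConjClasses G // RealCl G c ∧ InvClass φ c} := by
  have h1 : Nat.card {χ : Cfsg.IrrCharacter G //
      (∀ g, ((χ : G → ℂ) g).im = 0) ∧ Inv φ (χ : G → ℂ)}
      = Nat.card {β : Cfsg.IrrCharacter C // ∀ c, ((β : C → ℂ) c).im = 0} := by
    refine Nat.card_congr (Equiv.ofBijective
      (fun χ => ⟨hs.corr χ.1, (hs.real_iff χ.2.2).1 χ.2.1⟩) ⟨fun χ ψ h => ?_, fun β => ?_⟩)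
    · have h2 : (⟨χ.1, χ.2.2⟩ : {χ : Cfsg.IrrCharacter G // Inv φ (χ : G → ℂ)}) = ⟨ψ.1, ψ.2.2⟩ :=
        hs.corr_bijective.1 (congrArg Subtype.val h)
      exact Subtype.ext (congrArg (fun x : {χ : Cfsg.IrrCharacter G // Inv φ (χ : G → ℂ)} => x.1) h2)
    · obtain ⟨⟨χ, hχ⟩, h⟩ := hs.corr_bijective.2 β.1
      have h' : hs.corr χ = β.1 := h
      exact ⟨⟨χ, (hs.real_iff hχ).2 (h' ▸ β.2), hχ⟩, Subtype.ext h'⟩
  rw [h1, Char.card_real_irr]
  refine Nat.card_congr (Equiv.ofBijective (fun c => ⟨ConjClasses.map ι c.1, ?_, ?_⟩) ⟨?_, ?_⟩)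
  · intro g hg
    obtain ⟨z, hz⟩ := ConjClasses.mk_surjective c.1
    rw [← hz] at hg
    have hg' : IsConj g (ι z) := ConjClasses.mk_eq_mk_iff_isConj.1 hg
    obtain ⟨a, ha⟩ := isConj_iff.1 hg'
    have h2 : IsConj (g⁻¹) (ι z)⁻¹ := isConj_iff.2 ⟨a, by rw [← ha]; group⟩
    refine hg'.trans (IsConj.trans ?_ h2.symm)
    rw [← map_inv]
    exact ι.map_isConj (c.2 z hz)
  · intro s g hg
    obtain ⟨z, hz⟩ := ConjClasses.mk_surjective c.1
    rw [← hz] at hg ⊢
    have hg' : IsConj g (ι z) := ConjClasses.mk_eq_mk_iff_isConj.1 hg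
    refine ConjClasses.mk_eq_mk_iff_isConj.2 ?_
    have h2 := (φ s).toMonoidHom.map_isConj hg'
    simpa [hs.map_fixed s z] using h2
  · intro c d h
    obtain ⟨z, hz⟩ := ConjClasses.mk_surjective c.1
    obtain ⟨w, hw⟩ := ConjClasses.mk_surjective d.1
    have h2 := congrArg Subtype.val h
    simp only [← hz, ← hw] at h2
    refine Subtype.ext ?_
    rw [← hz, ← hw]
    exact ConjClasses.mk_eq_mk_iff_isConj.2
      (hs.isConj_of_isConj (ConjClasses.mk_eq_mk_iff_isConj.1 h2))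
  · rintro ⟨d, hdr, hdi⟩
    obtain ⟨g, rfl⟩ := ConjClasses.mk_surjective d
    obtain ⟨z, hz⟩ := hs.exists_of_fixed_class fun s =>
      ConjClasses.mk_eq_mk_iff_isConj.1 (hdi s g rfl)
    refine ⟨⟨ConjClasses.mk z, fun c hc => ?_⟩,
      Subtype.ext (ConjClasses.mk_eq_mk_iff_isConj.2 hz)⟩
    have hcz : IsConj (ι c) (ι z) := ι.map_isConj (ConjClasses.mk_eq_mk_iff_isConj.1 hc)
    refine hs.isConj_of_isConj ?_
    rw [map_inv]
    exact hdr _ (ConjClasses.mk_eq_mk_iff_isConj.2 (hcz.trans hz))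

theorem Setup.exists_fixed_of_real (hs : Setup p φ ι)
    (hall : ∀ χ : Cfsg.IrrCharacter G, (∀ g, ((χ : G → ℂ) g).im = 0) → Inv φ (χ : G → ℂ))
    {k : G} (hk : IsConj k k⁻¹) : ∃ z, IsConj k (ι z) := by
  have hreal : RealCl G (ConjClasses.mk k) := fun g hg => by
    have hgk := ConjClasses.mk_eq_mk_iff_isConj.1 hg
    obtain ⟨a, ha⟩ := isConj_iff.1 hgk
    exact hgk.trans (hk.trans (isConj_iff.2 ⟨a, by rw [← ha]; group⟩ : IsConj g⁻¹ k⁻¹).symm)
  have hcard : Nat.card {c : ConjClasses G // RealCl G c}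
      ≤ Nat.card {c : ConjClasses G // RealCl G c ∧ InvClass φ c} := by
    rw [← hs.card_real_inv]
    refine le_of_eq ?_
    rw [show Nat.card {c : ConjClasses G // RealCl G c}
      = Nat.card {χ : Cfsg.IrrCharacter G // ∀ g, ((χ : G → ℂ) g).im = 0} from
      Char.card_real_irr.symm]
    exact Nat.card_congr (Equiv.subtypeEquivRight fun χ => ⟨fun h => ⟨h, hall χ h⟩, fun h => h.1⟩)
  let emb : {c : ConjClasses G // RealCl G c ∧ InvClass φ c} → {c : ConjClasses G // RealCl G c} :=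
    fun c => ⟨c.1, c.2.1⟩
  have hinj : Function.Injective emb := fun c d h =>
    Subtype.ext (congrArg (fun x : {c : ConjClasses G // RealCl G c} => x.1) h)
  obtain ⟨c, hc⟩ := (hinj.bijective_of_nat_card_le hcard).2 ⟨_, hreal⟩
  have hce : c.1 = ConjClasses.mk k := congrArg (fun x : {c : ConjClasses G // RealCl G c} => x.1) hc
  have hci : InvClass φ (ConjClasses.mk k) := hce ▸ c.2.2
  obtain ⟨z, hz⟩ := hs.exists_of_fixed_class fun s =>
    ConjClasses.mk_eq_mk_iff_isConj.1 (hci s k rfl)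
  exact ⟨z, hz.symm⟩

end CfsgLib.CharDeep.Glauberman
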